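import Cfsg.Agent.H30.ABGCol

/-! Integer columns in the semidihedral case, with the two distinguished characters. -/

set_option autoImplicit false

open scoped ComplexConjugate

namespace Cfsg.Agent.H30

open H22

section

variable {ι : Type*} [Fintype ι] [DecidableEq ι]

theorem qd_lattice' {J : Type*} [Fintype J] {o : ι} {d z f e : ι → ℤ} {c : J → ι → ℤ}
    {sg : J → ℤ} {r : Fin 3 → J} {Q : ℤ} {W : ℂ} (hd : ∀ i, d i ≠ 0)
    (hd1 : ∀ i ≠ o, d i ≠ 1 ∧ d i ≠ -1) (hdo : d o = 1) (hsg : ∑ j, sg j = -2)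
    (hcc : ∀ j, c j ⬝ᵥ c j = 3) (hcr : ∀ j a, c j ⬝ᵥ c (r a) = 2 ∨ c j ⬝ᵥ c (r a) = 3)
    (hrr : ∀ a b, a ≠ b → c (r a) ⬝ᵥ c (r b) = 2) (hee : e ⬝ᵥ e = 4) (hec : ∀ j, e ⬝ᵥ c j = 2)
    (hff : f ⬝ᵥ f = 8) (hfe : f ⬝ᵥ e = 0) (hfc : ∀ j, f ⬝ᵥ c j = 0) (hfo : f o = 1)
    (heo : e o = 1) (hco : ∀ j, c j o = 1) (hfd : f ⬝ᵥ d = 0) (hed : e ⬝ᵥ d = 0)
    (hcd : ∀ j, c j ⬝ᵥ d = 0) (hpar : ∀ i, Even (f i + e i))
    (hz : ∀ i, 2 * z i = f i * (1 + Q) - (e i + ∑ j, sg j * c j i) * (1 - Q))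
    (hAf : invF d z f = 2 * W) (hAe : invF d z e = 0) :
    ∃ a x : ℤ, (a ≠ 0 ∧ a + 1 ≠ 0 ∧ x - a ≠ 1 ∧ W * (a * (a + 1)) = (a + Q + 1) ^ 2 ∧
      W * (a * x * (x - a)) = ((Q + 1) * x - Q * a) ^ 2) ∧ ∃ X u : ι → ℤ,
      (X ⬝ᵥ X = 1 ∧ X ⬝ᵥ d = a ∧ z ⬝ᵥ X = Q + 1 ∧ f ⬝ᵥ X = 2) ∧
        u ⬝ᵥ u = 1 ∧ u ⬝ᵥ d = x ∧ z ⬝ᵥ u = -Q ∧ f ⬝ᵥ u = -1 := by
  choose b hb using hpar
  obtain ⟨b', hb'⟩ : ∃ b', b' = f - b := ⟨_, rfl⟩
  obtain rfl : f = b + b' := by simp [hb']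
  obtain rfl : e = b - b' := funext fun i => by have := hb i; simp at this ⊢; omega
  obtain ⟨O, hO⟩ : ∃ O : ι → ℤ, O = Pi.single o 1 := ⟨_, rfl⟩
  have vO : ∀ v : ι → ℤ, v ⬝ᵥ O = v o := fun v => by simp [hO]
  have OO : O ⬝ᵥ O = 1 := by simp [hO]
  have Od : O ⬝ᵥ d = 1 := by rw [dotProduct_comm, vO, hdo]
  rw [← vO (b + b')] at hfo
  rw [← vO (b - b')] at heo
  simp only [← vO (c _)] at hco
  have hzu : ∀ u : ι → ℤ, 2 * (z ⬝ᵥ u) = (b ⬝ᵥ u + b' ⬝ᵥ u) * (1 + Q) -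
      (b ⬝ᵥ u - b' ⬝ᵥ u + ∑ j, sg j * (c j ⬝ᵥ u)) * (1 - Q) := fun u => by
    have : (2 : ℤ) • z = (1 + Q) • (b + b') - (1 - Q) • (b - b' + ∑ j, sg j • c j) :=
      funext fun i => by simp [hz i, mul_comm]; ring
    have := congrArg (· ⬝ᵥ u) this
    simp only [smul_dotProduct, sub_dotProduct, add_dotProduct, sum_dotProduct, smul_eq_mul] at this
    linear_combination this
  simp only [add_dotProduct, sub_dotProduct, dotProduct_add, dotProduct_sub, dotProduct_comm b' b]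
    at hee hec hff hfe hfc hfo heo hfd hed
  have bb : b ⬝ᵥ b = 3 := by omega
  have bb' : b ⬝ᵥ b' = 1 := by omega
  have b'b' : b' ⬝ᵥ b' = 3 := by omega
  have bc : ∀ j, b ⬝ᵥ c j = 1 := fun j => by have := hec j; have := hfc j; omega
  have b'c : ∀ j, b' ⬝ᵥ c j = -1 := fun j => by have := hec j; have := hfc j; omega
  have bO : b ⬝ᵥ O = 1 := by omega
  have b'O : b' ⬝ᵥ O = 0 := by omega
  obtain ⟨u, uu, cu⟩ := exists_common3 (v := fun a => c (r a) - O) (d := d)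
    (fun a => by simp [sub_dotProduct, dotProduct_sub, hcc, hco, OO, dotProduct_comm O])
    (fun a a' h => by simp [sub_dotProduct, dotProduct_sub, hrr a a' h, hco, OO, dotProduct_comm O])
    fun a => by simp [sub_dotProduct, hcd, Od]
  have uO : u ⬝ᵥ O = 0 := by
    have h1 := cu 0
    have := unit_orth (u := u) (w := c (r 0) - O - u) (E := O) uu (by
      simp only [sub_dotProduct, dotProduct_sub, hcc, hco, OO, uu, dotProduct_comm O,
        dotProduct_comm u (c _)] at h1 ⊢; omega) OO (by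
      simp only [sub_dotProduct, dotProduct_sub, uu, dotProduct_comm O,
        dotProduct_comm u (c _)] at h1 ⊢; omega) (by simp [sub_dotProduct, hco, OO])
    exact this.1
  simp only [sub_dotProduct, dotProduct_comm O u, uO, sub_zero] at cu
  have bes := fun v β γ => bessel4 (u := u) (v := v) (E := fun a => c (r a) - O - u) (β := β)
    (γ := γ) uu (fun a => by simp [sub_dotProduct, dotProduct_sub, hcc, hco, OO, uu, uO, cu,
      dotProduct_comm O, dotProduct_comm u (c _)])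
    (fun a a' h => by simp [sub_dotProduct, dotProduct_sub, hrr a a' h, hco, OO, uu, uO, cu,
      dotProduct_comm O, dotProduct_comm u (c _)])
    (fun a => by simp [sub_dotProduct, uu, uO, cu, dotProduct_comm O])
  have cu' : ∀ j, c j ⬝ᵥ u = 1 := fun j => by
    by_cases h : ∃ a, c j ⬝ᵥ c (r a) = 3
    · obtain ⟨a, ha⟩ := h
      rw [sub_eq_zero.1 (dotProduct_self_eq_zero.1 (by
        simp [sub_dotProduct, dotProduct_sub, hcc, ha, dotProduct_comm (c (r a))] :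
          (c j - c (r a)) ⬝ᵥ (c j - c (r a)) = 0)), cu]
    · have h2 : ∀ a, c j ⬝ᵥ c (r a) = 2 := fun a => (hcr j a).resolve_right fun e => h ⟨a, e⟩
      have := (bes (c j - O) (c j ⬝ᵥ u) (1 - c j ⬝ᵥ u) (by simp [sub_dotProduct, uO,
        dotProduct_comm O]) fun a => by
          simp [sub_dotProduct, dotProduct_sub, h2, hco, OO, uO, dotProduct_comm O]).1
      simp only [sub_dotProduct, dotProduct_sub, hcc, hco, OO, dotProduct_comm O] at this
      nlinarith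
  have bu : b ⬝ᵥ u = 0 := by
    have := (bes (b - O) (b ⬝ᵥ u) (- b ⬝ᵥ u) (by simp [sub_dotProduct, uO, dotProduct_comm O])
      fun a => by simp [sub_dotProduct, dotProduct_sub, bc, bO, hco, OO, uO, dotProduct_comm O]).1
    simp only [sub_dotProduct, dotProduct_sub, bb, bO, OO, dotProduct_comm O, neg_dotProduct] at this
    nlinarith
  have b'u : b' ⬝ᵥ u = -1 := by
    obtain ⟨h1, h2⟩ := bes b' (b' ⬝ᵥ u) (-1 - b' ⬝ᵥ u) rfl
      fun a => by simp [dotProduct_sub, b'c, b'O]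
    rw [b'b'] at h1 h2
    by_contra hne
    have h0 : b' ⬝ᵥ u = 0 := by
      rcases lt_trichotomy (b' ⬝ᵥ u) (-1) with e | e | e
      · nlinarith
      · exact absurd e hne
      · nlinarith
    rw [h0] at h2
    have := congrArg (b ⬝ᵥ ·) (h2 (by norm_num))
    simp [bb', dotProduct_add, dotProduct_sub, bc, bO, bu] at this
  obtain ⟨X, XX, bX, b'X⟩ := exists_common (v := b - O) (w := b' + u)
    (by simp [sub_dotProduct, dotProduct_sub, bb, bO, OO, dotProduct_comm O])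
    (by simp [add_dotProduct, dotProduct_add, b'b', b'u, uu, dotProduct_comm u b'])
    (by simp [sub_dotProduct, dotProduct_add, bb', bu, b'O, uO, dotProduct_comm O])
  obtain ⟨w, hw⟩ : ∃ w, w = b - O - X := ⟨_, rfl⟩
  obtain ⟨w', hw'⟩ : ∃ w', w' = b' + u - X := ⟨_, rfl⟩
  obtain rfl : b = O + X + w := by rw [hw]; abel
  obtain rfl : b' = X - u + w' := by rw [hw']; abel
  simp only [add_dotProduct, sub_dotProduct, dotProduct_add, dotProduct_sub, OO, XX, uu, uO,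
    dotProduct_comm O, dotProduct_comm u X, dotProduct_comm w X, dotProduct_comm w' X,
    dotProduct_comm u w, dotProduct_comm u w', dotProduct_comm w' w, dotProduct_comm u (c _), cu',
    hco] at bb bb' b'b' bO b'O bu b'u bX b'X bc b'c
  have ww : w ⬝ᵥ w = 1 := by omega
  have Xw : X ⬝ᵥ w = 0 := by omega
  have w'w' : w' ⬝ᵥ w' = 1 := by omega
  have Xw' : X ⬝ᵥ w' = 0 := by omega
  obtain ⟨XO, wO⟩ := unit_orth XX ww OO Xw (by rw [add_dotProduct]; omega)
  obtain ⟨Xu, wu⟩ := unit_orth XX ww uu Xw (by rw [add_dotProduct]; omega)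
  have w'O : w' ⬝ᵥ O = 0 := by omega
  have w'u : w' ⬝ᵥ u = 0 := by omega
  have ww' : w ⬝ᵥ w' = 0 := by omega
  have hE : ∀ j, (c j - O - u) ⬝ᵥ (c j - O - u) = 1 := fun j => by
    simp [sub_dotProduct, dotProduct_sub, hcc, hco, OO, uu, uO, cu', dotProduct_comm O,
      dotProduct_comm u (c _)]
  have hX : ∀ j, c j ⬝ᵥ X = 0 ∧ c j ⬝ᵥ w = 0 ∧ c j ⬝ᵥ w' = 0 := fun j => by
    have h1 := unit_orth XX ww (hE j) Xw (by
      have := bc j
      simp only [add_dotProduct, dotProduct_sub, XO, wO, Xu, wu]; omega)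
    have h2 := unit_orth XX w'w' (hE j) Xw' (by
      have := b'c j
      simp only [add_dotProduct, dotProduct_sub, XO, w'O, Xu, w'u]; omega)
    simp only [dotProduct_sub, XO, wO, Xu, wu, w'O, w'u, sub_zero] at h1 h2
    exact ⟨dotProduct_comm X _ ▸ h1.1, dotProduct_comm w _ ▸ h1.2, dotProduct_comm w' _ ▸ h2.2⟩
  have zO := hzu O
  have zX := hzu X
  have zw := hzu w
  have zw' := hzu w'
  have zu := hzu u
  simp only [add_dotProduct, sub_dotProduct, OO, XX, uu, uO, ww, w'w', XO, wO, w'O, Xu, wu, w'u,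
    Xw, Xw', ww', dotProduct_comm O, dotProduct_comm u X, dotProduct_comm w X, dotProduct_comm w' X,
    dotProduct_comm u w, dotProduct_comm u w', dotProduct_comm w' w, cu', hco, hX, mul_one, hsg,
    mul_zero, Finset.sum_const_zero] at zO zX zw zw' zu
  obtain ⟨-, aO⟩ := invF_unit hd z OO
  obtain ⟨nX, aX⟩ := invF_unit hd z XX
  obtain ⟨nw, aw⟩ := invF_unit hd z ww
  obtain ⟨nw', aw'⟩ := invF_unit hd z w'w'
  obtain ⟨nu, au⟩ := invF_unit hd z uu
  rw [show z ⬝ᵥ O = 1 by linarith, Od] at aO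
  rw [show z ⬝ᵥ X = Q + 1 by linarith] at aX
  rw [show z ⬝ᵥ w = Q by linarith] at aw
  rw [show z ⬝ᵥ w' = 1 by linarith] at aw'
  rw [show z ⬝ᵥ u = -Q by linarith] at au
  simp only [add_dotProduct, sub_dotProduct, Od] at hfd hed
  rw [show w ⬝ᵥ d = -(X ⬝ᵥ d + 1) by omega] at aw nw
  have e' : w' ⬝ᵥ d = u ⬝ᵥ d - X ⬝ᵥ d := by omega
  simp only [invF_add, invF_sub] at hAf hAe
  refine ⟨X ⬝ᵥ d, u ⬝ᵥ d, ⟨nX, by omega, ?_, ?_, ?_⟩, X, u, ⟨XX, rfl, by linarith, ?_⟩, uu, rfl,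
    by linarith, ?_⟩
  · rw [← e']
    obtain ⟨i, ε, hε, rfl⟩ := unit_form w'w'
    have : i ≠ o := by
      rintro rfl
      rw [vO] at w'O
      rcases hε with rfl | rfl <;> simp at w'O
    have := hd1 i this
    rcases hε with rfl | rfl <;> simp <;> omega
  · push_cast at aO aX aw ⊢
    linear_combination (-(X ⬝ᵥ d : ℤ) * ((X ⬝ᵥ d : ℤ) + 1) / 2 : ℂ) * (hAf + hAe) +
      (X ⬝ᵥ d : ℤ) * ((X ⬝ᵥ d : ℤ) + 1) * aO + ((X ⬝ᵥ d : ℤ) + 1) * aX - (X ⬝ᵥ d : ℤ) * aw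
  · rw [e'] at aw'
    push_cast at au aX aw' ⊢
    linear_combination (-(X ⬝ᵥ d : ℤ) * (u ⬝ᵥ d : ℤ) * ((u ⬝ᵥ d : ℤ) - (X ⬝ᵥ d : ℤ)) / 2 : ℂ) *
      (hAf - hAe) + (u ⬝ᵥ d : ℤ) * ((u ⬝ᵥ d : ℤ) - (X ⬝ᵥ d : ℤ)) * aX -
      (X ⬝ᵥ d : ℤ) * ((u ⬝ᵥ d : ℤ) - (X ⬝ᵥ d : ℤ)) * au + (X ⬝ᵥ d : ℤ) * (u ⬝ᵥ d : ℤ) * aw'
  · simp only [add_dotProduct, sub_dotProduct, XX, XO, Xu, Xw, Xw', dotProduct_comm O,
      dotProduct_comm u X, dotProduct_comm w X, dotProduct_comm w' X]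
    rfl
  · simp only [add_dotProduct, sub_dotProduct, uu, uO, Xu, wu, w'u, dotProduct_comm O]
    rfl

end

theorem qd_columns' {ι : Type*} [Fintype ι] [DecidableEq ι] {R M : ℕ} [NeZero R] (hR : R = 2 * M)
    (hM4 : 4 ≤ M) (hM2 : Even M) {e : AddChar (ZMod R) ℂ} (he : e.IsPrimitive)
    (hfix : ∀ j : ZMod R, (M - 1) * j = j → j = 0 ∨ j = M) {o : ι} {d z d2 : ι → ℤ}
    {v : ι → ZMod R → ℂ} {m : ι → ZMod R → ℤ} {Q t : ℤ} {W : ℂ} (hd : ∀ i, d i ≠ 0)
    (hd1 : ∀ i ≠ o, d i ≠ 1 ∧ d i ≠ -1) (hdo : d o = 1) (hQ : Q + 1 = M * t)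
    (hv : ∀ χ l, v χ l = ∑ j, m χ j * e (j * l)) (hinv : ∀ χ l, v χ ((M - 1) * l) = v χ l)
    (hvz : ∀ χ, v χ M = z χ) (hvo : ∀ l, v o l = 1) (hd2o : d2 o = 0) {g : ι → ZMod R → ℂ}
    (hg : ∀ χ l, g χ l = v χ l - if l = M then ((Q + 1) * d2 χ : ℤ) else 0) {f : ι → ℤ}
    (hf : ∀ χ, f χ = z χ - (Q - 1) * d2 χ)
    (gram : ∀ l μ, l ≠ 0 → μ ≠ 0 → ∑ χ, g χ l * conj (g χ μ) =
      R * ((if μ = l then 1 else 0) + (if μ = (M - 1) * l then 1 else 0)))
    (hff : f ⬝ᵥ f = 8) (hgf : ∀ l ≠ 0, ∑ χ, g χ l * f χ = 0) (hgd : ∀ l ≠ 0, ∑ χ, g χ l * d χ = 0)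
    (hfd : f ⬝ᵥ d = 0) (hAf : invF d z f = 2 * W)
    (hAe : ∀ l, e (M * l) ≠ 1 → ∑ χ, v χ l * (z χ * z χ / d χ) = 0) :
    ∃ a x : ℤ, (a ≠ 0 ∧ a + 1 ≠ 0 ∧ x - a ≠ 1 ∧ W * (a * (a + 1)) = (a + Q + 1) ^ 2 ∧
      W * (a * x * (x - a)) = ((Q + 1) * x - Q * a) ^ 2) ∧ ∃ X u : ι → ℤ,
      (X ⬝ᵥ X = 1 ∧ X ⬝ᵥ d = a ∧ z ⬝ᵥ X = Q + 1 ∧ f ⬝ᵥ X = 2) ∧
        u ⬝ᵥ u = 1 ∧ u ⬝ᵥ d = x ∧ z ⬝ᵥ u = -Q ∧ f ⬝ᵥ u = -1 := by
  classical
  have hR0 : (R : ℂ) ≠ 0 := by exact_mod_cast NeZero.ne R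
  have h2M : (2 * M : ZMod R) = 0 := by
    exact_mod_cast (ZMod.natCast_eq_zero_iff (2 * M) R).2 hR.dvd
  have hMM : (M * M : ZMod R) = 0 := by
    obtain ⟨M', hM'⟩ := hM2
    have : (M : ZMod R) = M' + M' := by exact_mod_cast congrArg _ hM'
    linear_combination (M' : ZMod R) * h2M + M * this
  have hqq : ∀ l : ZMod R, (M - 1) * ((M - 1) * l) = l := fun l => by
    linear_combination l * hMM - l * h2M
  have h0 : ∀ a : ℤ, a ≠ 0 → -(2 * M) < a → a < 2 * M → (a : ZMod R) ≠ 0 := fun a h1 h2 h3 e =>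
    h1 (Int.eq_zero_of_abs_lt_dvd ((ZMod.intCast_zmod_eq_zero_iff_dvd a R).1 e)
      (abs_lt.2 (by omega)))
  have hM0 : (M : ZMod R) ≠ 0 := by exact_mod_cast h0 M (by omega) (by omega) (by omega)
  obtain ⟨sg, hsg⟩ : ∃ sg : ZMod R → ℤ, ∀ k, e (k * M) = sg k ∧ (sg k = 1 ∨ sg k = -1) := by
    refine ⟨fun k => if e (k * M) = 1 then 1 else -1, fun k => ?_⟩
    have : e (k * M) * e (k * M) = 1 := by
      rw [← e.map_add_eq_mul, show k * M + k * M = 0 by linear_combination k * h2M, e.map_zero_eq_one]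
    beta_reduce
    split_ifs with h
    · simp [h]
    · simp [(mul_self_eq_one_iff.1 this).resolve_left h]
  have hsg' : ∀ k, e (-(k * M)) = sg k := fun k => by
    rw [← (hsg k).1]; congr 1; linear_combination -k * h2M
  have sgM : sg M = 1 := by
    have := (hsg M).1
    rw [hMM, e.map_zero_eq_one] at this
    exact_mod_cast this.symm
  have sg0 : sg 0 = 1 := by
    have := (hsg 0).1
    rw [zero_mul, e.map_zero_eq_one] at this
    exact_mod_cast this.symm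
  have hm := fun χ => fourier_coeff he (m := fun j => m χ j) (hv χ)
  obtain ⟨c, hc0⟩ : ∃ c : ZMod R → ι → ℤ, ∀ k χ,
      c k χ = m χ 0 - m χ k - if sg k = 1 then 0 else t * d2 χ := ⟨fun k χ => _, fun _ _ => rfl⟩
  have hc : ∀ k χ, (R : ℂ) * c k χ = ∑ l, g χ l * (1 - e (-(k * l))) := fun k χ => by
    simp only [hg, sub_mul, Finset.sum_sub_distrib, mul_sub, mul_one, hm]
    have := hm χ 0
    simp only [zero_mul, neg_zero, e.map_zero_eq_one, mul_one] at this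
    have hQ' : (Q : ℂ) + 1 = M * t := by exact_mod_cast hQ
    simp only [this, hc0, Int.cast_ite, ite_mul, Int.cast_zero, zero_mul, Finset.sum_ite_eq',
      Finset.mem_univ, if_true, hsg']
    rcases (hsg k).2 with h | h <;> simp [h, hR, hQ'] <;> ring
  have key : ∀ k (w : ι → ℂ), (R : ℂ) * ∑ χ, c k χ * w χ =
      ∑ l, (1 - e (-(k * l))) * ∑ χ, g χ l * w χ := fun k w => by
    simp only [Finset.mul_sum, ← mul_assoc, hc, Finset.sum_mul]
    rw [Finset.sum_comm]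
    exact Finset.sum_congr rfl fun l _ => Finset.sum_congr rfl fun χ _ => by ring
  have key0 : ∀ k (w : ι → ℂ), (∀ l, e (-(k * l)) ≠ 1 → ∑ χ, g χ l * w χ = 0) →
      ∑ χ, c k χ * w χ = 0 := fun k w h => by
    refine (mul_eq_zero.1 ((key k w).trans (Finset.sum_eq_zero fun l _ => ?_))).resolve_left hR0
    by_cases h1 : e (-(k * l)) = 1
    · rw [h1, sub_self, zero_mul]
    · rw [h l h1, mul_zero]
  have key1 : ∀ k (w : ι → ℤ), (∀ l ≠ 0, ∑ χ, g χ l * w χ = 0) → c k ⬝ᵥ w = 0 := fun k w h => by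
    have := key0 k (fun χ => w χ) fun l h1 => h l (by rintro rfl; simp at h1)
    exact_mod_cast this
  have key2 : ∀ k μ, μ ≠ 0 → ∑ χ, c k χ * conj (g χ μ) =
      2 - e (-(k * μ)) - e (-(k * ((M - 1) * μ))) := fun k μ hμ => by
    apply mul_left_cancel₀ hR0
    rw [key, Finset.sum_congr rfl (g := fun l => (1 - e (-(k * l))) *
      (R * ((if l = μ then 1 else 0) + (if l = (M - 1) * μ then 1 else 0)))) fun l _ => ?_]
    · simp only [mul_add, Finset.sum_add_distrib, mul_ite, mul_one, mul_zero, Finset.sum_ite_eq',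
        Finset.mem_univ, if_true]
      ring
    · by_cases hl : l = 0
      · simp [hl]
      · rw [gram l μ hl hμ, if_congr eq_comm rfl rfl,
          if_congr (⟨fun e => by rw [e, hqq], fun e => by rw [e, hqq]⟩ :
            μ = (M - 1) * l ↔ l = (M - 1) * μ) rfl rfl]
  have gram' : ∀ k l, k ≠ 0 → l ≠ 0 → c k ⬝ᵥ c l =
      2 + (if l = k then 1 else 0) + (if l = (M - 1) * k then 1 else 0) := fun k l hk hl => by
    have e1 : ∀ χ, (R : ℂ) * c l χ = ∑ μ, conj (g χ μ) * (1 - e (l * μ)) := fun χ => by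
      have := congrArg conj (hc l χ)
      simpa [conj_addChar] using this
    have e2 : (R : ℂ) * ∑ χ, c k χ * (c l χ : ℂ) =
        ∑ μ, (1 - e (l * μ)) * (2 - e (-(k * μ)) - e (-(k * ((M - 1) * μ)))) := by
      rw [Finset.mul_sum, Finset.sum_congr rfl fun χ _ => by rw [mul_left_comm, e1, Finset.mul_sum],
        Finset.sum_comm]
      refine Finset.sum_congr rfl fun μ _ => ?_
      by_cases hμ : μ = 0
      · simp [hμ]
      · rw [← key2 k μ hμ, Finset.mul_sum]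
        exact Finset.sum_congr rfl fun χ _ => by ring
    have e3 : ∀ μ, (1 - e (l * μ)) * (2 - e (-(k * μ)) - e (-(k * ((M - 1) * μ)))) =
        2 * e (0 * μ) - e (-k * μ) - e (-((M - 1) * k) * μ) - 2 * e (l * μ) + e ((l - k) * μ) +
          e ((l - (M - 1) * k) * μ) := fun μ => by
      rw [zero_mul, e.map_zero_eq_one, sub_mul l, sub_mul l, sub_eq_add_neg (l * μ),
        sub_eq_add_neg (l * μ), e.map_add_eq_mul, e.map_add_eq_mul, neg_mul, neg_mul,
        show (M - 1) * k * μ = k * ((M - 1) * μ) by ring]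
      ring
    have hk' : (M - 1) * k ≠ 0 := fun h => hk (by rw [← hqq k, h, mul_zero])
    simp only [e3, Finset.sum_add_distrib, Finset.sum_sub_distrib, ← Finset.mul_sum,
      sum_addChar_mul he, neg_eq_zero, sub_eq_zero, hk, hk', hl, if_true, if_false] at e2
    have e4 : ((c k ⬝ᵥ c l : ℤ) : ℂ) =
        (2 + (if l = k then 1 else 0) + (if l = (M - 1) * k then 1 else 0) : ℤ) := by
      apply mul_left_cancel₀ hR0
      simp only [dotProduct]
      push_cast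
      rw [e2]
      split_ifs <;> ring
    exact_mod_cast e4
  have hqM : (M - 1) * (M : ZMod R) = M := by linear_combination hMM - h2M
  have hsplit : ∀ F : ZMod R → ℤ, ∑ k, F k =
      F 0 + F M + ∑ j : {k : ZMod R // k ≠ 0 ∧ k ≠ M}, F j := fun F => by
    rw [← Finset.sum_subtype ((Finset.univ.erase 0).erase (M : ZMod R)) (by simp [and_comm]),
      add_assoc, Finset.add_sum_erase _ _ (by simpa using hM0), Finset.add_sum_erase _ _ (by simp)]
  have hco : ∀ k ≠ 0, c k o = 1 := fun k hk => by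
    have := hc k o
    simp only [hg, hvo, hd2o, mul_zero, ite_self, Int.cast_zero, sub_zero, one_mul,
      Finset.sum_sub_distrib, ← neg_mul, sum_addChar_mul he, neg_eq_zero, hk, if_false,
      Finset.sum_const, Finset.card_univ, ZMod.card, nsmul_eq_mul] at this
    exact_mod_cast mul_left_cancel₀ hR0 this
  have hne : ∀ j : {k : ZMod R // k ≠ 0 ∧ k ≠ M}, (j : ZMod R) ≠ (M - 1) * j := fun j h =>
    (hfix j h.symm).elim j.2.1 j.2.2
  let r' : Fin 3 → ℤ := ![1, 2, -1]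
  have hr : ∀ a, (r' a : ZMod R) ≠ 0 ∧ (r' a : ZMod R) ≠ M := fun a =>
    ⟨h0 _ (by fin_cases a <;> simp [r']) (by fin_cases a <;> simp [r'] <;> omega)
      (by fin_cases a <;> simp [r'] <;> omega), fun h => h0 (r' a - M)
      (by fin_cases a <;> simp [r'] <;> omega) (by fin_cases a <;> simp [r'] <;> omega)
      (by fin_cases a <;> simp [r'] <;> omega) (by push_cast; rw [h, sub_self])⟩
  refine qd_lattice' (J := {k : ZMod R // k ≠ 0 ∧ k ≠ M}) (c := fun j => c j) (sg := fun j => sg j)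
    (r := fun a => ⟨r' a, hr a⟩) (e := c M) hd hd1 hdo ?_ (fun j => ?_) (fun j a => ?_)
    (fun a b hab => ?_) ?_ (fun j => ?_) hff ?_ (fun j => ?_) ?_ (hco _ hM0) (fun j => hco _ j.2.1)
    hfd (key1 _ _ hgd) (fun j => key1 _ _ hgd) (fun χ => ?_) (fun χ => ?_) hAf ?_
  · have h1 := sum_addChar_mul he M
    simp only [hM0, if_false, mul_comm (M : ZMod R), (hsg _).1] at h1
    have h2 : ∑ k, sg k = 0 := by exact_mod_cast h1
    rw [hsplit, sg0, sgM] at h2
    omega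
  · rw [gram' _ _ j.2.1 j.2.1, if_pos rfl, if_neg (hne j)]; rfl
  · rw [gram' _ _ j.2.1 (hr a).1]
    split_ifs with h1 h2
    · exact absurd (h1.symm.trans h2) (hne j)
    all_goals simp
  · rw [gram' _ _ (hr a).1 (hr b).1, if_neg, if_neg]
    · rfl
    · intro h
      by_cases h2 : r' a = 2
      · exact h0 (r' b + 2) (by fin_cases b <;> simp [r']) (by fin_cases b <;> simp [r'] <;> omega)
          (by fin_cases b <;> simp [r'] <;> omega)
          (by push_cast; rw [h, h2]; push_cast; linear_combination h2M)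
      · refine h0 (r' b - (M - 1) * r' a) ?_ ?_ ?_ (by push_cast; rw [h, sub_self]) <;>
          fin_cases a <;> fin_cases b <;> simp [r'] at h2 hab ⊢ <;> omega
    · intro h
      refine h0 (r' b - r' a) ?_ ?_ ?_ (by push_cast; rw [h, sub_self]) <;>
        fin_cases a <;> fin_cases b <;> simp [r'] at hab ⊢ <;> omega
  · rw [gram' _ _ hM0 hM0, if_pos rfl, if_pos hqM.symm]; rfl
  · rw [gram' _ _ hM0 j.2.1, hqM, if_neg j.2.2]; rfl
  · rw [dotProduct_comm, key1 _ _ hgf]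
  · rw [dotProduct_comm, key1 _ _ hgf]
  · have := hvz o
    rw [hvo] at this
    rw [hf, hd2o, mul_zero, sub_zero]
    exact_mod_cast this.symm
  · have h1 : z χ = ∑ j, m χ j * sg j := by
      have := hv χ M
      simp only [hvz, (hsg _).1] at this
      exact_mod_cast this
    have h2 : ∀ j, m χ ((M - 1) * j) = m χ j := fun j => by
      have : (R : ℂ) * m χ ((M - 1) * j) = R * m χ j := by
        rw [← hm, ← hm]
        refine Fintype.sum_equiv ⟨fun l : ZMod R => ((M : ZMod R) - 1) * l,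
          fun l => ((M : ZMod R) - 1) * l, hqq, hqq⟩ _ _ fun l => ?_
        simp only [Equiv.coe_fn_mk, hinv]
        congr 2; ring
      exact_mod_cast mul_left_cancel₀ hR0 this
    have h3 : ∑ j : {k : ZMod R // k ≠ 0 ∧ k ≠ M}, (m χ j : ZMod 2) = 0 :=
      Finset.sum_involution (fun j _ => ⟨(M - 1) * j, fun h => j.2.1 (by rw [← hqq j, h, mul_zero]),
        fun h => j.2.2 (by rw [← hqq j, h, hqM])⟩)
        (fun j _ => by simp only [h2]; exact CharTwo.add_self_eq_zero _)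
        (fun j _ _ h => hne j (congrArg Subtype.val h).symm) (fun _ _ => Finset.mem_univ _)
        fun j _ => Subtype.ext (hqq j)
    have h4 : ∀ j, (sg j : ZMod 2) = 1 := fun j => by rcases (hsg j).2 with h | h <;> simp [h]
    obtain ⟨M', hM'⟩ := hM2
    rw [← ZMod.intCast_eq_zero_iff_even, hf, hc0, if_pos sgM, h1, hsplit,
      show Q = 2 * (M' * t) - 1 by rw [hM'] at hQ; push_cast at hQ; linear_combination hQ]
    push_cast
    simp only [h4, mul_one, h3]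
    generalize (m χ 0 : ZMod 2) = a, (m χ M : ZMod 2) = b, (M' * t : ZMod 2) = c,
      (d2 χ : ZMod 2) = d
    revert a b c d; decide
  · have h1 : (R : ℂ) * ∑ k, sg k * (c k χ : ℂ) = R * -g χ M := by
      simp only [Finset.mul_sum, mul_left_comm (R : ℂ), hc, ← (hsg _).1]
      rw [Finset.sum_comm, Finset.sum_congr rfl (g := fun l => g χ l * -if M - l = 0 then (R : ℂ) else 0)
        fun l _ => ?_]
      · simp [sub_eq_zero, mul_comm]
      · rw [← sum_addChar_mul he, ← zero_sub, ← if_neg hM0 (t := (R : ℂ)) (e := 0),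
          ← sum_addChar_mul he, ← Finset.sum_sub_distrib, Finset.mul_sum]
        refine Finset.sum_congr rfl fun k _ => ?_
        rw [sub_mul, sub_eq_add_neg (M * k), e.map_add_eq_mul, mul_comm k, mul_comm k]
        ring
    have h2 := mul_left_cancel₀ hR0 h1
    rw [hg, if_pos rfl, hvz] at h2
    have h3 : ∑ k, sg k * c k χ = -(z χ - (Q + 1) * d2 χ) := by exact_mod_cast h2
    rw [hsplit, sgM, hc0 0, if_pos sg0] at h3
    rw [hf]
    linear_combination (1 - Q) * h3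
  · refine key0 _ _ fun l hl => ?_
    have hl' : e (M * l) ≠ 1 := by rwa [mul_comm, hsg', ← (hsg l).1, mul_comm] at hl
    have hlM : l ≠ M := by
      rintro rfl
      rw [hMM, e.map_zero_eq_one] at hl'
      exact hl' rfl
    simp only [hg, if_neg hlM, Int.cast_zero, sub_zero, hAe l hl']

end Cfsg.Agent.H30
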