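import Cfsg.Agent.H30.ABGQD3
import Cfsg.Agent.H30.ChS1

/-! The two distinguished characters of the principal 2-block in the semidihedral case. -/

set_option autoImplicit false

open scoped ComplexConjugate MatrixGroups

namespace Cfsg.Agent.H30

open Cfsg Subgroup H42 H43 H34 H22 H86

theorem qd_central' {H : Type*} [Group H] [Fintype H] {S : Sylow 2 H} {k : ℕ} {x y : H}
    (h : QD (S : Subgroup H) k x y) (hz : ∀ g : H, g * qz k x = qz k x * g)
    (hv : IsConj (qv k x) (x * y)) {M : Ideal AlgInt} (hM : IsPModular 2 M) {p : ℕ} [Fact p.Prime]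
    (hp : p ≠ 2) {F : Type*} [Field F] [Fintype F] [CharP F p] (L : Subgroup (H ⧸ oddCore H))
    [L.Normal] (e : L ≃* SL(2, F)) :
    ∃ (Q : ℤ) (s : H → ℂ) (R : Subgroup H) (_ : Fintype R) (lam : R →* ℂˣ) (ε : ℤ),
      (Q = Fintype.card F ∨ Q = -Fintype.card F) ∧ (4 * 2 ^ k : ℤ) ∣ Q + 1 ∧ s 1 = Q ∧
      (∀ g, Odd (orderOf g) → conj (s g) = s g) ∧
      (∀ g g', Odd (orderOf g) → Odd (orderOf g') → colS (principalBlock M H) g g' =
        2 * (1 + s g) * (1 + s g') + 4 * 2 ^ k * (1 - s g) * (1 - s g')) ∧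
      (∀ r ∈ R, Odd (orderOf r)) ∧ lam ≠ 1 ∧
      ε * classInner (fun r : R => s r) (fun r => lam r) = 1 ∧
      (∃ P ≤ L, Nat.card P = Fintype.card F ∧ ∀ g, QuotientGroup.mk' _ g ∈ P →
        QuotientGroup.mk' (oddCore H) g ≠ 1 → g ∈ R ∧ s g = 0) ∧
      ∀ t, orderOf t = 2 → t ≠ qz k x → ∀ θ : H → ℂ,
        (∀ g, Odd (orderOf g) → θ g = 0 ∧ θ (qz k x * g) = 4 * (1 + s g)) →
        (∀ g u w, IsPPart 2 g u → w ∈ zpowers x → w ≠ 1 → w ≠ qz k x → IsConj u w → θ g = 0) →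
        ∑ a, ∑ b, θ (a * t * a⁻¹ * (b * t * b⁻¹)) = 2 * (Nat.card H : ℂ) ^ 2 * (1 + 1 / Q) := by
  classical
  have := hM.2.1
  let ρ := QuotientGroup.mk' (oddCore H)
  have hρ : Function.Surjective ρ := QuotientGroup.mk'_surjective _
  have hO : ¬ 2 ∣ Nat.card ρ.ker := by
    rw [QuotientGroup.ker_mk']; exact H33.not_dvd_card_pPrimeCore Nat.prime_two
  have hO' : ∀ g, ρ g = 1 → Odd (orderOf g) := fun g hg =>
    odd_iff_regular.2 fun hd => hO (hd.trans (orderOf_dvd_natCard ρ.ker hg))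
  have hzc : zpowers (ρ (qz k x)) ≤ center _ := zpowers_le_of_mem (mem_center_iff.2 fun g => by
    obtain ⟨g, rfl⟩ := hρ g
    rw [← map_mul, hz, map_mul])
  have : (zpowers (ρ (qz k x))).Normal := ⟨fun n hn g => by
    rwa [mem_center_iff.1 (hzc hn), mul_inv_cancel_right]⟩
  have hzz : ρ (qz k x) * ρ (qz k x) = 1 := by rw [← map_mul, h.zz, map_one]
  have hz2 : orderOf (ρ (qz k x)) = 2 := orderOf_eq_prime (by rw [sq, hzz]) fun e => by
    have := hO' _ e
    rw [h.ord_z] at this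
    exact absurd this (by decide)
  let π₂ := QuotientGroup.mk' (zpowers (ρ (qz k x)))
  have hπ₂ : Function.Surjective π₂ := QuotientGroup.mk'_surjective _
  have hk₂ : π₂.ker = zpowers (ρ (qz k x)) := QuotientGroup.ker_mk' _
  have hc₂ : Nat.card π₂.ker = 2 := by rw [hk₂, Nat.card_zpowers, hz2]
  let π := π₂.comp ρ
  have hπ : Function.Surjective π := hπ₂.comp hρ
  have hπz : π (qz k x) = 1 := (hk₂.ge (mem_zpowers _) :)
  have hker : ∀ g, π g = 1 → Odd (orderOf g) ∨ Odd (orderOf (qz k x * g)) := fun g hg =>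
    ((mem_zpowers_of_mul_self hzz).1 (hk₂.le hg)).imp (hO' g) fun e => hO' _ (by
      rw [map_mul, e, hzz])
  have hk : ∀ s ∈ (S : Subgroup H), π s = 1 → s = 1 ∨ s = qz k x := fun s hs e =>
    (hker s e).imp (fun e => H33.eq_one_of_pElt_of_regular (pElt_of_le S.isPGroup' hs)
      (odd_iff_regular.1 e)) fun e => by
        have := H33.eq_one_of_pElt_of_regular (pElt_of_le S.isPGroup'
          (mul_mem (h.A_le QD.z_mem) hs)) (odd_iff_regular.1 e)
        exact mul_left_cancel (this.trans h.zz.symm)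
  have hD := qd_dihSyl h hπ hπz hk
  have hY := qd_inf_res h hz hv
  have hzR : qz k x ∈ pResidual 2 H := (hY.ge (mem_sup_left QD.z_mem_sq)).2
  have hres : ∀ g : H, Odd (orderOf g) → g ∈ pResidual 2 H := fun g hg =>
    H3.mem_pResidual_of_coprime (Nat.coprime_two_right.2 hg)
  have hkR : π.ker ≤ pResidual 2 H := fun g hg =>
    (hker g hg).elim (hres g) fun e => (mul_mem_cancel_left hzR).1 (hres _ e)
  have hN : ((pResidual 2 H).map π).index = 2 := by
    rw [index_map_eq _ hπ hkR, qd_index_res h hz hv]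
  have hmem : ∀ g, π g ∈ (pResidual 2 H).map π ↔ g ∈ pResidual 2 H := fun g => by
    rw [← mem_comap, comap_map_eq_self hkR]
  have hσ : π x ∉ (pResidual 2 H).map π := fun e =>
    h.x_notMem_ext h.xy_mem h.xy_notMem (hY.le ⟨h.hx, (hmem x).1 e⟩)
  have hζ := Complex.isPrimitiveRoot_exp (2 ^ (k + 2)) (by positivity)
  obtain ⟨δ, χ₁, χ', b⟩ := exists_pglB hD hM hN hσ hζ
  obtain ⟨St, hint, hq, P, PL, hP, hPc, hP0⟩ := exists_steinberg p hπ₂ (hk₂.le.trans hzc) L e
  obtain ⟨n, -, hn⟩ := FiniteField.card F p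
  have hp3 : Odd p := (Fact.out : p.Prime).odd_of_ne_two hp
  have hq1 : 1 < Fintype.card F := Fintype.one_lt_card
  have hSt : ∀ g ∈ (pResidual 2 H).map π, χ₁.1 g = St.1 g := fun g hg => by
    rcases b.eq_of_real_odd hD hM hζ St (fun g => by obtain ⟨n, hn⟩ := hint g; simp [hn]) hq
      (hn ▸ hp3.pow) hq1.ne' with e | e <;> rw [e]
    rw [sgnMul_apply, sgnIrr_mem hN hg, one_mul]
  have h1 := (hSt 1 (one_mem _)).trans hq
  have hreal : ∀ g, Odd (orderOf g) → conj (χ₁.1 (π g)) = χ₁.1 (π g) :=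
    fun g hg => by
      obtain ⟨n, hn⟩ := hint (π g)
      rw [hSt _ ((hmem g).2 (hres g hg)), hn, map_intCast]
  have hδ := b.δ_sq
  have : Nontrivial P := Finite.one_lt_card_iff_nontrivial.1 (hPc ▸ hq1)
  obtain ⟨lam, hlam⟩ := exists_monoidHom_ne_one_of_isPGroup hP
  have hPo : ∀ u ∈ P, Odd (orderOf u) := fun u hu => by
    obtain ⟨m, hm⟩ := pElt_of_le hP hu
    exact hm ▸ hp3.pow
  have hsurj := ρ.subgroupComap_surjective_of_surjective P hρ
  have hodd : ∀ g, Odd (orderOf g) → Odd (orderOf (π g)) := fun g hg =>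
    odd_iff_regular.2 (regular_map π (odd_iff_regular.1 hg))
  refine ⟨-δ * Fintype.card F, fun g => -δ * χ₁.1 (π g), P.comap ρ, inferInstance,
    lam.comp (ρ.subgroupComap P), -δ, by rcases b.hδ with e | e <;> simp [e], ?_,
    by simp [h1], fun g hg => by simp [hreal g hg], fun g g' hg hg' => ?_, fun r hr => ?_,
    fun e => hlam ((MonoidHom.cancel_right hsurj).1 (e.trans (MonoidHom.one_comp _).symm)), ?_,
    ⟨P, PL, hPc, fun g hg g1 => ⟨hg, ?_⟩⟩, fun t ht htz θ θ1 θ2 => ?_⟩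
  · have := Fintype.ofFinite (zpowers (π x))
    obtain ⟨m, hm⟩ := H5.exists_nat_classInner
      (H5.isCharacter_restrict (irr_isCharacter χ₁) (zpowers (π x))) H5.isCharacter_one
    have e1 : ∑ u : zpowers (π x), (χ₁.1 u - δ) = Fintype.card F - δ := by
      rw [Finset.sum_eq_single 1 (fun u _ hu => sub_eq_zero.2
        (b.val_zpowers hD u.2 fun e => hu (Subtype.ext e))) (by simp), OneMemClass.coe_one, h1]
    rw [H5.classInner_one_right, inv_mul_eq_iff_eq_mul₀ H5.natCard_ne_zero] at hm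
    rw [Finset.sum_sub_distrib, hm, Finset.sum_const, Finset.card_univ, ← Nat.card_eq_fintype_card,
      Nat.card_zpowers, hD.ord, nsmul_eq_mul] at e1
    have e2 : ((2 ^ (k + 2) : ℕ) * m - (2 ^ (k + 2) : ℕ) * δ : ℤ) = Fintype.card F - δ := by
      exact_mod_cast e1
    refine ⟨-δ * (m - δ), ?_⟩
    push_cast at e2
    rcases b.hδ with rfl | rfl
    · linear_combination e2
    · linear_combination -e2
  · rw [colS_quot_coprime hM hρ hO, colS_quot_central hM hπ₂ (IsPGroup.of_card (n := 1) hc₂)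
      (hk₂.le.trans hzc) (regular_map ρ (odd_iff_regular.1 hg)) (regular_map ρ (odd_iff_regular.1 hg')),
      hc₂]
    change _ * colS _ (π g) (π g') = _
    rw [b.colS_odd (hodd g hg) (hodd g' hg'), hreal g' hg']
    push_cast
    linear_combination (4 * 2 ^ k - 2 - (4 * 2 ^ k + 2) * χ₁.1 (π g) *
      χ₁.1 (π g')) * hδ
  · obtain ⟨u, hu⟩ := H33.exists_isPPart Nat.prime_two r
    have e1 := (H33.IsPPart.eq_one_iff Nat.prime_two (H33.IsPPart.map Nat.prime_two hu ρ)).2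
      (odd_iff_regular.1 (hPo _ hr))
    exact odd_iff_regular.2 ((H33.IsPPart.eq_one_iff Nat.prime_two hu).1
      (H33.eq_one_of_pElt_of_regular (H33.IsPPart.pElt hu) (odd_iff_regular.1 (hO' u e1))))
  · have := Fintype.ofFinite P
    have e1 := H5.classInner_comp_surjective _ hsurj
      (fun u : P => -δ * χ₁.1 (π₂ u)) fun u => lam u
    refine (congrArg (((-δ : ℤ) : ℂ) * ·) e1).trans ?_
    rw [classInner, Finset.sum_eq_single 1 (fun u _ hu => ?_) (by simp), hPc]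
    · have h0 : (Fintype.card F : ℂ) ≠ 0 := Nat.cast_ne_zero.2 Fintype.card_ne_zero
      simp only [OneMemClass.coe_one, map_one, h1, Units.val_one, mul_one]
      push_cast
      field_simp
      linear_combination hδ
    · rw [hSt _ (mem_of_odd_of_index_two hN (odd_iff_regular.2 (regular_map π₂
        (odd_iff_regular.1 (hPo _ u.2))))), hP0 u u.2 fun e => hu (Subtype.ext e)]
      simp
  · change -δ * χ₁.1 (π₂ (ρ g)) = 0
    rw [hSt _ (mem_of_odd_of_index_two hN (odd_iff_regular.2 (regular_map π₂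
      (odd_iff_regular.1 (hPo _ hg))))), hP0 _ hg g1, mul_zero]
  · have htt : t * t = 1 := by rw [← sq, ← ht, pow_orderOf_eq_one]
    have ht1 : t ≠ 1 := by rintro rfl; simp at ht
    have htR : t ∉ pResidual 2 H := fun e => by
      obtain ⟨c, hc⟩ := isConj_iff.1 (qd_inv_conj h hz ht h.ordy htz
        fun e => h.y_notMem (e ▸ QD.z_mem))
      exact h.y_notMem_Y (hY.le ⟨h.hy, hc ▸ H3.pResidual_normal.conj_mem _ e c⟩)
    have hπt : orderOf (π t) = 2 := orderOf_eq_prime (by rw [sq, ← map_mul, htt, map_one])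
      fun e => htR (hkR e)
    obtain ⟨c, hc⟩ := isConj_iff.1 (qd_inv_conj h hz (t := qz k x * t) ht
      (orderOf_eq_prime (by rw [sq, mul_assoc, ← mul_assoc t, hz, mul_assoc, htt, mul_one, h.zz])
        fun e => htz (mul_left_cancel (e.trans h.zz.symm))) htz (by simpa using ht1))
    have e1 : ∑ a, ∑ b, θ (a * t * a⁻¹ * (b * t * b⁻¹)) =
        ∑ a, ∑ b, θ (qz k x * (a * t * a⁻¹ * (b * t * b⁻¹))) :=
      Finset.sum_congr rfl fun a _ => (Fintype.sum_equiv (Equiv.mulRight c) _ _ fun b => by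
        congr 1
        calc qz k x * (a * t * a⁻¹ * (b * t * b⁻¹)) = a * t * a⁻¹ * b * (qz k x * t) * b⁻¹ := by
              rw [← mul_assoc _ (qz k x), hz]; group
          _ = _ := by rw [← hc]; simp [mul_assoc]).symm
    have e2 : ∀ g ∈ pResidual 2 H, θ g + θ (qz k x * g) = 4 * (1 + -δ * χ₁.1 (π g)) := by
      intro g hg
      obtain ⟨u, hu⟩ := H33.exists_isPPart Nat.prime_two g
      obtain ⟨w, hw, huw⟩ := qd_res_conj h hz hv (H33.IsPPart.mem_of_mem Nat.prime_two hu _ hg)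
        (H33.IsPPart.pElt hu)
      obtain ⟨a, ha⟩ := isConj_iff.1 huw.symm
      by_cases w1 : w = 1
      · have := θ1 g (odd_iff_regular.2 ((H33.IsPPart.eq_one_iff Nat.prime_two hu).1
          (by simpa [w1] using ha.symm)))
        rw [this.1, this.2, zero_add]
      obtain ⟨g', rfl, hcu, hu2, hg'⟩ := hu
      by_cases wz : w = qz k x
      · rw [wz, hz, mul_inv_cancel_right] at ha
        have := θ1 g' (odd_iff_regular.2 hg')
        rw [← ha, ← mul_assoc, h.zz, one_mul, this.1, this.2, add_zero, map_mul, hπz, one_mul]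
      have hu : IsPPart 2 (u * g') u := H33.isPPart_mul hcu hu2 hg'
      rw [θ2 _ u w hu hw w1 wz huw, ← mul_assoc, θ2 _ (qz k x * u) (qz k x * w)
        (H33.isPPart_mul ((Commute.symm (hz g')).mul_left hcu) (H33.pElt_mul Nat.prime_two
          (Commute.symm (hz u)) ⟨1, h.ord_z⟩ hu2) hg') (mul_mem QD.z_mem hw)
        (fun e => wz (mul_left_cancel (e.trans h.zz.symm))) (by simpa using w1)
        (IsConj.symm (isConj_iff.2 ⟨a, by rw [← mul_assoc, hz, ← ha]; group⟩)),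
        b.val_section hD hM (H33.IsPPart.map Nat.prime_two hu π)
          (MonoidHom.map_zpowers π x ▸ mem_map_of_mem π hw)
          (fun e => (hk w (h.A_le hw) e).elim w1 wz) (π.map_isConj huw)]
      linear_combination 4 * hδ
    have e3 := sum_conj2_irr (infl hπ χ₁).2 t t
    simp only [infl_apply] at e3
    rw [b.val_invol hD hM hσ hζ hπt fun e => htR ((hmem t).1 e), map_one, h1] at e3
    have e4 : ∑ a, ∑ b, θ (a * t * a⁻¹ * (b * t * b⁻¹)) +
        ∑ a, ∑ b, θ (qz k x * (a * t * a⁻¹ * (b * t * b⁻¹))) =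
        4 * ((Nat.card H : ℂ) ^ 2 + -δ * ∑ a, ∑ b,
          χ₁.1 (π (a * t * a⁻¹ * (b * t * b⁻¹)))) := by
      rw [← Finset.sum_add_distrib, Finset.sum_congr rfl fun a _ => by
        rw [← Finset.sum_add_distrib, Finset.sum_congr rfl fun b _ => e2 _
          ((mul_mem_iff_of_index_two (qd_index_res h hz hv)).2 (iff_of_false
            (fun e => htR (by simpa [mul_assoc] using H3.pResidual_normal.conj_mem' _ e a))
            fun e => htR (by simpa [mul_assoc] using H3.pResidual_normal.conj_mem' _ e b)))]]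
      simp only [Finset.sum_add_distrib, ← Finset.mul_sum, Finset.sum_const, Finset.card_univ,
        nsmul_eq_mul, Nat.card_eq_fintype_card]
      ring
    rw [← e1, e3] at e4
    rcases b.hδ with rfl | rfl <;> push_cast at e4 ⊢ <;> linear_combination e4 / 2

/-- The two degree equations coming from the principal 2-block. -/
theorem qd_equations' {G : Type*} [Group G] [Finite G] (hP : ∀ lam : G →* ℂˣ, lam = 1)
    {S : Sylow 2 G} {k : ℕ} {x y : G} (h : QD (S : Subgroup G) k x y) {t : G}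
    (htC : t ∈ Cg (qz k x)) (ht : orderOf t = 2) (htz : t ≠ qz k x) {p : ℕ} [Fact p.Prime]
    (hp : p ≠ 2) {F : Type*} [Field F] [Fintype F] [CharP F p]
    (L : Subgroup (Cg (qz k x) ⧸ oddCore (Cg (qz k x)))) [L.Normal] (e : L ≃* SL(2, F))
    {M : Ideal AlgInt} (hM : IsPModular 2 M) :
    ∃ (Q a c : ℤ) (W : ℂ), (Q = Fintype.card F ∨ Q = -Fintype.card F) ∧ (4 * 2 ^ k : ℤ) ∣ Q + 1 ∧
      W * (Nat.card ↥(Cg (qz k x) ⊓ Cg t) ^ 2 * Nat.card G * Q) =
        Nat.card (Cg (qz k x)) ^ 3 * (Q + 1) ∧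
      a ≠ 0 ∧ a + 1 ≠ 0 ∧ c - a ≠ 1 ∧ W * (a * (a + 1)) = (a + Q + 1) ^ 2 ∧
      W * (a * c * (c - a)) = ((Q + 1) * c - Q * a) ^ 2 ∧
      ∃ P ≤ L, Nat.card P = Fintype.card F ∧ ∀ d c₀ c₁ : ℤ,
        (d = a ∧ c₀ = Q + 1 ∧ c₁ = 1) ∨ (d = c ∧ c₀ = -Q ∧ c₁ = 0) →
        ∃ χ ∈ principalBlock M G, ∃ η : ℤ, (η = 1 ∨ η = -1) ∧ (χ : G → ℂ) 1 = η * d ∧
          (χ : G → ℂ) (qz k x) = η * c₀ ∧ ∀ g : Cg (qz k x), QuotientGroup.mk' _ g ∈ P →
            QuotientGroup.mk' (oddCore (Cg (qz k x))) g ≠ 1 →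
              (χ : G → ℂ) (qz k x * g) = η * c₁ := by
  classical
  have := Fintype.ofFinite G
  have hG := index_ne_two_of_hom hP
  have := hM.2.1
  have hS : (S : Subgroup G) ≤ Cg (qz k x) := fun s hs =>
    mem_centralizer_singleton_iff.2 (h.z_comm hs)
  have h' : QD ((S.subtype hS : Sylow 2 _) : Subgroup (Cg (qz k x))) k _ _ := QD.sub h hS
  set x' : Cg (qz k x) := ⟨x, hS h.hx⟩ with hx'
  have hzz' : ((qz k x' : Cg (qz k x)) : G) = qz k x := rfl
  have hz' : ∀ g : Cg (qz k x), g * qz k x' = qz k x' * g := fun g =>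
    Subtype.ext (mem_centralizer_singleton_iff.1 g.2)
  have hv' : IsConj (qv k x') (x' * ⟨y, hS h.hy⟩) := by
    obtain ⟨T, hT, hTS⟩ := QD.exists_klein h
    obtain ⟨Q, hQS, ⟨eQ⟩⟩ := QD.exists_quat h
    obtain ⟨c, hc⟩ := isConj_iff.1 (h.v_conj_xy eQ hQS (QD.six h hG hT hTS eQ hQS).2)
    refine isConj_iff.2 ⟨⟨c, mem_centralizer_singleton_iff.2 (mul_inv_eq_iff_eq_mul.1 ?_)⟩,
      Subtype.ext hc⟩
    rw [← QD.vv, ← conj_mul, hc, h.xy_sq, QD.vv]
  obtain ⟨Q, s, R, _, lam, ε, hQ, hdvd, hs1, hsr, hcol, hRo, hlam, hε, ⟨P, PL, cP, hPs⟩, h3⟩ :=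
    qd_central' h' hz' hv' hM hp L e
  obtain ⟨τ, hτ⟩ := hdvd
  have hQ0 : (Q : ℂ) ≠ 0 := by rcases hQ with e | e <;> simp [e]
  let B := fs (principalBlock M G)
  have hB : IsPBlock M (principalBlock M G) := isPBlock_principalBlock
  have hz2 : ∃ n, orderOf (qz k x) = 2 ^ n := ⟨1, h.ord_z⟩
  choose zv hzv using fun χ : IrrCharacter G => exists_int_of_mul_self (irr_isCharacter χ) h.zz
  choose n2 hn2 using fun χ : IrrCharacter G => int_central_inv (mem_center_iff.2 hz') h'.zz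
    (H5.isCharacter_restrict (irr_isCharacter χ) (Cg (qz k x))) R (H5.isCharacter_monoidHom lam)
  have hR0 : (Nat.card R : ℂ) ≠ 0 := H5.natCard_ne_zero
  have hD : ∀ Φ : IrrCharacter G → ℂ, ∑ χ ∈ B, Φ χ * (ε * n2 χ : ℤ) = ε * ((Nat.card R : ℂ)⁻¹ *
      ∑ r : R, lam r * ∑ χ ∈ B, Φ χ * conj (χ.1 (qz k x * r))) := fun Φ => by
    have : ∀ χ, ((ε * n2 χ : ℤ) : ℂ) =
        ε * ((Nat.card R : ℂ)⁻¹ * ∑ r : R, conj (χ.1 (qz k x * r)) * lam r) := fun χ => by
      have := congrArg conj (hn2 χ)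
      rw [H5.conj_classInner, map_intCast, classInner] at this
      push_cast
      rw [← this]
      simp only [mul_comm]
      rfl
    simp only [this, Finset.mul_sum]
    rw [Finset.sum_comm]
    exact Finset.sum_congr rfl fun _ _ => Finset.sum_congr rfl fun _ _ => by ring
  have hL : ∀ a b : ℂ, ε * ((Nat.card R : ℂ)⁻¹ * ∑ r : R, lam r * (a + b * s r)) = b := by
    intro a b
    have e1 : ∑ r : R, (lam r : ℂ) = 0 := H5.sum_irr_eq_zero (H5.isIrrCharacter_monoidHom lam)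
      fun e => hlam (MonoidHom.ext fun r => Units.ext (congrFun e r))
    have e2 := congrArg conj hε
    rw [map_mul, H5.conj_classInner, map_intCast, map_one, classInner] at e2
    simp only [hsr _ (hRo _ (Subtype.prop _))] at e2
    simp only [mul_add, Finset.sum_add_distrib, ← Finset.sum_mul, e1, mul_left_comm _ b,
      ← Finset.mul_sum]
    linear_combination b * e2
  have hZ : ∀ Φ : IrrCharacter G → ℂ, ∑ χ ∈ B, Φ χ * zv χ =
      ∑ χ ∈ B, Φ χ * conj (χ.1 (qz k x * (1 : Cg (qz k x)))) := fun Φ => by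
    simp only [OneMemClass.coe_one, mul_one, hzv, map_intCast]
  have hsec : ∀ g g' : Cg (qz k x), Odd (orderOf g) → Odd (orderOf g') →
      ∑ χ ∈ B, χ.1 (qz k x * g) * conj (χ.1 (qz k x * g')) =
        2 * (1 + s g) * (1 + s g') + 4 * 2 ^ k * (1 - s g) * (1 - s g') := fun g g' hg hg' =>
    (colS_section hM hz2 (odd_iff_regular.1 hg) (odd_iff_regular.1 hg')).trans (hcol g g' hg hg')
  have hA : ∀ g u : G, IsPPart 2 g u → ¬ IsConj u (qz k x) →
      ∑ χ ∈ B, χ.1 g * zv χ = 0 ∧ ∑ χ ∈ B, χ.1 g * (ε * n2 χ : ℤ) = 0 := fun g u hu hc => by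
    have : ∀ r : Cg (qz k x), Odd (orderOf r) →
        ∑ χ ∈ B, χ.1 g * conj (χ.1 (qz k x * r)) = 0 := fun r hr =>
      colS_eq_zero hM hB hu (H33.isPPart_mul (mem_centralizer_singleton_iff.1 r.2).symm hz2
        (by rw [orderOf_coe]; exact odd_iff_regular.1 hr)) hc
    exact ⟨by rw [hZ, this 1 (by simp)],
      by rw [hD]; simp only [this _ (hRo _ (Subtype.prop _)), mul_zero, Finset.sum_const_zero]⟩
  have hB1 : ∀ g : Cg (qz k x), Odd (orderOf g) → ∑ χ ∈ B, χ.1 (qz k x * g) * zv χ =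
      2 * (1 + s g) * (1 + Q) + 4 * 2 ^ k * (1 - s g) * (1 - Q) := fun g hg => by
    rw [hZ, hsec g 1 hg (by simp), hs1]
  have hB2 : ∀ g : Cg (qz k x), Odd (orderOf g) → ∑ χ ∈ B, χ.1 (qz k x * g) * (ε * n2 χ : ℤ) =
      2 * (1 + s g) - 4 * 2 ^ k * (1 - s g) := fun g hg => by
    rw [hD, ← hL (2 * (1 + s g) + 4 * 2 ^ k * (1 - s g)) (2 * (1 + s g) - 4 * 2 ^ k * (1 - s g))]
    congr 2
    exact Finset.sum_congr rfl fun r _ => by rw [hsec g r hg (hRo _ r.2)]; ring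
  have hB3 : ∑ χ ∈ B, ((ε * n2 χ : ℤ) : ℂ) * (ε * n2 χ : ℤ) = 2 + 4 * 2 ^ k := by
    rw [hD, ← hL (2 - 4 * 2 ^ k) (2 + 4 * 2 ^ k)]
    congr 2
    refine Finset.sum_congr rfl fun r _ => ?_
    have := congrArg conj (hB2 r (hRo _ r.2))
    simp only [map_sum, map_mul, map_intCast, map_sub, map_add, map_one, map_ofNat, map_pow,
      hsr _ (hRo _ r.2)] at this
    simp only [mul_comm ((ε * n2 _ : ℤ) : ℂ), this]
    ring
  have hzz := hB1 1 (by simp)
  have hzd := hB2 1 (by simp)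
  simp only [OneMemClass.coe_one, mul_one, hzv, hs1] at hzz hzd
  have hN : NeZero (2 ^ (k + 3)) := ⟨by positivity⟩
  have hζ := Complex.isPrimitiveRoot_exp (2 ^ (k + 3)) (by positivity)
  let ψ := AddChar.zmodChar (2 ^ (k + 3)) hζ.pow_eq_one
  have hψ : ψ.IsPrimitive := AddChar.zmodChar_primitive_of_primitive_root _ hζ
  let X : ZMod (2 ^ (k + 3)) → G := fun l => x ^ l.val
  have hX : ∀ a : ℤ, X a = x ^ a := fun a => (zpow_natCast x _).symm.trans
    (zpow_val_eq h.ordx _ a rfl)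
  have hXA : ∀ l, X l ∈ zpowers x := fun l => npow_mem_zpowers x _
  have hXinj : Function.Injective X := fun a b e => ZMod.val_injective _
    (pow_injOn_Iio_orderOf (by rw [h.ordx]; exact ZMod.val_lt a)
      (by rw [h.ordx]; exact ZMod.val_lt b) e)
  have hX0 : X 0 = 1 := by simp [X]
  have hXM : X (4 * 2 ^ k : ℕ) = qz k x := by
    rw [← Int.cast_natCast, hX, zpow_natCast]
  have hXq : ∀ l, X ((((4 * 2 ^ k : ℕ) : ZMod (2 ^ (k + 3))) - 1) * l) = y * X l * y⁻¹ := fun l => by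
    obtain ⟨a, rfl⟩ := ZMod.intCast_surjective l
    rw [hX, h.conj_zpow h.hy h.y_notMem, ← hX]
    push_cast
    rfl
  have hXi : ∀ l, X (-l) = (X l)⁻¹ := fun l => by
    obtain ⟨a, rfl⟩ := ZMod.intCast_surjective l
    rw [hX, ← zpow_neg, ← hX]
    push_cast
    rfl
  have hX1 : ∀ {l}, l ≠ 0 → X l ≠ 1 := fun hl => hX0 ▸ hXinj.ne hl
  have hXz : ∀ {l : ZMod (2 ^ (k + 3))}, l ≠ (4 * 2 ^ k : ℕ) → X l ≠ qz k x := fun hl => hXM ▸ hXinj.ne hl
  have hXp : ∀ l, IsPPart 2 (X l) (X l) := fun l =>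
    H33.isPPart_self Nat.prime_two (pElt_of_le S.isPGroup' (h.A_le (hXA l)))
  have hm : ∀ χ : IrrCharacter G, ∃ m : ZMod (2 ^ (k + 3)) → ℤ, ∀ l,
      χ.1 (X l) = ∑ j, m j * ψ (j * l) := fun χ => by
    obtain ⟨d, μ, -, h1, h2⟩ := H5.exists_eigenvalues (irr_isCharacter χ) x
    rw [h.ordx] at h1
    choose a ha hμ using fun i => hζ.eq_pow_of_pow_eq_one (h1 i)
    refine ⟨fun j => (Finset.univ.filter fun i => (a i : ZMod (2 ^ (k + 3))) = j).card, fun l => ?_⟩
    have h3 := h2 l.val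
    rw [zpow_natCast, ← Finset.sum_fiberwise Finset.univ
      (fun i => (a i : ZMod (2 ^ (k + 3))))] at h3
    rw [h3]
    refine Finset.sum_congr rfl fun j _ => ?_
    rw [Finset.sum_congr rfl (g := fun _ => ψ (j * l)) fun i hi => ?_]
    · simp
    · rw [← (Finset.mem_filter.1 hi).2, ← hμ, zpow_natCast, ← pow_mul,
        ← AddChar.zmodChar_apply' hζ.pow_eq_one, Nat.cast_mul, ZMod.natCast_zmod_val]
  choose m hm using hm
  have hsum : ∀ Φ : IrrCharacter G → ℂ, ∑ χ : B, Φ χ = ∑ χ ∈ B, Φ χ := Finset.sum_coe_sort B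
  obtain ⟨W, hW⟩ : ∃ W : ℂ, W = Nat.card (Cg (qz k x)) ^ 3 * (Q + 1) /
    (Nat.card ↥(Cg (qz k x) ⊓ Cg t) ^ 2 * Nat.card G * Q) := ⟨_, rfl⟩
  have hC0 : (Nat.card ↥(Cg (qz k x) ⊓ Cg t) : ℂ) ≠ 0 := Nat.cast_ne_zero.2 Nat.card_pos.ne'
  have hG0 : (Nat.card G : ℂ) ≠ 0 := H5.natCard_ne_zero
  have hA1 := hA 1 1 (H33.isPPart_one_of_regular (by simp)) (by simpa using h.z_ne_one.symm)
  have hAX := fun l hl => hA _ _ (hXp l) (qd_not_conj_z h (hXA l) (hXz hl))
  have hMq : (((4 * 2 ^ k : ℕ) : ZMod (2 ^ (k + 3))) - 1) * (4 * 2 ^ k : ℕ) = (4 * 2 ^ k : ℕ) :=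
    hXinj (by rw [hXq, hXM, h.z_comm h.hy, mul_inv_cancel_right])
  have hQ1 : Q - 1 ≠ 0 := by
    have := Nat.one_le_two_pow (n := k)
    have h4 : (4 : ℤ) ∣ Q + 1 := ⟨2 ^ k * τ, by rw [hτ]; ring⟩
    omega
  have hroot : ∀ g : Cg (qz k x), Odd (orderOf g) → s g = 0 → ∀ χ ∈ B,
      χ.1 (qz k x * g) = (zv χ - Q * (ε * n2 χ) : ℤ) := fun g hg s0 χ hχ => by
    have e1 := hsec g g hg hg
    have e2 := hB1 g hg
    have e3 := hB2 g hg
    have e2' := congrArg conj e2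
    have e3' := congrArg conj e3
    simp only [s0, map_sum, map_mul, map_intCast, map_sub, map_add, map_one, map_ofNat, map_pow,
      map_zero] at e1 e2 e3 e2' e3'
    have e4 : ∑ χ ∈ B, (Complex.normSq (χ.1 (qz k x * g) - (zv χ - Q * (ε * n2 χ) : ℤ)) : ℂ) =
        0 := by
      simp only [← Complex.mul_conj, map_sub, map_intCast]
      push_cast at hzz hzd hB3 e2 e3 e2' e3' ⊢
      rw [Finset.sum_congr rfl (g := fun χ => χ.1 (qz k x * g) * conj (χ.1 (qz k x * g)) -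
        χ.1 (qz k x * g) * zv χ + Q * (χ.1 (qz k x * g) * (ε * n2 χ)) -
        conj (χ.1 (qz k x * g)) * zv χ + Q * (conj (χ.1 (qz k x * g)) * (ε * n2 χ)) +
        (zv χ : ℂ) * zv χ - 2 * Q * (zv χ * (ε * n2 χ)) + Q ^ 2 * (ε * n2 χ * (ε * n2 χ)))
        fun _ _ => by ring]
      simp only [Finset.sum_add_distrib, Finset.sum_sub_distrib, ← Finset.mul_sum, hzz, hzd, hB3,
        e1, e2, e3, e2', e3']
      ring
    rw [← Complex.ofReal_sum, Complex.ofReal_eq_zero,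
      Finset.sum_eq_zero_iff_of_nonneg fun _ _ => Complex.normSq_nonneg _] at e4
    exact sub_eq_zero.1 (Complex.normSq_eq_zero.1 (e4 χ hχ))
  have hfin : ∀ (Y : B → ℤ) (d c₀ c₁ φ : ℤ), Y ⬝ᵥ Y = 1 →
      Y ⬝ᵥ (fun χ : B => (charDegree χ.1.1 : ℤ)) = d → (fun χ : B => zv χ) ⬝ᵥ Y = c₀ →
      (fun χ : B => zv χ - (Q - 1) * (ε * n2 χ)) ⬝ᵥ Y = φ →
      (Q - 1) * c₁ = Q * φ - c₀ →
      ∃ χ ∈ principalBlock M G, ∃ η : ℤ, (η = 1 ∨ η = -1) ∧ (χ : G → ℂ) 1 = η * d ∧
        (χ : G → ℂ) (qz k x) = η * c₀ ∧ ∀ g : Cg (qz k x), QuotientGroup.mk' _ g ∈ P →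
          QuotientGroup.mk' (oddCore (Cg (qz k x))) g ≠ 1 →
            (χ : G → ℂ) (qz k x * g) = η * c₁ := fun Y d c₀ c₁ φ hY h1 h2 h3 h4 => by
    obtain ⟨χ, η, hη, rfl⟩ := unit_form hY
    simp only [dotProduct_single, single_dotProduct] at h1 h2 h3
    have hηη : η * η = 1 := by rcases hη with rfl | rfl <;> rfl
    refine ⟨χ.1, mem_fs.1 χ.2, η, hη, ?_, ?_, fun g hg g1 => ?_⟩
    · rw [← irr_degree_cast, ← h1]
      exact_mod_cast (by linear_combination -(charDegree χ.1.1 : ℤ) * hηη :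
        (charDegree χ.1.1 : ℤ) = η * (η * charDegree χ.1.1))
    · rw [hzv, ← h2]
      exact_mod_cast (by linear_combination -zv χ * hηη : zv χ = η * (zv χ * η))
    · rw [hroot g (hRo _ (hPs g hg g1).1) (hPs g hg g1).2 χ.1 χ.2]
      have : zv χ - Q * (ε * n2 χ) = η * c₁ := mul_left_cancel₀ hQ1 (by
        linear_combination -η * h4 + η * Q * h3 - η * h2 -
          ((Q - 1) * (zv χ - Q * (ε * n2 χ))) * hηη)
      exact_mod_cast this
  refine Exists.elim (qd_columns' (ι := B) (R := 2 ^ (k + 3)) (M := 4 * 2 ^ k) (by ring)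
    (Nat.le_mul_of_pos_right 4 (by positivity)) ⟨2 * 2 ^ k, by ring⟩ hψ (fun j hj => ?_)
    (o := ⟨H33.oneIrr G, mem_fs.2 H33.oneIrr_mem_principalBlock⟩)
    (d := fun χ => charDegree χ.1.1) (z := fun χ => zv χ) (d2 := fun χ => ε * n2 χ)
    (v := fun χ l => χ.1.1 (X l)) (m := fun χ => m χ) (Q := Q) (t := τ) (W := W)
    (fun χ => by exact_mod_cast irr_degree_ne_zero χ.1) (fun χ hχ => ⟨fun e => hχ ?_, by omega⟩)
    (by simp [charDegree, H33.oneIrr_apply]) (by exact_mod_cast hτ) (fun χ => hm χ)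
    (fun χ l => by rw [hXq]; exact irr_isClassFunction _ _ _) (fun χ => by rw [hXM, hzv])
    (fun _ => rfl) ?_ (fun _ _ => rfl) (fun _ => rfl) (fun l μ hl hμ => ?_) ?_ (fun l hl => ?_)
    (fun l hl => ?_) ?_ ?_ (fun l hl => ?_))
    fun a ⟨c, hac, X', u', hX', hu'⟩ => ⟨Q, a, c, W, hQ, ⟨τ, hτ⟩, by rw [hW]; field_simp, hac.1,
      hac.2.1, hac.2.2.1, hac.2.2.2.1, hac.2.2.2.2, P, PL, cP, fun d c₀ c₁ H => H.elim
        (fun H => hfin X' _ _ _ 2 hX'.1 (hX'.2.1.trans H.1.symm) (hX'.2.2.1.trans H.2.1.symm)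
          hX'.2.2.2 (by rw [H.2.1, H.2.2]; ring))
        fun H => hfin u' _ _ _ (-1) hu'.1 (hu'.2.1.trans H.1.symm) (hu'.2.2.1.trans H.2.1.symm)
          hu'.2.2.2 (by rw [H.2.1, H.2.2]; ring)⟩
  · have e := (hXq j).symm.trans (congrArg X hj)
    exact (h.eq_one_or_z_of_comm (hXA j) h.hy h.y_notMem
      (mul_inv_eq_iff_eq_mul.1 e).symm).imp (fun e => hXinj (e.trans hX0.symm))
        fun e => hXinj (e.trans hXM.symm)
  · have e1 : χ.1.1 1 = 1 := by rw [← irr_degree_cast]; exact_mod_cast e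
    obtain ⟨l, hl⟩ := H5.exists_monoidHom_of_degree_one (irr_isCharacter χ.1) e1
    exact Subtype.ext (Subtype.ext (by rw [hl, hP l]; rfl))
  · have := hn2 (H33.oneIrr G)
    simp only [H33.oneIrr_apply] at this
    rw [H5.classInner_irr_ne H5.isIrrCharacter_one (H5.isIrrCharacter_monoidHom lam)
      fun e => hlam (MonoidHom.ext fun r => Units.ext (congrFun e r).symm)] at this
    have : n2 (H33.oneIrr G) = 0 := by exact_mod_cast this.symm
    simp [this]
  · by_cases h1 : l = (4 * 2 ^ k : ℕ) <;> by_cases h2 : μ = (4 * 2 ^ k : ℕ)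
    · subst h1 h2
      simp only [if_true, hXM, hzv, hMq, map_sub, map_intCast]
      rw [hsum fun χ => (zv χ - ((Q + 1) * (ε * n2 χ) : ℤ)) * (zv χ - ((Q + 1) * (ε * n2 χ) : ℤ))]
      push_cast at hzz hzd hB3 ⊢
      rw [Finset.sum_congr rfl (g := fun χ => (zv χ : ℂ) * zv χ - 2 * (Q + 1) *
        (zv χ * (ε * n2 χ)) + (Q + 1) ^ 2 * (ε * n2 χ * (ε * n2 χ))) fun _ _ => by ring]
      simp only [Finset.sum_add_distrib, Finset.sum_sub_distrib, ← Finset.mul_sum, hzz, hzd, hB3]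
      ring
    · subst h1
      obtain ⟨e1, e2⟩ := hAX μ h2
      simp only [if_true, hXM, hzv, hMq, h2, if_false, Int.cast_zero, sub_zero]
      rw [hsum fun χ => (zv χ - ((Q + 1) * (ε * n2 χ) : ℤ)) * conj (χ.1 (X μ))]
      have := congrArg conj (show ∑ χ ∈ B, χ.1 (X μ) * zv χ - (Q + 1) *
        ∑ χ ∈ B, χ.1 (X μ) * (ε * n2 χ : ℤ) = 0 by rw [e1, e2]; simp)
      simp only [map_sub, map_mul, map_sum, map_intCast, map_add, map_one, map_zero,
        Finset.mul_sum, ← Finset.sum_sub_distrib] at this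
      rw [add_zero, mul_zero, ← this]
      exact Finset.sum_congr rfl fun _ _ => by push_cast; ring
    · subst h2
      obtain ⟨e1, e2⟩ := hAX l h1
      have h3 : ((4 * 2 ^ k : ℕ) : ZMod (2 ^ (k + 3))) ≠
          (((4 * 2 ^ k : ℕ) : ZMod (2 ^ (k + 3))) - 1) * l := fun e => hXz h1 (by
        have := congrArg X e
        rw [hXq, hXM, eq_mul_inv_iff_mul_eq, ← h.z_comm h.hy] at this
        exact (mul_left_cancel this).symm)
      simp only [if_true, hXM, hzv, h1, Ne.symm h1, h3, if_false, Int.cast_zero, sub_zero, map_sub,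
        map_intCast]
      rw [hsum fun χ => χ.1 (X l) * (zv χ - ((Q + 1) * (ε * n2 χ) : ℤ)), add_zero, mul_zero]
      refine Eq.trans ?_ (show ∑ χ ∈ B, χ.1 (X l) * zv χ - (Q + 1) *
        ∑ χ ∈ B, χ.1 (X l) * (ε * n2 χ : ℤ) = 0 by rw [e1, e2]; simp)
      rw [Finset.mul_sum, ← Finset.sum_sub_distrib]
      exact Finset.sum_congr rfl fun _ _ => by push_cast; ring
    · simp only [h1, h2, if_false, Int.cast_zero, sub_zero]
      rw [hsum fun χ => χ.1 (X l) * conj (χ.1 (X μ))]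
      have := congrArg conj (qd_colS h hM (hXA l) (hX1 hl) (hXz h1) (hXA μ))
      simp only [colS, map_sum, map_mul, Complex.conj_conj, ← hXq, hXinj.eq_iff, map_natCast,
        map_add, apply_ite conj, map_one, map_zero] at this
      rw [← this]
      exact Finset.sum_congr rfl fun _ _ => mul_comm _ _
  · have : (((fun χ : B => zv χ - (Q - 1) * (ε * n2 χ)) ⬝ᵥ
        (fun χ : B => zv χ - (Q - 1) * (ε * n2 χ)) : ℤ) : ℂ) = 8 := by
      simp only [dotProduct]
      push_cast at hzz hzd hB3 ⊢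
      rw [hsum fun χ => (zv χ - (Q - 1) * (ε * n2 χ)) * (zv χ - (Q - 1) * (ε * n2 χ)),
        Finset.sum_congr rfl (g := fun χ => (zv χ : ℂ) * zv χ - 2 * (Q - 1) *
        (zv χ * (ε * n2 χ)) + (Q - 1) ^ 2 * (ε * n2 χ * (ε * n2 χ))) fun _ _ => by ring]
      simp only [Finset.sum_add_distrib, Finset.sum_sub_distrib, ← Finset.mul_sum, hzz, hzd, hB3]
      ring
    exact_mod_cast this
  · by_cases h1 : l = (4 * 2 ^ k : ℕ)
    · subst h1
      simp only [if_true, hXM, hzv]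
      push_cast at hzz hzd hB3 ⊢
      rw [hsum fun χ => (zv χ - (Q + 1) * (ε * n2 χ)) * (zv χ - (Q - 1) * (ε * n2 χ)),
        Finset.sum_congr rfl (g := fun χ => (zv χ : ℂ) * zv χ - 2 * Q *
        (zv χ * (ε * n2 χ)) + (Q ^ 2 - 1) * (ε * n2 χ * (ε * n2 χ))) fun _ _ => by ring]
      simp only [Finset.sum_add_distrib, Finset.sum_sub_distrib, ← Finset.mul_sum, hzz, hzd, hB3]
      ring
    · obtain ⟨e1, e2⟩ := hAX l h1
      simp only [h1, if_false, Int.cast_zero, sub_zero]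
      rw [hsum fun χ => χ.1 (X l) * ((zv χ - (Q - 1) * (ε * n2 χ) : ℤ) : ℂ)]
      refine Eq.trans ?_ (show ∑ χ ∈ B, χ.1 (X l) * zv χ - (Q - 1) *
        ∑ χ ∈ B, χ.1 (X l) * (ε * n2 χ : ℤ) = 0 by rw [e1, e2]; simp)
      rw [Finset.mul_sum, ← Finset.sum_sub_distrib]
      exact Finset.sum_congr rfl fun _ _ => by push_cast; ring
  · simp only [Int.cast_natCast, irr_degree_cast]
    by_cases h1 : l = (4 * 2 ^ k : ℕ)
    · subst h1
      simp only [if_true, hXM, hzv]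
      rw [hsum fun χ => (zv χ - ((Q + 1) * (ε * n2 χ) : ℤ)) * χ.1 1]
      refine Eq.trans ?_ (show ∑ χ ∈ B, χ.1 1 * zv χ - (Q + 1) *
        ∑ χ ∈ B, χ.1 1 * (ε * n2 χ : ℤ) = 0 by rw [hA1.1, hA1.2]; simp)
      rw [Finset.mul_sum, ← Finset.sum_sub_distrib]
      exact Finset.sum_congr rfl fun _ _ => by push_cast; ring
    · simp only [h1, if_false, Int.cast_zero, sub_zero]
      rw [hsum fun χ => χ.1 (X l) * χ.1 1]
      have := colS_eq_zero hM hB (hXp l) (H33.isPPart_one_of_regular (y := (1 : G)) (by simp))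
        (by simpa using hX1 hl)
      simpa only [colS, conj_irr_one] using this
  · have : (((fun χ : B => zv χ - (Q - 1) * (ε * n2 χ)) ⬝ᵥ
        (fun χ : B => (charDegree χ.1.1 : ℤ)) : ℤ) : ℂ) = 0 := by
      simp only [dotProduct, Int.cast_sum, Int.cast_mul, Int.cast_natCast, irr_degree_cast]
      rw [hsum fun χ => ((zv χ - (Q - 1) * (ε * n2 χ) : ℤ) : ℂ) * χ.1 1]
      refine Eq.trans ?_ (show ∑ χ ∈ B, χ.1 1 * zv χ - (Q - 1) *
        ∑ χ ∈ B, χ.1 1 * (ε * n2 χ : ℤ) = 0 by rw [hA1.1, hA1.2]; simp)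
      rw [Finset.mul_sum, ← Finset.sum_sub_distrib]
      exact Finset.sum_congr rfl fun _ _ => by push_cast; ring
    exact_mod_cast this
  · let f : IrrCharacter G → ℂ := fun χ => ((zv χ - (Q - 1) * (ε * n2 χ) : ℤ) : ℂ)
    let Φ : G → ℂ := fun g => ∑ χ ∈ B, f χ * χ.1 g
    have hΦ : ∀ g, Φ g = ∑ χ ∈ B, χ.1 g * zv χ - (Q - 1) * ∑ χ ∈ B, χ.1 g * (ε * n2 χ : ℤ) :=
      fun g => by
        rw [Finset.mul_sum, ← Finset.sum_sub_distrib]
        exact Finset.sum_congr rfl fun _ _ => by simp only [f]; push_cast; ring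
    have hΦ0 : ∀ g u : G, IsPPart 2 g u → ¬ IsConj u (qz k x) → Φ g = 0 := fun g u hu hc => by
      rw [hΦ, (hA g u hu hc).1, (hA g u hu hc).2]; simp
    have e1 := three_inv h.ord_z (fun s hs => (QD.conj_z h hG hs).symm) htC ht
      (fun s hsC hs hsz => by
        obtain ⟨c, hc⟩ := isConj_iff.1 (qd_inv_conj h' hz' (s := ⟨t, htC⟩) (t := ⟨s, hsC⟩)
          (by rwa [← orderOf_coe]) (by rwa [← orderOf_coe]) (fun e => htz (congrArg Subtype.val e))
          fun e => hsz (congrArg Subtype.val e))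
        exact ⟨c, c.2, (congrArg Subtype.val hc).symm⟩)
      (Φ := Φ) (fun g c => Finset.sum_congr rfl fun χ _ => by rw [irr_isClassFunction χ])
      (fun g hg => hΦ0 g 1 (H33.isPPart_one_of_regular (odd_iff_regular.1 hg))
        (by simpa using h.z_ne_one.symm)) _ fun _ => rfl
    rw [h3 ⟨t, htC⟩ (by rwa [← orderOf_coe]) (fun e => htz (congrArg Subtype.val e))
      (fun g => if qz k x ∈ zpowers (g : G) then Φ g else 0)
      (fun g hg => ⟨if_neg fun e => ?_, (if_pos (H76.mem_ZA.1 (H76.mul_mem_ZA h.ord_z g.2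
        (by rwa [orderOf_coe])))).trans ?_⟩) fun g u w hu hw w1 wz huw => ?_] at e1
    · have e2 : ∑ a, ∑ b, Φ (a * qz k x * a⁻¹ * (b * qz k x * b⁻¹)) =
          (Nat.card G : ℂ) ^ 2 * ∑ χ ∈ B, f χ * (zv χ * zv χ / χ.1 1) := by
        simp only [Φ]
        rw [Finset.sum_congr rfl fun a _ => Finset.sum_comm, Finset.sum_comm, Finset.mul_sum]
        refine Finset.sum_congr rfl fun χ _ => ?_
        simp only [← Finset.mul_sum]
        rw [sum_conj2_irr χ.2, hzv]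
        ring
      rw [e2] at e1
      simp only [invF, Int.cast_natCast, irr_degree_cast]
      rw [hsum fun χ => f χ * (zv χ * zv χ / χ.1 1), hW]
      field_simp at e1 ⊢
      linear_combination e1
    · have := orderOf_dvd_of_mem_zpowers e
      rw [h.ord_z, orderOf_coe] at this
      exact odd_iff_regular.1 hg this
    · change Φ (qz k x * g) = _
      rw [hΦ, hB1 g hg, hB2 g hg]
      ring
    · rw [hΦ0 g u (H33.isPPart_coe_iff.2 hu) fun e => ?_, ite_self]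
      obtain ⟨i, hi⟩ := hw
      exact qd_not_conj_z h ⟨i, congrArg Subtype.val hi⟩ (fun e => wz (Subtype.ext e))
        (((Cg (qz k x)).subtype.map_isConj huw).symm.trans e)
  · have h0 : l ≠ 0 := by rintro rfl; simp at hl
    have h1 : l ≠ (4 * 2 ^ k : ℕ) := by
      rintro rfl
      refine hl (by
        rw [show ((4 * 2 ^ k : ℕ) : ZMod (2 ^ (k + 3))) * (4 * 2 ^ k : ℕ) =
          (2 ^ (k + 3) : ℕ) * (2 * 2 ^ k) by push_cast; ring, ZMod.natCast_self, zero_mul,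
          ψ.map_zero_eq_one])
    have := sum_mul_prod_eq_zero hM hB (s := qz k x) (t := qz k x) (hXp l) fun a b w ha hb hw e => by
      obtain ⟨c, hc⟩ := isConj_iff.1 e
      have e1 := inverts_pPart Nat.prime_two (mul_self_of_isConj h.zz ha)
        (mul_self_of_isConj h.zz hb) hw
      have e2 : IsConj (X l) (X (-l)) := by
        rw [hXi]
        exact (e.trans (isConj_iff.2 ⟨a, e1⟩)).trans (isConj_iff.2 ⟨c⁻¹, by rw [← hc]; group⟩)
      rw [qd_isConj_iff h (hXA l) (hX1 h0) (hXz h1) (hXA _), ← hXq, hXinj.eq_iff,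
        hXinj.eq_iff] at e2
      rcases e2 with e2 | e2
      · exact (h.eq_one_or_z (hXA l) (by rw [mul_eq_one_iff_eq_inv, ← hXi, e2])).elim
          (hX1 h0) (hXz h1)
      · exact hl (by rw [show ((4 * 2 ^ k : ℕ) : ZMod (2 ^ (k + 3))) * l = 0 by
          linear_combination -e2, ψ.map_zero_eq_one])
    simp only [hzv, map_div₀, map_mul, map_intCast, conj_irr_one] at this
    simp only [Int.cast_natCast, irr_degree_cast]
    rw [hsum fun χ => χ.1 (X l) * (zv χ * zv χ / χ.1 1), this]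

end Cfsg.Agent.H30
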