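/-
Chief factors of a subgroup of an ambient finite group.
-/
import Cfsg.Agent.H49.Quot
import Cfsg.Agent.H49.SylowOf
import Cfsg.Agent.H49.Core
import Cfsg.Agent.H52.CF6

set_option autoImplicit false

open Cfsg Cfsg.Agent.H49

namespace Cfsg.Agent.H30

variable {G : Type*} [Group G] {H K L N : Subgroup G}

/-- `K / L` is a chief factor of `H`. -/
structure Chief (L K H : Subgroup G) : Prop where
  nL : NormalIn L H
  nK : NormalIn K H
  lt : L < K
  min : ∀ M, NormalIn M H → L ≤ M → M ≤ K → M = L ∨ M = K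

theorem Chief.normal (h : Chief L K H) : NormalIn L K := h.nL.restrict h.lt.le h.nK.1

theorem exists_chief_below [Finite G] (hL : NormalIn L H) (hK : NormalIn K H) (h : L < K) :
    ∃ M, L ≤ M ∧ Chief M K H := by
  obtain ⟨M, ⟨h1, h2, h3⟩, hM⟩ := (wellFounded_gt (α := Subgroup G)).has_min
    {M | NormalIn M H ∧ L ≤ M ∧ M < K} ⟨L, hL, le_rfl, h⟩
  refine ⟨M, h2, h1, hK, h3, fun X hX h4 h5 => ?_⟩
  by_contra hc
  push Not at hc
  exact hM X ⟨hX, h2.trans h4, lt_of_le_of_ne h5 hc.2⟩ (lt_of_le_of_ne h4 hc.1.symm)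

theorem exists_chief_above [Finite G] (hL : NormalIn L H) (hK : NormalIn K H) (h : L < K) :
    ∃ M, M ≤ K ∧ Chief L M H := by
  obtain ⟨M, ⟨h1, h2, h3⟩, hM⟩ := (wellFounded_lt (α := Subgroup G)).has_min
    {M | NormalIn M H ∧ M ≤ K ∧ L < M} ⟨K, hK, le_rfl, h⟩
  refine ⟨M, h2, hL, h1, h3, fun X hX h4 h5 => ?_⟩
  by_contra hc
  push Not at hc
  exact hM X ⟨hX, h5.trans h2, lt_of_le_of_ne h4 hc.1.symm⟩ (lt_of_le_of_ne h5 hc.2)

theorem Chief.der_le (h : Chief L K H) (hs : ¬ K ≤ ⁅K, K⁆ ⊔ L) : ⁅K, K⁆ ≤ L := by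
  have hn : NormalIn (⁅K, K⁆ ⊔ L) H :=
    NormalIn.sup ⟨H49.der_le.trans h.nK.1, norm_commutator h.nK.2 h.nK.2⟩ h.nL
  rcases h.min _ hn le_sup_right (sup_le H49.der_le h.lt.le) with e | e
  · exact e ▸ le_sup_left
  · exact absurd e.ge hs

/-- in a group that is solvable modulo `N`, sections above `N` are not perfect -/
theorem not_le_der_sup_of_quotient [Fintype G] [N.Normal] (hs : Group.IsSolvable (G ⧸ N))
    (hN : N ≤ L) (h : NormalIn L K) (hne : L ≠ K) : ¬ K ≤ ⁅K, K⁆ ⊔ L := by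
  classical
  let f := QuotientGroup.mk' N
  have : Fintype (G ⧸ N) := Fintype.ofFinite _
  have hk : f.ker ≤ L := by rw [QuotientGroup.ker_mk']; exact hN
  have h1 : NormalIn (L.map f) (K.map f) := ⟨Subgroup.map_mono h.1, le_norm_iff.2 (by
    rintro _ ⟨a, ha, rfl⟩ _ ⟨x, hx, rfl⟩
    exact ⟨a * x * a⁻¹, conj_mem_of_norm h.2 ha hx, by simp⟩)⟩
  have h2 : L.map f ≠ K.map f := fun e => hne (by
    rw [← Subgroup.comap_map_eq_self hk, e, Subgroup.comap_map_eq_self (hk.trans h.1)])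
  intro hc
  refine H52.not_le_commutator_sup (K := K.map f) inferInstance h1 h2 ?_
  rw [← Subgroup.map_commutator, ← Subgroup.map_sup]
  exact Subgroup.map_mono hc

theorem Chief.der_le_of_quotient [Fintype G] [N.Normal] (h : Chief L K H)
    (hs : Group.IsSolvable (G ⧸ N)) (hN : N ≤ L) : ⁅K, K⁆ ≤ L :=
  h.der_le (not_le_der_sup_of_quotient hs hN h.normal h.lt.ne)

theorem Chief.der_le_of_solvable [Fintype G] (h : Chief L K H) (hs : Group.IsSolvable K) :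
    ⁅K, K⁆ ≤ L :=
  h.der_le (H52.not_le_commutator_sup hs h.normal h.lt.ne)

/-- an abelian chief factor is covered by a Sylow subgroup -/
theorem Chief.exists_sylow [Finite G] (h : Chief L K H) (hab : ⁅K, K⁆ ≤ L) :
    ∃ p : ℕ, p.Prime ∧ ∃ P, IsSylowOf p P K ∧ P ⊔ L = K := by
  have h1 : L.relIndex K ≠ 1 := fun e => h.lt.not_ge (Subgroup.relIndex_eq_one.1 e)
  obtain ⟨p, hp, hd⟩ := Nat.exists_prime_and_dvd h1
  obtain ⟨P, hP⟩ := exists_sylowOf p K
  have hP' := (sylowOf_iff hp).1 hP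
  refine ⟨p, hp, P, hP, ?_⟩
  have hle : P ⊔ L ≤ K := sup_le hP'.1 h.lt.le
  have hn : NormalIn (P ⊔ L) H := by
    refine ⟨hle.trans h.nK.1, ?_⟩
    rw [← (frattini_arg h.nK.1 h.nK.2 hP).sup_eq]
    exact sup_le (norm_of_der_le (hab.trans le_sup_right) hle)
      (norm_sup inf_le_right (inf_le_left.trans h.nL.2))
  rcases h.min _ hn le_sup_right hle with e | e
  · exact absurd (hd.trans (Subgroup.relIndex_dvd_of_le_left K (e ▸ le_sup_left))) hP'.2.2
  · exact e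

theorem Chief.exists_prime_pow [Finite G] (h : Chief L K H) (hab : ⁅K, K⁆ ≤ L) :
    ∃ p n : ℕ, p.Prime ∧ 0 < n ∧ L.relIndex K = p ^ n := by
  obtain ⟨p, hp, P, hP, e⟩ := h.exists_sylow hab
  have hP' := (sylowOf_iff hp).1 hP
  have h1 : L.relIndex K = L.relIndex P := by
    rw [← e]; exact relIndex_sup_of_norm (Or.inl (hP'.1.trans h.normal.2))
  obtain ⟨k, hk⟩ := (isPi_of_isPGroup hp hP'.2.1).exists_card_eq_pow hp
  obtain ⟨n, -, hn⟩ := (Nat.dvd_prime_pow hp).1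
    (hk ▸ Subgroup.relIndex_dvd_card L P : L.relIndex P ∣ p ^ k)
  refine ⟨p, n, hp, Nat.pos_of_ne_zero ?_, h1.trans hn⟩
  rintro rfl
  exact h.lt.not_ge (Subgroup.relIndex_eq_one.1 (h1.trans hn))

end Cfsg.Agent.H30
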