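/-
Fully ramified characters, the going-down theorem, a special case of Mackey's formula and
relative M-groups, in the ambient class function framework.
-/
import Cfsg.Agent.H30.Chief
import Cfsg.Agent.H52.CF7
import Cfsg.Agent.H6.CFExt

set_option autoImplicit false

open scoped ComplexConjugate
open Cfsg Cfsg.Agent.H49 Cfsg.Agent.H54

namespace Cfsg.Agent.H30

variable {G : Type*} [Group G] [Fintype G] {H K L N U : Subgroup G} {φ ψ χ θ : G → ℂ}

theorem relIndex_mul_nrm_eq (hK : K ≤ L) (φ : G → ℂ) :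
    (K.relIndex L : ℝ) * nrm L φ =
      nrm K φ + (Nat.card K : ℝ)⁻¹ * ∑ x ∈ fin ((L : Set G) \ K), ‖φ x‖ ^ 2 := by
  have h1 := H52.card_pos_real K
  have h2 : (0 : ℝ) < K.relIndex L := by exact_mod_cast relIndex_pos K L
  rw [H52.nrm_eq_sum, H52.nrm_eq_sum, ← H52.sum_fin_diff (A := (K : Set G)) (B := (L : Set G)) hK,
    ← card_mul_relIndex hK]
  push_cast
  field_simp
  ring

theorem nrm_le_relIndex_mul (hK : K ≤ L) (φ : G → ℂ) : nrm K φ ≤ K.relIndex L * nrm L φ := by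
  rw [relIndex_mul_nrm_eq hK]
  have := H52.card_pos_real K
  have : 0 ≤ (Nat.card K : ℝ)⁻¹ * ∑ x ∈ fin ((L : Set G) \ K), ‖φ x‖ ^ 2 := by positivity
  linarith

theorem nrm_eq_of_vanish (hK : K ≤ L) (h : ∀ x ∈ L, x ∉ K → φ x = 0) :
    nrm K φ = K.relIndex L * nrm L φ := by
  rw [relIndex_mul_nrm_eq hK, Finset.sum_eq_zero fun x hx => by
    rw [h x (mem_fin.1 hx).1 (mem_fin.1 hx).2]; simp]
  simp

theorem vanish_of_nrm (hK : K ≤ L) (h : K.relIndex L * nrm L φ ≤ nrm K φ) :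
    ∀ x ∈ L, x ∉ K → φ x = 0 := by
  intro x hx hx'
  rw [relIndex_mul_nrm_eq hK] at h
  have h1 := inv_pos.2 (H52.card_pos_real K)
  have h2 : ∑ x ∈ fin ((L : Set G) \ K), ‖φ x‖ ^ 2 ≤ 0 := by
    by_contra hc
    have := mul_pos h1 (not_le.1 hc)
    linarith
  have h3 := Finset.single_le_sum (f := fun x => ‖φ x‖ ^ 2) (s := fin ((L : Set G) \ K))
    (fun _ _ => by positivity) (mem_fin.2 ⟨hx, hx'⟩)
  have h4 : ‖φ x‖ ^ 2 = 0 := le_antisymm (h3.trans h2) (by positivity)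
  simpa using h4

theorem nrm_res (L : Subgroup G) (φ : G → ℂ) : nrm L (res L φ) = nrm L φ := by
  rw [H52.nrm_def, H52.dot_res_left, H52.dot_res_right, H52.nrm_def]

theorem nrm_of_res_eq {e : ℕ} (hθ : θ ∈ irr K) (h : res K χ = (e : ℂ) • θ) :
    nrm K χ = (e : ℝ) ^ 2 := by
  rw [← nrm_res, h, H52.nrm_smul, H52.nrm_irr hθ]; simp

theorem dot_of_res_eq {c : ℂ} (hθ : θ ∈ irr K) (h : res K χ = c • θ) : dot K χ θ = c := by
  rw [← H52.dot_res_left, h, H52.dot_smul_left, H52.dot_irr_self hθ, mul_one]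

omit [Fintype G] in
theorem one_of_res_eq {c : ℂ} (h : res K χ = c • θ) : χ 1 = c * θ 1 := by
  rw [← H52.res_one K χ, h]; rfl

theorem invariant_of_res_eq {c : ℂ} (hK : L ≤ 𝒩(K)) (hχ : χ ∈ CF L) (hc : c ≠ 0)
    (h : res K χ = c • θ) {g : G} (hg : g ∈ L) : cfConjg g θ = θ := by
  have := H52.cfConjg_res_CF hK hχ hg
  rw [h, H52.cfConjg_smul] at this
  exact smul_right_injective _ hc this

omit [Fintype G] in
theorem ne_zero_of_res_eq {c : ℂ} (hχ : χ 1 ≠ 0) (h : res K χ = c • θ) : c ≠ 0 := by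
  rintro rfl
  exact hχ (by rw [one_of_res_eq h, zero_mul])

/-- a fully ramified character vanishes off the subgroup -/
theorem vanish_of_ramified {e : ℕ} (hK : K ≤ L) (hχ : χ ∈ irr L) (hθ : θ ∈ irr K)
    (h : res K χ = (e : ℂ) • θ) (he : K.relIndex L ≤ e ^ 2) : ∀ x ∈ L, x ∉ K → χ x = 0 := by
  refine vanish_of_nrm hK ?_
  rw [H52.nrm_irr hχ, nrm_of_res_eq hθ h, mul_one]
  exact_mod_cast he

theorem sq_eq_of_vanish {e : ℕ} (hK : K ≤ L) (hχ : χ ∈ irr L) (hθ : θ ∈ irr K)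
    (h : res K χ = (e : ℂ) • θ) (hv : ∀ x ∈ L, x ∉ K → χ x = 0) : e ^ 2 = K.relIndex L := by
  have := nrm_eq_of_vanish hK hv
  rw [H52.nrm_irr hχ, nrm_of_res_eq hθ h, mul_one] at this
  exact_mod_cast this

theorem exists_res_eq_of_invariant (hK : NormalIn K L) (hχ : χ ∈ irr L) (hθ : θ ∈ irr K)
    (h : dot K χ θ ≠ 0) (hinv : ∀ g ∈ L, cfConjg g θ = θ) : ∃ e : ℕ, res K χ = (e : ℂ) • θ := by
  obtain ⟨e, he⟩ := H6A.dot_res_nat hK.1 (H52.irr_char hχ) (H52.irr_char hθ)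
  exact ⟨e, by rw [H52.res_eq_smul_of_invariant hK hχ hθ h hinv, he]⟩

/-- a character all of whose constituents equal `χ` is a multiple of `χ` -/
theorem eq_smul_of_unique (hφ : φ ∈ CF L) (hχ : χ ∈ irr L)
    (h : ∀ ψ ∈ irr L, dot L φ ψ ≠ 0 → ψ = χ) : φ = dot L φ χ • χ := by
  refine H52.CF_ext_dot_irr hφ (Submodule.smul_mem _ _ (H52.irr_CF hχ)) fun ψ hψ => ?_
  rw [H52.dot_smul_left]
  by_cases e : ψ = χ
  · rw [e, H52.dot_irr_self hχ, mul_one]
  · rw [H52.dot_irr_ne hχ hψ (Ne.symm e), mul_zero]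
    by_contra hc
    exact e (h ψ hψ hc)

theorem ind_eq_of_ramified {e : ℕ} (hK : K ≤ L) (hχ : χ ∈ irr L) (hθ : θ ∈ irr K)
    (h : res K χ = (e : ℂ) • θ) (he : e ^ 2 = K.relIndex L) : ind L K θ = (e : ℂ) • χ := by
  have h1 : dot L (ind L K θ) χ = e := by
    rw [H52.dot_ind_left hK θ (H52.irr_CF hχ)]
    exact H52.dot_symm_of_int (n := e) (by rw [dot_of_res_eq hθ h]; simp)
  have h2 := H52.char_sub_dot_smul (H52.ind_char hK (H52.irr_char hθ)) hχ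
  rw [h1] at h2
  refine sub_eq_zero.1 (H52.char_eq_zero_of_one h2 ?_)
  rw [Pi.sub_apply, H52.ind_one hK, Pi.smul_apply, one_of_res_eq h, ← he]
  push_cast
  rw [smul_eq_mul]
  ring

theorem sq_eq_of_ind_eq {e : ℕ} {c : ℂ} (hK : K ≤ L) (hχ : χ ∈ irr L) (hθ : θ ∈ irr K)
    (h : res K χ = (e : ℂ) • θ) (hc : ind L K θ = c • χ) : e ^ 2 = K.relIndex L := by
  have h1 : dot L (ind L K θ) χ = e := by
    rw [H52.dot_ind_left hK θ (H52.irr_CF hχ)]
    exact H52.dot_symm_of_int (n := e) (by rw [dot_of_res_eq hθ h]; simp)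
  rw [hc, H52.dot_smul_left, H52.dot_irr_self hχ, mul_one] at h1
  have h2 := congrFun hc 1
  rw [H52.ind_one hK, Pi.smul_apply, one_of_res_eq h, h1, smul_eq_mul, ← mul_assoc] at h2
  have h3 := mul_right_cancel₀ (H52.irr_one_ne_zero hθ) h2
  exact_mod_cast (by rw [h3]; ring : ((e : ℂ)) ^ 2 = K.relIndex L)

/-! ### Going down -/

theorem res_irr_of_stab_trivial (hL : NormalIn L K) (hab : ⁅K, K⁆ ≤ L) (hθ : θ ∈ irr K)
    (h : ∀ l ∈ irr K, L ≤ cfker K l → l * θ = θ → l = cf1 K) : res L θ ∈ irr L := by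
  classical
  refine H52.irr_of_char_dot_one (H52.char_res hL.1 (H52.irr_char hθ)) ?_
  rw [← H52.dot_ind_left_res hL.1 _ (H52.irr_CF hθ), H52.ind_res_eq hL.1 (H52.irr_CF hθ),
    H52.ind_cf1_of_normal hL, ← H52.sum_irrKer_smul hL, Finset.sum_mul, H52.dot_sum_left,
    Finset.sum_eq_single (cf1 K)]
  · rw [H52.cf1_one, one_smul, H52.cf1_mul (H52.irr_supp hθ), H52.dot_irr_self hθ]
  · intro l hl hne
    obtain ⟨h1, h2⟩ := Finset.mem_filter.1 hl
    rw [smul_mul_assoc, H52.dot_smul_left, H52.dot_irr_ne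
      (H52.lin_mul_irr (H52.lin_of_le_cfker hab h1 h2) hθ) hθ fun e => hne (h l h1 h2 e), mul_zero]
  · intro hc
    exact absurd (Finset.mem_filter.2 ⟨H52.cf1_irr K, by rw [H52.cfker_cf1]; exact hL.1⟩) hc

theorem Chief.res_irr_or_vanish (h : Chief L K H) (hab : ⁅K, K⁆ ≤ L) (hθ : θ ∈ irr K)
    (hinv : ∀ g ∈ H, cfConjg g θ = θ) : res L θ ∈ irr L ∨ ∀ x ∈ K, x ∉ L → θ x = 0 := by
  let U : Subgroup G := K ⊓ ⨅ l ∈ {l | l ∈ irr K ∧ L ≤ cfker K l ∧ l * θ = θ}, cfker K l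
  have mem : ∀ x, x ∈ U ↔ x ∈ K ∧ ∀ l ∈ irr K, L ≤ cfker K l → l * θ = θ → x ∈ cfker K l := by
    intro x
    simp only [U, Subgroup.mem_inf, Subgroup.mem_iInf, Set.mem_ofPred_eq, and_imp]
  have hU : NormalIn U H := by
    refine ⟨inf_le_left.trans h.nK.1, le_norm_iff.2 fun g hg x hx => ?_⟩
    rw [mem] at hx ⊢
    refine ⟨conj_mem_of_norm h.nK.2 hg hx.1, fun l h1 h2 h3 => ?_⟩
    rw [← H6A.mem_cfker_cfConjg (h.nK.2 hg)]
    refine hx.2 _ (H52.cfConjg_irr (h.nK.2 hg) h1)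
      ((H52.le_cfker_cfConjg_iff (h.nK.2 hg) (h.nL.2 hg) l).2 h2) ?_
    rw [← hinv g hg, ← H52.cfConjg_mul_fun, h3]
  rcases h.min U hU (fun x hx => (mem x).2 ⟨h.lt.le hx, fun l _ h2 _ => h2 hx⟩) inf_le_left with
    e | e
  · right
    intro x hx hx'
    by_contra hc
    refine hx' (e ▸ (mem x).2 ⟨hx, fun l h1 h2 h3 => ?_⟩)
    rw [H52.mem_cfker_irr h1, (H52.lin_of_le_cfker hab h1 h2).2]
    exact mul_right_cancel₀ hc (by rw [one_mul]; exact congrFun h3 x)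
  · left
    exact res_irr_of_stab_trivial h.normal hab hθ fun l h1 h2 h3 =>
      H52.irr_eq_cf1_of_le_cfker h1 fun x hx => ((mem x).1 (e ▸ hx)).2 l h1 h2 h3

theorem Chief.inertia_cases (h : Chief L K H) (hab : ⁅K, K⁆ ≤ L) (hθ : θ ∈ irr K)
    (hinv : ∀ g ∈ H, cfConjg g θ = θ) (hφ : φ ∈ irr L) (hd : dot L θ φ ≠ 0) :
    inertia K φ = L ∨ inertia K φ = K := by
  have hL : L ≤ inertia K φ := H52.le_inertia h.lt.le (H52.irr_CF hφ)
  refine h.min _ ⟨(H52.inertia_le K φ).trans h.nK.1, fun g hg => ?_⟩ hL (H52.inertia_le K φ)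
  have hd' : dot L θ (cfConjg g⁻¹ φ) ≠ 0 := by
    rwa [← H52.dot_cfConjg_left (h.nL.2 hg), hinv g hg]
  obtain ⟨k, hk, e⟩ := H52.mem_cfclass.1 (H52.mem_cfclass_of_under h.normal hθ hφ
    (H52.cfConjg_irr (h.nL.2 (inv_mem hg)) hφ) hd hd')
  have e1 := H52.inertia_cfConjg (h.nK.2 (inv_mem hg)) φ
  rw [← e, H52.inertia_cfConjg (Subgroup.le_normalizer hk), inv_inv,
    cj_eq_of_mem_norm (norm_of_der_le (hab.trans hL) (H52.inertia_le K φ) (inv_mem hk))] at e1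
  exact mem_norm_iff_cj.2 e1.symm

/-- the going-down theorem -/
theorem Chief.going_down (h : Chief L K H) (hab : ⁅K, K⁆ ≤ L) (hθ : θ ∈ irr K)
    (hinv : ∀ g ∈ H, cfConjg g θ = θ) : res L θ ∈ irr L ∨
      (∃ φ ∈ irr L, ∃ e : ℕ, res L θ = (e : ℂ) • φ ∧ e ^ 2 = L.relIndex K) ∨
      ∃ φ ∈ irr L, inertia K φ = L ∧ θ = ind K L φ := by
  rcases h.res_irr_or_vanish hab hθ hinv with h1 | h1
  · exact Or.inl h1
  right
  obtain ⟨φ, hφ, hd⟩ := H52.exists_irr_under h.lt.le (H52.irr_CF hθ) (H52.irr_one_ne_zero hθ)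
  rcases h.inertia_cases hab hθ hinv hφ hd with e | e
  · exact Or.inr ⟨φ, hφ, e, H52.eq_ind_of_inertia_le h.normal hθ hφ hd e.le⟩
  · obtain ⟨n, hn⟩ := exists_res_eq_of_invariant h.normal hθ hφ hd
      fun g hg => (e.ge hg).2
    exact Or.inl ⟨φ, hφ, n, hn, sq_eq_of_vanish h.lt.le hθ hφ hn h1⟩

/-! ### Mackey's formula for a factorisation -/

theorem sum_isProd (h : IsProd U K H) (f : G → ℂ) :
    (Nat.card ↥(K ⊓ U) : ℂ) * ∑ x ∈ fin (H : Set G), f x =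
      ∑ u ∈ fin (U : Set G), ∑ k ∈ fin (K : Set G), f (u * k) := by
  classical
  have h1 : ∀ u ∈ fin (U : Set G), ∑ k ∈ fin (K : Set G), f (u * k) =
      ∑ x ∈ fin (H : Set G), if u⁻¹ * x ∈ K then f x else 0 := by
    intro u hu
    rw [← H52.sum_fin_mul_left (h.1 (mem_fin.1 hu)),
      ← H52.sum_fin_subset (A := K) h.2.1 (fun x _ hx => if_neg (by simpa using hx))]
    exact Finset.sum_congr rfl fun k hk => (if_pos (by simpa using mem_fin.1 hk)).symm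
  rw [Finset.sum_congr rfl h1, Finset.sum_comm, Finset.mul_sum]
  refine Finset.sum_congr rfl fun x hx => ?_
  obtain ⟨u, hu, k, hk, rfl⟩ := h.2.2 x (mem_fin.1 hx)
  rw [← H52.sum_fin_mul_left hu, ← H52.sum_fin_subset (A := ((K ⊓ U : Subgroup G) : Set G))
    (B := (U : Set G)) (fun y hy => hy.2) (fun y hy hy' => if_neg fun hc => hy' (Subgroup.mem_inf.2 ⟨by
      have : y⁻¹ * k ∈ K := by simpa [mul_assoc] using hc
      simpa using mul_mem hk (inv_mem this), hy⟩)),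
    Finset.sum_congr rfl (g := fun _ => f (u * k)) fun y hy => if_pos (by
      simpa [mul_assoc] using mul_mem (K.inv_mem (mem_fin.1 hy).1) hk),
    Finset.sum_const, H52.card_fin_subgroup, nsmul_eq_mul]

theorem res_ind_isProd (h : IsProd U K H) (hθ : θ ∈ CF U) :
    res K (ind H U θ) = ind K (K ⊓ U) θ := by
  refine H52.ext_supp (H52.res_supp _ _) (H52.ind_supp _ _ _) fun x hx => ?_
  rw [res_apply_of_mem _ hx, H52.ind_apply_of_supp' hθ.1 (h.2.1 hx), H52.ind_apply' _ hx]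
  have h1 := sum_isProd h fun y => θ (y * x * y⁻¹)
  have h2 : ∀ u ∈ fin (U : Set G), ∑ k ∈ fin (K : Set G), θ (u * k * x * (u * k)⁻¹) =
      ∑ k ∈ fin (K : Set G), res (K ⊓ U) θ (k * x * k⁻¹) := by
    intro u hu
    refine Finset.sum_congr rfl fun k hk => ?_
    have hk' : k ∈ K := mem_fin.1 hk
    rw [show u * k * x * (u * k)⁻¹ = u * (k * x * k⁻¹) * u⁻¹ by group, hθ.2 u (mem_fin.1 hu)]
    by_cases hc : k * x * k⁻¹ ∈ U
    · rw [res_apply_of_mem _ (Subgroup.mem_inf.2 ⟨mul_mem (mul_mem hk' hx) (inv_mem hk'), hc⟩)]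
    · rw [res_apply_of_not_mem _ fun e => hc (Subgroup.mem_inf.1 e).2, hθ.1 _ hc]
  rw [Finset.sum_congr rfl h2, Finset.sum_const, H52.card_fin_subgroup, nsmul_eq_mul] at h1
  have h3 := H52.card_ne_zero' U
  have h4 := H52.card_ne_zero' (K ⊓ U)
  field_simp
  linear_combination h1

/-! ### Relative M-groups -/

theorem exists_ind_res_irr [N.Normal] (hs : Group.IsSolvable (G ⧸ N))
    (hc : ∀ H K L : Subgroup G, N ≤ L → Chief L K H → ¬ IsSquare (L.relIndex K))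
    (hH : N ≤ H) (hχ : χ ∈ irr H) :
    ∃ U, N ≤ U ∧ U ≤ H ∧ ∃ ψ ∈ irr U, ind H U ψ = χ ∧ res N ψ ∈ irr N := by
  induction H using (wellFounded_lt (α := Subgroup G)).induction generalizing χ with
  | _ H ih =>
  have nN : NormalIn N H := ⟨hH, le_top.trans (normal_iff_top_le_norm.1 inferInstance)⟩
  obtain ⟨K, ⟨h1, h2, h3⟩, hK⟩ := (wellFounded_lt (α := Subgroup G)).has_min
    {K | NormalIn K H ∧ N ≤ K ∧ res K χ ∈ irr K}
    ⟨H, NormalIn.refl H, hH, by rwa [H52.res_eq_self (H52.irr_supp hχ)]⟩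
  rcases h2.eq_or_lt with rfl | h2
  · exact ⟨H, hH, le_rfl, χ, hχ, H52.ind_self (H52.irr_CF hχ), h3⟩
  obtain ⟨L, hL, hch⟩ := exists_chief_below nN h1 h2
  rcases hch.going_down (hch.der_le_of_quotient hs hL) h3
    (fun g hg => H52.cfConjg_res_CF h1.2 (H52.irr_CF hχ) hg) with
    e | ⟨φ, -, e, -, he⟩ | ⟨φ, hφ, e1, e2⟩
  · rw [H52.res_res hch.lt.le] at e
    exact absurd hch.lt (hK L ⟨hch.nL, hL, e⟩)
  · exact absurd ⟨e, by rw [← he, sq]⟩ (hc H K L hL hch)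
  have hd : dot L χ φ ≠ 0 := by
    rw [← H52.dot_res_left, ← H52.res_res hch.lt.le, H52.dot_res_left, e2]
    exact H52.dot_ind_self_ne_zero hch.lt.le (H52.irr_one_ne_zero hφ)
  obtain ⟨ψ, hψ, -, e3, -⟩ := H6A.exists_ind_inertia_eq hch.nL hφ hχ hd
  have hlt : inertia H φ < H := lt_of_le_of_ne (H52.inertia_le H φ) fun e => hch.lt.ne (by
    rw [← e1, H52.inertia_eq_inf h1.1, e, inf_eq_left.2 h1.1])
  obtain ⟨U, u1, u2, ξ, hξ, e4, e5⟩ := ih _ hlt
    (hL.trans (H52.le_inertia hch.nL.1 (H52.irr_CF hφ))) hψ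
  exact ⟨U, u1, u2.trans hlt.le, ξ, hξ, by rw [← e3, ← e4, H52.ind_ind u2 hlt.le], e5⟩

/-- every irreducible character is induced from a quasi-primitive one -/
theorem exists_ind_quasiprimitive (hχ : χ ∈ irr H) :
    ∃ U, U ≤ H ∧ ∃ θ ∈ irr U, ind H U θ = χ ∧
      ∀ A, NormalIn A U → ∃ l ∈ irr A, ∃ e : ℕ, res A θ = (e : ℂ) • l := by
  obtain ⟨U, ⟨h1, θ, hθ, h2⟩, hU⟩ := (wellFounded_lt (α := Subgroup G)).has_min
    {U | U ≤ H ∧ ∃ θ ∈ irr U, ind H U θ = χ} ⟨H, le_rfl, χ, hχ, H52.ind_self (H52.irr_CF hχ)⟩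
  refine ⟨U, h1, θ, hθ, h2, fun A hA => ?_⟩
  obtain ⟨l, hl, hd⟩ := H52.exists_irr_under hA.1 (H52.irr_CF hθ) (H52.irr_one_ne_zero hθ)
  obtain ⟨ψ, hψ, -, e3, -⟩ := H6A.exists_ind_inertia_eq hA hl hθ hd
  have hle := H52.inertia_le U l
  have e : inertia U l = U := by
    by_contra hc
    exact hU _ ⟨hle.trans h1, ψ, hψ, by rw [← h2, ← e3, H52.ind_ind hle h1]⟩
      (lt_of_le_of_ne hle hc)
  exact ⟨l, hl, exists_res_eq_of_invariant hA hθ hl hd fun g hg => (e.ge hg).2⟩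

/-! ### Dictionary with functions on the subgroup -/

omit [Fintype G] in
theorem extend_invariant_iff [hN : N.Normal] {ϑ : N → ℂ} :
    (∀ g, cfConjg g (extendByZero N ϑ) = extendByZero N ϑ) ↔
      ∀ (g : G) (n : N), ϑ ⟨g * n * g⁻¹, hN.conj_mem (n : G) n.2 g⟩ = ϑ n := by
  constructor
  · intro h g n
    have := congrFun (h g) n
    rwa [cfConjg_apply, H6.extendByZero_of_mem N ϑ (hN.conj_mem (n : G) n.2 g),
      H6.extendByZero_coe] at this
  · intro h g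
    ext x
    rw [cfConjg_apply]
    by_cases hx : x ∈ N
    · rw [H6.extendByZero_of_mem N ϑ (hN.conj_mem x hx g), H6.extendByZero_of_mem N ϑ hx]
      exact h g ⟨x, hx⟩
    · rw [H6.extendByZero_of_notMem N ϑ hx, H6.extendByZero_of_notMem N ϑ
        fun e => hx (by simpa [mul_assoc] using hN.conj_mem _ e g⁻¹)]

theorem dot_extend_right [Fintype N] (χ : G → ℂ) (ϑ : N → ℂ) :
    dot N χ (extendByZero N ϑ) = classInner (fun n : N => χ n) ϑ := by
  rw [H52.dot_eq_classInner, H52.rst_extend]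

omit [Fintype G] in
theorem res_eq_smul_extend_iff {c : ℂ} {ϑ : N → ℂ} :
    res N χ = c • extendByZero N ϑ ↔ (fun n : N => χ n) = c • ϑ := by
  constructor
  · intro h
    ext n
    have := congrFun h n
    rwa [res_apply_of_mem _ n.2, Pi.smul_apply, H6.extendByZero_coe] at this
  · intro h
    ext x
    by_cases hx : x ∈ N
    · rw [res_apply_of_mem _ hx, Pi.smul_apply, H6.extendByZero_of_mem N ϑ hx]
      exact congrFun h ⟨x, hx⟩
    · rw [res_apply_of_not_mem _ hx, Pi.smul_apply, H6.extendByZero_of_notMem N ϑ hx, smul_zero]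

omit [Fintype G] in
theorem rst_eq_smul_of_res {c : ℂ} (h : res N χ = c • θ) :
    (fun n : N => χ n) = c • H52.rst N θ := by
  ext n
  have := congrFun h n
  rwa [res_apply_of_mem _ n.2] at this

omit [Fintype G] in
theorem rst_extend_of_le (h : L ≤ K) (ϑ : K → ℂ) :
    H52.rst L (extendByZero K ϑ) = fun x : L => ϑ ⟨x, h x.2⟩ := by
  ext x
  exact H6.extendByZero_of_mem K ϑ (h x.2)

theorem res_irr_iff : res N χ ∈ irr N ↔ IsIrrCharacter N fun n : N => χ n :=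
  ⟨fun h => by simpa only [H52.rst_res] using H52.irr_rst h, H52.res_irr_of_rst⟩

theorem res_extend_irr_iff (h : L ≤ K) {ϑ : K → ℂ} :
    res L (extendByZero K ϑ) ∈ irr L ↔ IsIrrCharacter L fun x : L => ϑ ⟨x, h x.2⟩ := by
  rw [res_irr_iff, ← rst_extend_of_le h]

omit [Fintype G] in
theorem normalIn_top (N : Subgroup G) [hN : N.Normal] : NormalIn N ⊤ := normalIn_top_iff.2 hN

end Cfsg.Agent.H30
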