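/-
TI-subgroups with Frobenius normaliser: exceptional characters.
-/
import Cfsg.Agent.S1526
import Cfsg.Agent.H53.TICoh
import Cfsg.Agent.H53.Uniform
import Cfsg.Agent.H30.Ramified

set_option autoImplicit false

open Cfsg Cfsg.Agent.H49 Cfsg.Agent.H54

namespace Cfsg.Agent.H30

variable {G : Type*} [Group G] [Fintype G] {K L : Subgroup G}

theorem frobKer_mem_seqIndD (h : FrobKer L K) {χ : G → ℂ} :
    χ ∈ seqIndD K L K ⊥ ↔ χ ∈ irr L ∧ ∃ k ∈ K, χ k ≠ χ 1 := by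
  constructor
  · intro hχ
    have hi := PF.frobKer_seqIndD_irr h hχ
    refine ⟨hi, ?_⟩
    by_contra hc
    push Not at hc
    exact H52.seqIndD_not_le_cfker h.normal.1 hχ ((H52.le_cfker_irr hi).2 hc)
  · rintro ⟨hi, k, hk, hne⟩
    obtain ⟨θ, hθ, h1, rfl⟩ := (PF.Frobenius_Ind_irrP h hi).1
      fun hc => hne ((H52.le_cfker_irr hi).1 hc k hk)
    exact H52.ind_mem_seqInd (H52.mem_irrKerD_self_bot.2 ⟨hθ, h1⟩)

/-- the irreducible characters of `L` not containing `K` in the kernel, as functions on `L` -/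
def relSet (L K : Subgroup G) : Set (L → ℂ) :=
  {χ | IsIrrCharacter L χ ∧ ∃ k : L, (k : G) ∈ K ∧ χ k ≠ χ 1}

theorem rst_mem_relSet (h : FrobKer L K) {ξ : G → ℂ} (hξ : ξ ∈ seqIndD K L K ⊥) :
    H52.rst L ξ ∈ relSet L K := by
  obtain ⟨h1, k, hk, h2⟩ := (frobKer_mem_seqIndD h).1 hξ
  exact ⟨H52.irr_rst h1, ⟨k, h.normal.1 hk⟩, hk, h2⟩

theorem extend_mem_seqIndD (h : FrobKer L K) {χ : L → ℂ} (hχ : χ ∈ relSet L K) :
    extendByZero L χ ∈ seqIndD K L K ⊥ := by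
  obtain ⟨h1, k, hk, h2⟩ := hχ
  exact (frobKer_mem_seqIndD h).2 ⟨H52.extend_irr h1, k, hk, by
    rwa [H6.extendByZero_coe, H6A.extend_apply_one]⟩

omit [Fintype G] in
theorem relSet_eq [Fintype L] (h : FrobKer L K) :
    relSet L K = (seqIndD (K.subgroupOf L) ⊤ (K.subgroupOf L) ⊥ : Set (L → ℂ)) := by
  ext χ
  rw [Finset.mem_coe, frobKer_mem_seqIndD (H53.frobKer_subgroupOf h), H52.mem_irr_top]
  rfl

omit [Fintype G] in
theorem normedTI_sharp (hK : NormalIn K L) (h1 : K ≠ ⊥)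
    (hTI : ∀ g : G, g ∉ L → ∀ k ∈ K, g * k * g⁻¹ ∈ K → k = 1) : NormedTI (sharp K) L := by
  refine ⟨?_, fun h => h.2 rfl, fun x hx => hK.1 hx.1, fun g hg a ha =>
    ⟨conj_mem_of_norm hK.2 hg ha.1, fun e => ha.2 ?_⟩, fun g a ha hg => ?_⟩
  · exact ne_bot_iff_exists.1 h1
  · simpa using e
  · by_contra hgL
    exact ha.2 (hTI g hgL a ha.1 hg.1)

/-- an isometry on the functions on `L` as an ambient coherent extension -/
theorem exists_cohWith_of_star [Fintype L] (h : FrobKer L K) (hT : NormedTI (sharp K) L)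
    {star : (L → ℂ) → (G → ℂ)} (hstar : IsLinearIsometryOn (zspan (relSet L K)) star)
    (hext : ∀ α ∈ zspanOn (relSet L K) {1}ᶜ, star α = indFun L α) :
    ∃ ν : (G → ℂ) →ₗ[ℂ] (G → ℂ),
      CohWith L (seqIndD K L K ⊥) (dade (sharp K) L fun _ => ⊥) ν ∧
      ∀ ξ ∈ seqIndD K L K ⊥, ν ξ = star (H52.rst L ξ) := by
  obtain ⟨T, hT'⟩ := H53.exists_linear_of_isometryOn hstar
  let r : (G → ℂ) →ₗ[ℂ] (L → ℂ) := LinearMap.funLeft ℂ ℂ Subtype.val
  have hr : ∀ φ ∈ Z (seqIndD K L K ⊥), H52.rst L φ ∈ zspan (relSet L K) := fun φ hφ =>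
    H52.Z_le_of_forall (V := (Submodule.span ℤ (relSet L K)).comap (r.restrictScalars ℤ))
      (fun χ hχ => Submodule.subset_span (rst_mem_relSet h hχ)) hφ
  have he : ∀ φ ∈ Z (seqIndD K L K ⊥), (T ∘ₗ r) φ = star (H52.rst L φ) := fun φ hφ =>
    hT' _ (hr φ hφ)
  refine ⟨T ∘ₗ r, PF.cohWith_dade_of_ind h.normal (PF.normedTI_Dade hT) subset_rfl hT
    (H52.seqIndD_subset_T _ _ _ _) ⟨fun φ hφ ψ hψ => ?_, fun φ hφ => ?_, fun φ hφ h1 => ?_⟩,
    fun ξ hξ => he ξ (H52.mem_Z hξ)⟩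
  · rw [he φ hφ, he ψ hψ, H52.dot_top, hstar.2.2.1 _ (hr φ hφ) _ (hr ψ hψ),
      H52.dot_eq_classInner]
  · rw [he φ hφ]
    exact H52.mem_vchar_top.2 (hstar.2.2.2 _ (hr φ hφ))
  · rw [he φ hφ, hext _ (H53.mem_zspanOn_one.2 ⟨hr φ hφ, h1⟩), H52.ind_top]

variable {ν : (G → ℂ) →ₗ[ℂ] (G → ℂ)}

theorem invDade_bot {A : Set G} (χ : G → ℂ) {x : G} (hx : x ∈ A) :
    invDade A (fun _ => ⊥) χ x = χ x :=
  PF.invDade_apply_of_const hx fun u hu => by rw [Subgroup.mem_bot.1 hu, mul_one]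

theorem exists_ref_of_frobKer (h : FrobKer L K) :
    ∃ ζ ∈ seqIndD K L K ⊥, ζ 1 = K.relIndex L :=
  PF.exists_seqIndD_lin h.normal.1 (solvable_of_nilpotent (S1526.frobKer_nilpotent h)) h.ne_bot

/-- values of the exceptional characters on `K^#` -/
theorem exists_exc_value (h : FrobKer L K) (hT : NormedTI (sharp K) L)
    (hν : CohWith L (seqIndD K L K ⊥) (dade (sharp K) L fun _ => ⊥) ν)
    (h2 : 1 < (seqIndD K L K ⊥).card) : ∃ m : ℤ, ∀ ξ ∈ seqIndD K L K ⊥, ∀ x ∈ sharp K,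
      ν ξ x - ξ x = m * ξ 1 / K.relIndex L := by
  obtain ⟨ζ, hζ, hζ1⟩ := exists_ref_of_frobKer h
  have dd := PF.normedTI_Dade hT
  obtain ⟨a, Γ, -, -, -, -, -, -, -, ha, -⟩ := PF.Dade_Ind1_sub_lin_core h.normal hν hζ hζ1 dd h2
    (PF.frobKer_seqIndD_irr h hζ) rfl
  refine ⟨a, fun ξ hξ x hx => ?_⟩
  have e := congrFun (PF.Dade_seqInd_sub_lin h.normal hν hζ hζ1 hξ) x
  rw [PF.Dade_id dd (PF.seqInd_sub_lin_on h.normal hζ (H52.seqIndD_subset_T _ _ _ _ hξ)).1 hx] at e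
  have e2 := ha x hx
  rw [invDade_bot _ hx] at e2
  simp only [Pi.sub_apply, Pi.smul_apply, smul_eq_mul, e2, hζ1] at e
  linear_combination -e

theorem seqIndD_not_const (hK : NormalIn K L) (h2 : 1 < (seqIndD K L K ⊥).card) {ξ : G → ℂ}
    (hξ : ξ ∈ seqIndD K L K ⊥) {c : ℂ} (hc : ∀ x ∈ sharp K, ξ x = c) : False := by
  obtain ⟨φ, hφ, hne⟩ := Finset.exists_mem_ne h2 ξ
  have hT := H52.seqIndD_subset_T K L K ⊥
  have hs := H52.seqIndT_supp hK.2 (hT hξ)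
  have e : ∀ ψ : G → ℂ, (Nat.card L : ℂ) * dot L ψ (ξ - c • cf1 K) =
      ψ 1 * starRingEnd ℂ (ξ 1 - c) := by
    intro ψ
    rw [H52.dot_def, mul_inv_cancel_left₀ (H52.card_ne_zero' L), H52.sum_fin_sharp,
      Finset.sum_eq_zero fun x hx => ?_]
    · simp [H52.cf1_one]
    · by_cases hxK : x ∈ K
      · simp [hc x ⟨hxK, (mem_fin.1 hx).2⟩, H52.cf1_apply_of_mem hxK]
      · simp [hs x hxK, H52.cf1_apply_of_not_mem hxK]
  have e1 : ∀ ψ ∈ seqIndD K L K ⊥, dot L ψ (cf1 K) = 0 := fun ψ hψ => by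
    have := H52.dot_seqIndD_ind_cf1 hK le_rfl hψ
    rw [H52.ind_cf1_of_normal hK, H52.dot_natCast_smul_right] at this
    exact (mul_eq_zero.1 this).resolve_left (H52.relIndex_ne_zero' K L)
  have e2 := e φ
  rw [H52.dot_sub_right, H52.dot_smul_right, e1 φ hφ, H52.seqIndT_orth hK (hT hφ) (hT hξ) hne] at e2
  have e3 : starRingEnd ℂ (ξ 1 - c) = 0 := by
    have := H52.seqIndT_one_ne_zero hK.1 (hT hφ)
    simpa [this] using e2.symm
  have e4 := e ξ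
  rw [H52.dot_sub_right, H52.dot_smul_right, e1 ξ hξ, e3, mul_zero, mul_zero, sub_zero] at e4
  exact mul_ne_zero (H52.card_ne_zero' L) (H52.seqIndT_dot_self_ne_zero hK.1 (hT hξ)) e4

/-- the exceptional characters are those not constant on `K^#` -/
theorem exceptional_iff (h : FrobKer L K) (hT : NormedTI (sharp K) L)
    (hν : CohWith L (seqIndD K L K ⊥) (dade (sharp K) L fun _ => ⊥) ν)
    (h2 : 1 < (seqIndD K L K ⊥).card) {ψ : G → ℂ} (hψ : ψ ∈ irr (⊤ : Subgroup G)) :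
    (∃ ξ ∈ seqIndD K L K ⊥, ψ = ν ξ ∨ ψ = -ν ξ) ↔
      ∃ a ∈ K, ∃ b ∈ K, a ≠ 1 ∧ b ≠ 1 ∧ ψ a ≠ ψ b := by
  constructor
  · rintro ⟨ξ, hξ, e⟩
    by_contra hc
    push Not at hc
    obtain ⟨m, hm⟩ := exists_exc_value h hT hν h2
    obtain ⟨a, ha, ha1⟩ := ne_bot_iff_exists.1 h.ne_bot
    refine seqIndD_not_const h.normal h2 hξ (c := ξ a) fun x hx => ?_
    have h1 := hm ξ hξ x hx
    have h3 := hm ξ hξ a ⟨ha, ha1⟩
    have h4 := hc x hx.1 a ha hx.2 ha1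
    rcases e with rfl | rfl
    · linear_combination h3 - h1 + h4
    · simp only [Pi.neg_apply] at h4
      linear_combination h3 - h1 - h4
  · rintro ⟨a, ha, b, hb, ha1, hb1, hne⟩
    by_contra hc
    push Not at hc
    obtain ⟨ζ, hζ, hζ1⟩ := exists_ref_of_frobKer h
    have := (PF.invDade_ortho_seqIndD h.normal hν hζ hζ1 (PF.normedTI_Dade hT) (H52.irr_CF hψ)
      fun ξ hξ => ?_).1
    · exact hne (by rw [← invDade_bot (A := sharp K) ψ ⟨ha, ha1⟩, this a ⟨ha, ha1⟩,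
        ← invDade_bot (A := sharp K) ψ ⟨hb, hb1⟩, this b ⟨hb, hb1⟩])
    · have d : IsDirr ⊤ (ν ξ) := H52.dirr_of_dot_one (hν.vchar _ (H52.mem_Z hξ)) (by
        rw [hν.isom _ (H52.mem_Z hξ) _ (H52.mem_Z hξ),
          H52.dot_irr_self (PF.frobKer_seqIndD_irr h hξ)])
      by_contra hd
      rcases H52.dirr_eq_or_neg_of_dot_ne d (H52.dirr_of_irr hψ) hd with e | e
      · exact (hc ξ hξ).1 e.symm
      · exact (hc ξ hξ).2 (by rw [e, neg_neg])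

theorem one_lt_card_of_relSet (h : FrobKer L K) (h2 : ∃ χ ∈ relSet L K, ∃ ξ ∈ relSet L K, χ ≠ ξ) :
    1 < (seqIndD K L K ⊥).card := by
  obtain ⟨χ, hχ, ξ, hξ, hne⟩ := h2
  exact Finset.one_lt_card.2 ⟨_, extend_mem_seqIndD h hχ, _, extend_mem_seqIndD h hξ,
    fun e => hne (H6A.extend_injective L e)⟩

omit [Fintype G] in
theorem ne_bot_of_relSet {χ : L → ℂ} (h : χ ∈ relSet L K) : K ≠ ⊥ := by
  rintro rfl
  obtain ⟨-, k, hk, h⟩ := h
  exact h (by rw [show k = 1 from Subtype.ext (Subgroup.mem_bot.1 hk)])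

end Cfsg.Agent.H30
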