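import Mathlib

set_option autoImplicit false

namespace Cfsg.Agent.H30.Ore
open Matrix Module Polynomial

variable {F : Type*} [Field F]

section defs
variable {ι : Type*} [Fintype ι] [DecidableEq ι]

/-- `g * B = A` with `A`, `B` similar to `D` through matrices of determinant one. -/
def RelS (g D : Matrix ι ι F) : Prop :=
  ∃ A B y z : Matrix ι ι F, y.det = 1 ∧ z.det = 1 ∧ A * y = y * D ∧ B * z = z * D ∧ g * B = A

/-- `g * B = A` with `A`, `B` similar to `D`. -/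
def RelG (g D : Matrix ι ι F) : Prop :=
  ∃ A B y z : Matrix ι ι F, y.det ≠ 0 ∧ z.det ≠ 0 ∧ A * y = y * D ∧ B * z = z * D ∧ g * B = A

def Comm (g : Matrix ι ι F) : Prop := ∃ D : Matrix ι ι F, D.det = 1 ∧ RelS g D

theorem RelS.relG {g D : Matrix ι ι F} (h : RelS g D) : RelG g D := by
  obtain ⟨A, B, y, z, hy, hz, h1, h2, h3⟩ := h
  exact ⟨A, B, y, z, by rw [hy]; exact one_ne_zero, by rw [hz]; exact one_ne_zero, h1, h2, h3⟩

theorem relS_one (D : Matrix ι ι F) : RelS 1 D :=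
  ⟨D, D, 1, 1, det_one, det_one, by simp, by simp, by simp⟩

theorem relS_of (g B y : Matrix ι ι F) (hy : y.det = 1) (h : g * B * y = y * B) : RelS g B :=
  ⟨g * B, B, y, 1, hy, det_one, h, by simp, rfl⟩

theorem relG_of (g B y : Matrix ι ι F) (hy : y.det ≠ 0) (h : g * B * y = y * B) : RelG g B :=
  ⟨g * B, B, y, 1, hy, by simp, h, by simp, rfl⟩

theorem comm_one : Comm (1 : Matrix ι ι F) := ⟨1, det_one, relS_one 1⟩

/-- change the target by an `SL`-similarity -/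
theorem RelS.sim {g D D' w : Matrix ι ι F} (h : RelS g D) (hw : w.det = 1)
    (hD : D * w = w * D') : RelS g D' := by
  obtain ⟨A, B, y, z, hy, hz, h1, h2, h3⟩ := h
  refine ⟨A, B, y * w, z * w, by simp [hy, hw], by simp [hz, hw], ?_, ?_, h3⟩
  · rw [← mul_assoc, h1, mul_assoc, hD, mul_assoc]
  · rw [← mul_assoc, h2, mul_assoc, hD, mul_assoc]
end defs

section conj
variable {ι κ : Type*} [Fintype ι] [DecidableEq ι] [Fintype κ] [DecidableEq κ]

omit [Fintype ι] [DecidableEq ι] in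
theorem conj_mul [Fintype ι] {P : Matrix ι κ F} {Q : Matrix κ ι F} (hQP : Q * P = 1)
    (A B : Matrix κ κ F) : (P * A * Q) * (P * B * Q) = P * (A * B) * Q := by
  calc (P * A * Q) * (P * B * Q) = P * A * (Q * P) * B * Q := by simp only [Matrix.mul_assoc]
    _ = P * (A * B) * Q := by rw [hQP]; simp only [Matrix.mul_assoc, Matrix.mul_one]

theorem RelS.conj {P : Matrix ι κ F} {Q : Matrix κ ι F} (hPQ : P * Q = 1) (hQP : Q * P = 1)
    {g D : Matrix κ κ F} (h : RelS g D) : RelS (P * g * Q) (P * D * Q) := by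
  obtain ⟨A, B, y, z, hy, hz, h1, h2, h3⟩ := h
  refine ⟨P * A * Q, P * B * Q, P * y * Q, P * z * Q, ?_, ?_, ?_, ?_, ?_⟩
  · rw [det_conj_of_mul_eq_one hPQ hQP, hy]
  · rw [det_conj_of_mul_eq_one hPQ hQP, hz]
  · rw [conj_mul hQP, conj_mul hQP, h1]
  · rw [conj_mul hQP, conj_mul hQP, h2]
  · rw [conj_mul hQP, h3]

theorem RelG.conj {P : Matrix ι κ F} {Q : Matrix κ ι F} (hPQ : P * Q = 1) (hQP : Q * P = 1)
    {g D : Matrix κ κ F} (h : RelG g D) : RelG (P * g * Q) (P * D * Q) := by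
  obtain ⟨A, B, y, z, hy, hz, h1, h2, h3⟩ := h
  refine ⟨P * A * Q, P * B * Q, P * y * Q, P * z * Q, ?_, ?_, ?_, ?_, ?_⟩
  · rw [det_conj_of_mul_eq_one hPQ hQP]; exact hy
  · rw [det_conj_of_mul_eq_one hPQ hQP]; exact hz
  · rw [conj_mul hQP, conj_mul hQP, h1]
  · rw [conj_mul hQP, conj_mul hQP, h2]
  · rw [conj_mul hQP, h3]

theorem Comm.conj {P : Matrix ι κ F} {Q : Matrix κ ι F} (hPQ : P * Q = 1) (hQP : Q * P = 1)
    {g : Matrix κ κ F} (h : Comm g) : Comm (P * g * Q) := by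
  obtain ⟨D, hD, h⟩ := h
  exact ⟨P * D * Q, by rw [det_conj_of_mul_eq_one hPQ hQP, hD], h.conj hPQ hQP⟩

theorem Comm.reindex (e : ι ≃ κ) {g : Matrix κ κ F} (h : Comm g) :
    Comm (g.submatrix e e) := by
  obtain ⟨D, hD, A, B, y, z, hy, hz, h1, h2, h3⟩ := h
  refine ⟨D.submatrix e e, by rw [det_submatrix_equiv_self, hD], A.submatrix e e,
    B.submatrix e e, y.submatrix e e, z.submatrix e e, by rw [det_submatrix_equiv_self, hy],
    by rw [det_submatrix_equiv_self, hz], ?_, ?_, ?_⟩ <;>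
  simp only [submatrix_mul_equiv, *]

theorem Comm.map {K : Type*} [Field K] (e : F →+* K) {g : Matrix ι ι F} (h : Comm g) :
    Comm (g.map e) := by
  obtain ⟨D, hD, A, B, y, z, hy, hz, h1, h2, h3⟩ := h
  have hdet : ∀ M : Matrix ι ι F, M.det = 1 → (M.map e).det = 1 := fun M hM => by
    have := RingHom.map_det e M
    rw [hM, map_one] at this
    exact this.symm
  refine ⟨D.map e, hdet _ hD, A.map e, B.map e, y.map e, z.map e, hdet _ hy, hdet _ hz,
    ?_, ?_, ?_⟩ <;> simp only [← Matrix.map_mul, *]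

theorem Comm.sum {g₁ : Matrix ι ι F} {g₂ : Matrix κ κ F} (h₁ : Comm g₁) (h₂ : Comm g₂) :
    Comm (fromBlocks g₁ 0 0 g₂) := by
  obtain ⟨D, hD, A, B, y, z, hy, hz, h1, h2, h3⟩ := h₁
  obtain ⟨D', hD', A', B', y', z', hy', hz', h1', h2', h3'⟩ := h₂
  refine ⟨fromBlocks D 0 0 D', by rw [det_fromBlocks_zero₂₁, hD, hD', one_mul],
    fromBlocks A 0 0 A', fromBlocks B 0 0 B', fromBlocks y 0 0 y', fromBlocks z 0 0 z',
    by rw [det_fromBlocks_zero₂₁, hy, hy', one_mul], by rw [det_fromBlocks_zero₂₁, hz, hz', one_mul],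
    ?_, ?_, ?_⟩ <;> simp [fromBlocks_multiply, *]

theorem aeval_intertwine {D₁ : Matrix ι ι F} {D₂ : Matrix κ κ F} {Z : Matrix ι κ F}
    (h : D₁ * Z = Z * D₂) (p : F[X]) : aeval D₁ p * Z = Z * aeval D₂ p := by
  induction p using Polynomial.induction_on with
  | C a => simp [Algebra.algebraMap_eq_smul_one]
  | add p q hp hq => simp [Matrix.add_mul, Matrix.mul_add, hp, hq]
  | monomial n a ih =>
    rw [pow_succ, ← mul_assoc, map_mul (aeval D₁), map_mul (aeval D₂), aeval_X, aeval_X,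
      Matrix.mul_assoc, h, ← Matrix.mul_assoc, ih, Matrix.mul_assoc]

theorem sylv1 {D₁ : Matrix ι ι F} {D₂ : Matrix κ κ F} {p : F[X]} (hp : aeval D₂ p = 0)
    (hp1 : IsUnit (aeval D₁ p)) (C : Matrix ι κ F) : ∃ Z : Matrix ι κ F, D₁ * Z - Z * D₂ = C := by
  let L : Matrix ι κ F →ₗ[F] Matrix ι κ F :=
    { toFun := fun Z => D₁ * Z - Z * D₂
      map_add' := fun a b => by simp only [Matrix.mul_add, Matrix.add_mul]; abel
      map_smul' := fun c a => by simp [smul_sub] }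
  have hinj : Function.Injective L := by
    rw [← LinearMap.ker_eq_bot, LinearMap.ker_eq_bot']
    intro Z hZ
    have h1 : D₁ * Z = Z * D₂ := sub_eq_zero.1 hZ
    have h2 := aeval_intertwine h1 p
    rw [hp, Matrix.mul_zero] at h2
    obtain ⟨u, hu⟩ := hp1.exists_left_inv
    calc Z = u * aeval D₁ p * Z := by rw [hu, Matrix.one_mul]
      _ = 0 := by rw [Matrix.mul_assoc, h2, Matrix.mul_zero]
  exact LinearMap.surjective_of_injective hinj C

theorem sylv2 {D₁ : Matrix ι ι F} {D₂ : Matrix κ κ F} {p : F[X]} (hp : aeval D₂ p = 0)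
    (hp1 : IsUnit (aeval D₁ p)) (C : Matrix κ ι F) : ∃ Z : Matrix κ ι F, Z * D₁ - D₂ * Z = C := by
  let L : Matrix κ ι F →ₗ[F] Matrix κ ι F :=
    { toFun := fun Z => Z * D₁ - D₂ * Z
      map_add' := fun a b => by simp only [Matrix.mul_add, Matrix.add_mul]; abel
      map_smul' := fun c a => by simp [smul_sub] }
  have hinj : Function.Injective L := by
    rw [← LinearMap.ker_eq_bot, LinearMap.ker_eq_bot']
    intro Z hZ
    have h1 : D₂ * Z = Z * D₁ := (sub_eq_zero.1 hZ).symm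
    have h2 := aeval_intertwine h1 p
    rw [hp, Matrix.zero_mul] at h2
    obtain ⟨u, hu⟩ := hp1.exists_right_inv
    calc Z = Z * aeval D₁ p * u := by rw [Matrix.mul_assoc, hu, Matrix.mul_one]
      _ = 0 := by rw [← h2, Matrix.zero_mul]
  exact LinearMap.surjective_of_injective hinj C

/-- Gauss decomposition lemma. -/
theorem core (x : Matrix κ ι F) (y : Matrix ι κ F) (R : Matrix κ κ F) {D₁ y₁ z₁ : Matrix ι ι F}
    {D₂ A B y₂ z₂ : Matrix κ κ F} (hy₁ : D₁ * y₁ = y₁ * D₁) (hz₁ : D₁ * z₁ = z₁ * D₁)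
    (hA : A * y₂ = y₂ * D₂) (hB : B * z₂ = z₂ * D₂) (hR : (R - x * y) * B = A)
    (hdy : y₁.det * y₂.det = 1) (hdz : z₁.det * z₂.det = 1) {p : F[X]} (hp : aeval D₂ p = 0)
    (hp1 : IsUnit (aeval D₁ p)) : RelS (fromBlocks 1 y x R) (fromBlocks D₁ 0 0 D₂) := by
  have hy2 : IsUnit y₂.det := IsUnit.of_mul_eq_one_right _ hdy
  obtain ⟨Z₀, hZ₀⟩ := sylv2 hp hp1 (y₂⁻¹ * (x * D₁ * y₁))
  obtain ⟨Z₁, hZ₁⟩ := sylv1 hp hp1 (y * B * z₂)
  refine ⟨fromBlocks D₁ 0 (x * D₁) A, fromBlocks D₁ (-(y * B)) 0 B, fromBlocks y₁ 0 (y₂ * Z₀) y₂,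
    fromBlocks z₁ Z₁ 0 z₂, by rw [det_fromBlocks_zero₁₂, hdy], by rw [det_fromBlocks_zero₂₁, hdz],
    ?_, ?_, ?_⟩
  · simp only [fromBlocks_multiply, Matrix.mul_zero, Matrix.zero_mul, add_zero, zero_add, hy₁, hA]
    congr 1
    have : y₂ * (Z₀ * D₁ - D₂ * Z₀) = x * D₁ * y₁ := by
      rw [hZ₀, ← Matrix.mul_assoc, mul_nonsing_inv _ hy2, Matrix.one_mul]
    rw [← this, ← Matrix.mul_assoc A, hA, Matrix.mul_sub]
    simp only [Matrix.mul_assoc]; abel
  · simp only [fromBlocks_multiply, Matrix.mul_zero, Matrix.zero_mul, add_zero, zero_add, hz₁, hB]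
    congr 1
    rw [Matrix.neg_mul, ← hZ₁]; abel
  · simp only [fromBlocks_multiply, Matrix.mul_zero, Matrix.one_mul, add_zero]
    congr 1
    · abel
    · rw [← hR, Matrix.sub_mul, Matrix.mul_neg, Matrix.mul_assoc]; abel

theorem det_schur (x : Matrix κ ι F) (y : Matrix ι κ F) (R : Matrix κ κ F) :
    (fromBlocks 1 y x R).det = (R - x * y).det := det_fromBlocks_one₁₁ y x R

/-- `SL` version of the Gauss lemma -/
theorem coreS (x : Matrix κ ι F) (y : Matrix ι κ F) (R : Matrix κ κ F) (D₁ : Matrix ι ι F)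
    {D₂ : Matrix κ κ F} (h : RelS (R - x * y) D₂) {p : F[X]} (hp : aeval D₂ p = 0)
    (hp1 : IsUnit (aeval D₁ p)) : RelS (fromBlocks 1 y x R) (fromBlocks D₁ 0 0 D₂) := by
  obtain ⟨A, B, y₂, z₂, hy, hz, h1, h2, h3⟩ := h
  exact core x y R (y₁ := 1) (z₁ := 1) (by simp) (by simp) h1 h2 h3 (by simp [hy]) (by simp [hz])
    hp hp1

/-- one-dimensional first block -/
theorem core1 (x : Matrix κ (Fin 1) F) (y : Matrix (Fin 1) κ F) (R : Matrix κ κ F) (δ : F)
    {D₂ : Matrix κ κ F} (h : RelG (R - x * y) D₂) (hδ : (scalar κ δ - D₂).det ≠ 0) :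
    RelS (fromBlocks 1 y x R) (fromBlocks (scalar (Fin 1) δ) 0 0 D₂) := by
  obtain ⟨A, B, y₂, z₂, hy, hz, h1, h2, h3⟩ := h
  refine core x y R (y₁ := scalar (Fin 1) y₂.det⁻¹) (z₁ := scalar (Fin 1) z₂.det⁻¹)
    (by rw [← map_mul, ← map_mul, mul_comm]) (by rw [← map_mul, ← map_mul, mul_comm]) h1 h2 h3
    (by simp [inv_mul_cancel₀ hy]) (by simp [inv_mul_cancel₀ hz]) (aeval_self_charpoly D₂) ?_
  have : aeval (scalar (Fin 1) δ) D₂.charpoly = scalar (Fin 1) (D₂.charpoly.eval δ) := by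
    have h := aeval_algebraMap_apply (Matrix (Fin 1) (Fin 1) F) δ D₂.charpoly
    rw [coe_aeval_eq_eval] at h
    exact h
  rw [this, Matrix.eval_charpoly]
  exact (IsUnit.mk0 _ hδ).map (scalar (Fin 1))

end conj

/-- a basis adapted to a pair of disjoint subspaces -/
theorem exists_basis {V : Type*} [AddCommGroup V] [Module F V] [FiniteDimensional F V]
    (V₁ U : Submodule F V) (h : Disjoint V₁ U) (k m : ℕ) (hk : finrank F V₁ = k)
    (hn : finrank F V = k + m) : ∃ b : Basis (Fin k ⊕ Fin m) F V,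
      (∀ i, b (Sum.inl i) ∈ V₁) ∧ ∀ u ∈ U, ∀ i, b.repr u (Sum.inl i) = 0 := by
  obtain ⟨W, hUW, hW⟩ := h.symm.exists_isCompl
  have hW' : IsCompl V₁ W := hW.symm
  have hm : finrank F W = m := by
    have := Submodule.finrank_add_eq_of_isCompl hW'
    omega
  let b₁ := finBasisOfFinrankEq F V₁ hk
  let b₂ := finBasisOfFinrankEq F W hm
  refine ⟨(b₁.prod b₂).map (Submodule.prodEquivOfIsCompl V₁ W hW'), fun i => ?_, fun u hu i => ?_⟩
  · simp
  · have : (Submodule.prodEquivOfIsCompl V₁ W hW').symm u = (0, ⟨u, hUW hu⟩) :=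
      Submodule.prodEquivOfIsCompl_symm_apply_right V₁ W hW' ⟨u, hUW hu⟩
    simp [Basis.map_repr, this]

/-- change of basis -/
theorem exists_PQ {ι κ : Type*} [Fintype ι] [DecidableEq ι] [Fintype κ] [DecidableEq κ]
    (b : Basis κ F (ι → F)) : ∃ (P : Matrix ι κ F) (Q : Matrix κ ι F), P * Q = 1 ∧ Q * P = 1 ∧
      ∀ g : Matrix ι ι F, g = P * LinearMap.toMatrix b b (toLin' g) * Q := by
  refine ⟨(Pi.basisFun F ι).toMatrix b, b.toMatrix (Pi.basisFun F ι), by simp, by simp, fun g => ?_⟩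
  rw [basis_toMatrix_mul_linearMap_toMatrix_mul_basis_toMatrix, LinearMap.toMatrix_eq_toMatrix',
    LinearMap.toMatrix'_toLin']

/-- first block the identity -/
theorem step {n k m : ℕ} (hn : n = k + m) (g : Matrix (Fin n) (Fin n) F)
    (V₁ : Submodule F (Fin n → F)) (hk : finrank F V₁ = k)
    (h : Disjoint V₁ (V₁.map (toLin' g - 1))) :
    ∃ (P : Matrix (Fin n) (Fin k ⊕ Fin m) F) (Q : Matrix (Fin k ⊕ Fin m) (Fin n) F)
      (x : Matrix (Fin m) (Fin k) F) (y : Matrix (Fin k) (Fin m) F) (R : Matrix (Fin m) (Fin m) F),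
      P * Q = 1 ∧ Q * P = 1 ∧ g = P * fromBlocks 1 y x R * Q ∧
        ((∀ v ∈ V₁, g *ᵥ v = v → v = 0) → 0 < k → x ≠ 0) := by
  obtain ⟨b, hb1, hb2⟩ := exists_basis V₁ _ h k m hk (by simp [hn])
  obtain ⟨P, Q, h1, h2, h3⟩ := exists_PQ b
  set g' := LinearMap.toMatrix b b (toLin' g) with hg'
  have h11 : g'.toBlocks₁₁ = 1 := by
    ext i j
    have := hb2 _ (Submodule.mem_map_of_mem (hb1 j)) i
    simp only [LinearMap.sub_apply, map_sub, Module.End.one_apply, Finsupp.coe_sub, Pi.sub_apply,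
      Basis.repr_self, sub_eq_zero] at this
    simp only [toBlocks₁₁, hg', LinearMap.toMatrix_apply, of_apply, this, one_apply,
      Finsupp.single_apply, Sum.inl.injEq, eq_comm]
  refine ⟨P, Q, g'.toBlocks₂₁, g'.toBlocks₁₂, g'.toBlocks₂₂, h1, h2, ?_, fun hv hk0 hx => ?_⟩
  · rw [← h11, fromBlocks_toBlocks]; exact h3 g
  · let j : Fin k := ⟨0, hk0⟩
    refine b.ne_zero (Sum.inl j) (hv _ (hb1 j) ?_)
    apply b.repr.injective
    ext (i | i)
    · have := congrFun (congrFun h11 i) j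
      simp only [toBlocks₁₁, hg', LinearMap.toMatrix_apply, of_apply, toLin'_apply] at this
      rw [this]; simp [one_apply, Finsupp.single_apply, eq_comm]
    · have := congrFun (congrFun hx i) j
      simp only [toBlocks₂₁, hg', LinearMap.toMatrix_apply, of_apply, toLin'_apply] at this
      rw [this]; simp

/-- splitting off a scalar block -/
theorem split {n k m : ℕ} (hn : n = k + m) (g : Matrix (Fin n) (Fin n) F) (c : F)
    (V₁ : Submodule F (Fin n → F)) (hk : finrank F V₁ = k)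
    (h0 : V₁ ≤ LinearMap.ker (toLin' g - c • 1))
    (h : Disjoint V₁ (LinearMap.range (toLin' g - c • 1))) :
    ∃ (P : Matrix (Fin n) (Fin k ⊕ Fin m) F) (Q : Matrix (Fin k ⊕ Fin m) (Fin n) F)
      (R : Matrix (Fin m) (Fin m) F),
      P * Q = 1 ∧ Q * P = 1 ∧ g = P * fromBlocks (c • (1 : Matrix (Fin k) (Fin k) F)) 0 0 R * Q := by
  obtain ⟨b, hb1, hb2⟩ := exists_basis V₁ _ h k m hk (by simp [hn])
  obtain ⟨P, Q, h1, h2, h3⟩ := exists_PQ b
  set g' := LinearMap.toMatrix b b (toLin' g) with hg'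
  have he : ∀ j, toLin' g (b (Sum.inl j)) = c • b (Sum.inl j) := fun j => by
    have := h0 (hb1 j)
    simpa [sub_eq_zero] using this
  have h11 : g'.toBlocks₁₁ = c • 1 := by
    ext i j
    simp [toBlocks₁₁, hg', LinearMap.toMatrix_apply, he, one_apply, Finsupp.single_apply, eq_comm,
      -toLin'_apply]
  have h21 : g'.toBlocks₂₁ = 0 := by
    ext i j
    simp [toBlocks₂₁, hg', LinearMap.toMatrix_apply, he, -toLin'_apply]
  have h12 : g'.toBlocks₁₂ = 0 := by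
    ext i j
    have := hb2 _ (LinearMap.mem_range_self _ (b (Sum.inr j))) i
    simpa [toBlocks₁₂, hg', LinearMap.toMatrix_apply, -toLin'_apply] using this
  refine ⟨P, Q, g'.toBlocks₂₂, h1, h2, ?_⟩
  rw [← h11, ← h21, ← h12, fromBlocks_toBlocks]; exact h3 g

end Cfsg.Agent.H30.Ore
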