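import Cfsg.Agent.H30.Ore1

set_option autoImplicit false

namespace Cfsg.Agent.H30.Ore
open Matrix Module Polynomial

variable {F : Type*} [Field F]

/-- the test map -/
def testMap {V : Type*} [AddCommGroup V] [Module F V] (N : V →ₗ[F] V) {k : ℕ} (a b : Fin k → F) :
    ((Fin k → F) →ₗ[F] V) →ₗ[F] V where
  toFun T := T a - N (T b)
  map_add' T T' := by simp only [LinearMap.add_apply, map_add]; abel
  map_smul' c T := by simp [smul_sub]

theorem exists_dual_one {k : ℕ} {a : Fin k → F} (U : Submodule F (Fin k → F)) (ha : a ∉ U) :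
    ∃ θ : (Fin k → F) →ₗ[F] F, θ a = 1 ∧ ∀ u ∈ U, θ u = 0 := by
  obtain ⟨f, hf, hU⟩ := Submodule.exists_dual_map_eq_bot_of_notMem ha inferInstance
  refine ⟨(f a)⁻¹ • f, by simp [inv_mul_cancel₀ hf], fun u hu => ?_⟩
  have : f u ∈ U.map f := Submodule.mem_map_of_mem hu
  rw [hU, Submodule.mem_bot] at this
  simp [this]

theorem testMap_range_smul {V : Type*} [AddCommGroup V] [Module F V] (N : V →ₗ[F] V) {k : ℕ}
    {a : Fin k → F} (ha : a ≠ 0) (β : F) (w : V) :
    w - β • N w ∈ LinearMap.range (testMap N a (β • a)) := by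
  obtain ⟨θ, hθ, -⟩ := exists_dual_one (⊥ : Submodule F (Fin k → F)) (a := a) (by simpa using ha)
  exact ⟨θ.smulRight w, by simp [testMap, hθ]⟩

theorem testMap_surj {V : Type*} [AddCommGroup V] [Module F V] (N : V →ₗ[F] V) {k : ℕ}
    {a b : Fin k → F} (ha : a ≠ 0) (hb : ∀ β : F, b ≠ β • a) :
    LinearMap.range (testMap N a b) = ⊤ := by
  have : a ∉ Submodule.span F {b} := by
    rw [Submodule.mem_span_singleton]
    rintro ⟨γ, rfl⟩
    have hγ : γ ≠ 0 := by rintro rfl; simp at ha
    exact hb γ⁻¹ (by rw [smul_smul, inv_mul_cancel₀ hγ, one_smul])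
  obtain ⟨θ, hθ, hθ'⟩ := exists_dual_one _ this
  rw [eq_top_iff]
  intro w _
  exact ⟨θ.smulRight w, by simp [testMap, hθ, hθ' b (Submodule.mem_span_singleton_self b)]⟩

/-- existence of a subspace meeting its image trivially -/
theorem exists_transversal [Fintype F] {V : Type*} [AddCommGroup V] [Module F V]
    [FiniteDimensional F V] (N : V →ₗ[F] V) (k : ℕ) (h2 : 2 * k ≤ finrank F V)
    (hr : ∀ c : F, c ≠ 0 → c ≠ -1 → k ≤ finrank F (LinearMap.range (N - c • 1)))
    (hinv : Function.Surjective (N + 1 : V →ₗ[F] V)) :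
    ∃ V₁ : Submodule F V, finrank F V₁ = k ∧ Disjoint V₁ (V₁.map N) := by
  classical
  suffices h : ∃ T : (Fin k → F) →ₗ[F] V, ∀ a b, T a = N (T b) → a = 0 by
    obtain ⟨T, hT⟩ := h
    have hinj : Function.Injective T := by
      rw [← LinearMap.ker_eq_bot, LinearMap.ker_eq_bot']
      intro a ha
      exact hT a 0 (by simp [ha])
    refine ⟨LinearMap.range T, by rw [LinearMap.finrank_range_of_inj hinj]; simp, ?_⟩
    rw [Submodule.disjoint_def]
    rintro _ ⟨a, rfl⟩ ⟨_, ⟨b, rfl⟩, hab⟩
    rw [hT a b hab.symm, map_zero]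
  by_contra hcon
  push Not at hcon
  have : Finite V := Module.finite_of_finite F
  have : Finite ((Fin k → F) →ₗ[F] V) := Module.finite_of_finite F
  let _ : Fintype ((Fin k → F) →ₗ[F] V) := Fintype.ofFinite _
  set q := Fintype.card F with hq
  set n := finrank F V with hn
  set e := finrank F ((Fin k → F) →ₗ[F] V) with he
  have hq2 : 2 ≤ q := Fintype.one_lt_card
  let P : ((Fin k → F) × (Fin k → F)) → ((Fin k → F) →ₗ[F] V) → Prop :=
    fun ab T => ab.1 ≠ 0 ∧ T ab.1 = N (T ab.2)
  have hlow : ∀ T, q - 1 ≤ (Finset.univ.filter fun ab => P ab T).card := by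
    intro T
    obtain ⟨a, b, hab, ha⟩ := hcon T
    have : (Finset.univ.erase (0 : F)).card = q - 1 := by simp [hq]
    rw [← this]
    refine Finset.card_le_card_of_injOn (fun c => (c • a, c • b)) (fun c hc => ?_) ?_
    · have hc : c ≠ 0 := by simpa using hc
      simp [P, hc, ha, hab]
    · intro c _ c' _ h
      have h1 : c • a = c' • a := congrArg Prod.fst h
      exact smul_left_injective F ha h1
  have hker : ∀ a b : Fin k → F, a ≠ 0 →
      (Finset.univ.filter fun T => P (a, b) T).card * q ^ finrank F (LinearMap.range (testMap N a b))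
        = q ^ e := by
    intro a b ha
    have h1 : (Finset.univ.filter fun T => P (a, b) T).card
        = Nat.card (LinearMap.ker (testMap N a b)) := by
      rw [Nat.card_eq_fintype_card, Fintype.card_subtype]
      congr 1
      ext T
      simp [P, ha, testMap, sub_eq_zero]
    rw [h1, Module.natCard_eq_pow_finrank (K := F), Nat.card_eq_fintype_card, ← hq, ← pow_add,
      add_comm, LinearMap.finrank_range_add_finrank_ker]
  have hup : ∀ a : Fin k → F, a ≠ 0 →
      (∑ b, (Finset.univ.filter fun T => P (a, b) T).card) * q ^ n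
        ≤ q ^ e * (q ^ k + (q - 2) * q ^ (n - k)) := by
    intro a ha
    let S : Finset (Fin k → F) := ((Finset.univ.erase (0 : F)).erase (-1)).image fun β => β • a
    have hS : S.card ≤ q - 2 := by
      refine Finset.card_image_le.trans ?_
      rw [Finset.card_erase_of_mem (by simp), Finset.card_erase_of_mem (by simp)]
      simp only [Finset.card_univ, ← hq]; omega
    have hb : ∀ b, (Finset.univ.filter fun T => P (a, b) T).card * q ^ n
        ≤ q ^ e * (1 + if b ∈ S then q ^ (n - k) else 0) := by
      intro b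
      have hk := hker a b ha
      by_cases hbS : b ∈ S
      · rw [if_pos hbS]
        obtain ⟨β, hβ, rfl⟩ := Finset.mem_image.1 hbS
        simp only [Finset.mem_erase, Finset.mem_univ, and_true] at hβ
        have hrk : k ≤ finrank F (LinearMap.range (testMap N a (β • a))) := by
          refine (hr β⁻¹ (inv_ne_zero hβ.2) (fun h => hβ.1 (by
            rw [← inv_inv β, h]; simp))).trans (Submodule.finrank_mono ?_)
          rintro _ ⟨w, rfl⟩
          have := testMap_range_smul N ha β (-(β⁻¹ • w))
          convert this using 1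
          simp [smul_smul, mul_inv_cancel₀ hβ.2, sub_eq_add_neg, add_comm]
        calc _ = (Finset.univ.filter fun T => P (a, β • a) T).card * q ^ k * q ^ (n - k) := by
              rw [mul_assoc, ← pow_add]; congr 2; omega
          _ ≤ q ^ e * q ^ (n - k) := by
              refine Nat.mul_le_mul_right _ ?_
              rw [← hk]
              exact Nat.mul_le_mul_left _ (Nat.pow_le_pow_right (by omega) hrk)
          _ ≤ _ := Nat.mul_le_mul_left _ (by omega)
      · rw [if_neg hbS]
        have htop : LinearMap.range (testMap N a b) = ⊤ := by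
          by_cases hb : ∀ β : F, b ≠ β • a
          · exact testMap_surj N ha hb
          push Not at hb
          obtain ⟨β, rfl⟩ := hb
          rw [eq_top_iff]
          intro w _
          by_cases h0 : β = 0
          · subst h0
            simpa using testMap_range_smul N ha 0 w
          by_cases h1 : β = -1
          · subst h1
            obtain ⟨w, rfl⟩ := hinv w
            have := testMap_range_smul N ha (-1) w
            convert this using 1
            simp [add_comm]
          exact absurd (Finset.mem_image.2 ⟨β, by simp [h0, h1], rfl⟩) hbS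
        rw [htop, finrank_top, ← hn] at hk
        omega
    calc _ = ∑ b, (Finset.univ.filter fun T => P (a, b) T).card * q ^ n := by rw [Finset.sum_mul]
      _ ≤ ∑ b : Fin k → F, q ^ e * (1 + if b ∈ S then q ^ (n - k) else 0) :=
          Finset.sum_le_sum fun b _ => hb b
      _ = q ^ e * (q ^ k + S.card * q ^ (n - k)) := by
          rw [← Finset.mul_sum, Finset.sum_add_distrib]
          simp [hq]
      _ ≤ _ := Nat.mul_le_mul_left _ (by
          have := Nat.mul_le_mul_right (q ^ (n - k)) hS
          omega)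
  have hL : Fintype.card ((Fin k → F) →ₗ[F] V) = q ^ e := by
    rw [← Nat.card_eq_fintype_card, Module.natCard_eq_pow_finrank (K := F),
      Nat.card_eq_fintype_card]
  have hdc : ∑ T, (Finset.univ.filter fun ab => P ab T).card
      = ∑ a ∈ Finset.univ.erase (0 : Fin k → F), ∑ b,
        (Finset.univ.filter fun T => P (a, b) T).card := by
    simp only [Finset.card_filter]
    rw [Finset.sum_comm, Fintype.sum_prod_type]
    rw [← Finset.sum_erase_add _ _ (Finset.mem_univ (0 : Fin k → F))]
    simp [P]
  have h1 : q ^ e * (q - 1) ≤ ∑ T, (Finset.univ.filter fun ab => P ab T).card := by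
    calc q ^ e * (q - 1) = ∑ _T : (Fin k → F) →ₗ[F] V, (q - 1) := by simp [hL]
      _ ≤ _ := Finset.sum_le_sum fun T _ => hlow T
  have h3 : (∑ T, (Finset.univ.filter fun ab => P ab T).card) * q ^ n
      ≤ (q ^ k - 1) * (q ^ e * (q ^ k + (q - 2) * q ^ (n - k))) := by
    rw [hdc, Finset.sum_mul]
    calc _ ≤ ∑ _a ∈ Finset.univ.erase (0 : Fin k → F), q ^ e * (q ^ k + (q - 2) * q ^ (n - k)) :=
          Finset.sum_le_sum fun a ha => hup a (by simpa using ha)
      _ = _ := by simp [hq]
  have h4 : q ^ k ≤ q ^ (n - k) := Nat.pow_le_pow_right (by omega) (by omega)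
  have h5 : q ^ n = q ^ k * q ^ (n - k) := by rw [← pow_add]; congr 1; omega
  have hk1 : 1 ≤ q ^ k := Nat.one_le_pow _ _ (by omega)
  have he1 : 1 ≤ q ^ e := Nat.one_le_pow _ _ (by omega)
  have h6 := (Nat.mul_le_mul_right (q ^ n) h1).trans h3
  rw [h5] at h6
  obtain ⟨r, hr'⟩ : ∃ r, q = r + 2 := ⟨q - 2, by omega⟩
  obtain ⟨s, hs⟩ : ∃ s, q ^ k = s + 1 := ⟨q ^ k - 1, by omega⟩
  generalize q ^ (n - k) = X at h4 h6
  generalize q ^ e = L at he1 h6
  rw [hs] at h4 h6
  rw [hr'] at h6
  simp only [Nat.add_sub_cancel, show r + 2 - 1 = r + 1 by omega] at h6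
  have h7 : s * (L * (s + 1 + r * X)) ≤ s * (L * ((r + 1) * X)) :=
    Nat.mul_le_mul_left _ (Nat.mul_le_mul_left _ (by nlinarith))
  have h8 : 0 < L * ((r + 1) * X) := Nat.mul_pos he1 (Nat.mul_pos (by omega) (by omega))
  nlinarith

end Cfsg.Agent.H30.Ore
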