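import Cfsg.Agent.H30.Ore2

set_option autoImplicit false

namespace Cfsg.Agent.H30.Ore
open Matrix Module Polynomial

variable {F : Type*} [Field F]

theorem scalar_aux {s : Type*} [Fintype s] [DecidableEq s] (h : ℕ) (c : F) (M J : Matrix s s F)
    (hMJ : M * J = c ^ (h + 1) • (J * M)) (hJ : J.det = 1)
    (hsign : ((-1 : F) ^ h) ^ Fintype.card s = 1)
    (hM : ∏ j : Fin (h + 1), ((c ^ (j : ℕ)) ^ Fintype.card s * M.det) = 1) :
    Comm (c • (1 : Matrix (s × Fin (h + 1)) (s × Fin (h + 1)) F)) := by
  let σ := finRotate (h + 1)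
  let e : Equiv.Perm (s × Fin (h + 1)) := Equiv.prodCongrRight fun _ => σ
  let α : Fin (h + 1) → Matrix s s F := fun j => c ^ (j : ℕ) • M
  let β : Fin (h + 1) → Matrix s s F := fun i => if i = 0 then J else 1
  let A := blockDiagonal α
  let B := (blockDiagonal β).submatrix id e
  have hA : A.det = 1 := by
    rw [det_blockDiagonal, ← hM]
    exact Finset.prod_congr rfl fun j _ => by simp [α]
  have hB : B.det = 1 := by
    rw [det_permute', det_blockDiagonal, Equiv.Perm.sign_prodCongrRight]
    have : ∏ k, (β k).det = 1 := Finset.prod_eq_one fun k _ => by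
      by_cases hk : k = 0 <;> simp [β, hk, hJ]
    rw [this, mul_one]
    simp [σ, sign_finRotate, hsign]
  refine ⟨B, hB, relS_of _ B A hA ?_⟩
  have hAe : A = (blockDiagonal fun i => α (σ.symm i)).submatrix e e := by
    ext ⟨a, i⟩ ⟨b, j⟩
    simp [A, e, blockDiagonal_apply]
  have h1 : B * A = (blockDiagonal fun i => β i * α (σ.symm i)).submatrix id e := by
    rw [hAe, blockDiagonal_mul]
    exact submatrix_mul_equiv _ _ _ e _
  have h2 : A * B = (blockDiagonal fun i => α i * β i).submatrix id e := by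
    rw [blockDiagonal_mul]
    exact submatrix_mul_equiv A (blockDiagonal β) id (Equiv.refl _) e
  rw [Matrix.smul_mul, Matrix.one_mul, Matrix.smul_mul, h1, h2]
  change (c • blockDiagonal fun i => β i * α (σ.symm i)).submatrix id e = _
  rw [← blockDiagonal_smul]
  congr 2
  funext i
  obtain ⟨j, rfl⟩ := σ.surjective i
  simp only [Pi.smul_apply, Equiv.symm_apply_apply]
  by_cases hj : j = Fin.last h
  · subst hj
    have : σ (Fin.last h) = 0 := finRotate_last
    simp [this, α, β, hMJ, smul_smul, pow_succ']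
  · have h3 : ((σ j : Fin (h + 1)) : ℕ) = j + 1 := coe_finRotate_of_ne_last hj
    have h4 : σ j ≠ 0 := fun h => by rw [h] at h3; simp at h3
    simp [α, β, h3, h4, smul_smul, pow_succ']

theorem prod_pow_fin (c : F) (h k : ℕ) :
    ∏ j : Fin (h + 1), (c ^ (j : ℕ)) ^ k = c ^ ((∑ i ∈ Finset.range (h + 1), i) * k) := by
  rw [Finset.prod_pow, Finset.prod_pow_eq_pow_sum, Fin.sum_univ_eq_sum_range (fun i => i), pow_mul]

theorem exists_sq_add_sq [Fintype F] (h2 : (2 : F) ≠ 0) (c : F) : ∃ a b : F, a ^ 2 + b ^ 2 = c := by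
  have hodd : Fintype.card F % 2 = 1 := FiniteField.odd_card_of_char_ne_two (by
    intro h
    have := ringChar.Nat.cast_ringChar (R := F)
    rw [h] at this
    exact h2 (by exact_mod_cast this))
  obtain ⟨a, b, h⟩ := FiniteField.exists_root_sum_quadratic (f := X ^ 2) (g := X ^ 2 - C c)
    (degree_X_pow 2) (degree_X_pow_sub_C (by norm_num) c) hodd
  exact ⟨a, b, by simp at h; linear_combination h⟩

/-- scalar matrices of determinant one -/
theorem comm_scalar [Fintype F] (n : ℕ) (c : F) (hc : c ^ n = 1) :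
    Comm (c • (1 : Matrix (Fin n) (Fin n) F)) := by
  have key : ∀ {ι : Type} [Fintype ι] [DecidableEq ι], Fintype.card ι = n →
      Comm (c • (1 : Matrix ι ι F)) → Comm (c • (1 : Matrix (Fin n) (Fin n) F)) := by
    intro ι _ _ hι h
    have := h.reindex (Fintype.equivOfCardEq (by simp [hι]) : Fin n ≃ ι)
    simpa [submatrix_smul] using this
  rcases Nat.even_or_odd' n with ⟨t, rfl | rfl⟩
  · rcases t with _ | h
    · have : c • (1 : Matrix (Fin (2 * 0)) (Fin (2 * 0)) F) = 1 := by
        ext i; exact i.elim0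
      rw [this]; exact comm_one
    have hs := Finset.sum_range_id_mul_two (h + 1)
    simp only [Nat.add_sub_cancel] at hs
    have hc' : c ^ (h + 1) = 1 ∨ c ^ (h + 1) = -1 := by
      rw [mul_comm, pow_mul] at hc
      exact sq_eq_one_iff.1 hc
    refine key (ι := Fin 2 × Fin (h + 1)) (by simp) ?_
    by_cases h1 : c ^ (h + 1) = 1
    · refine scalar_aux h c 1 1 (by simp [h1]) det_one (by simp [← pow_mul]) ?_
      simp only [det_one, mul_one, Fintype.card_fin]
      rw [prod_pow_fin, hs, pow_mul, h1, one_pow]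
    have h2 : c ^ (h + 1) = -1 := hc'.resolve_left h1
    obtain ⟨a, b, hab⟩ := exists_sq_add_sq (F := F) (fun h => h1 (by
      rw [h2]; linear_combination -h)) c
    refine scalar_aux h c !![a, b; b, -a] !![0, -1; 1, 0] ?_ (by simp [det_fin_two])
      (by simp [← pow_mul]) ?_
    · rw [h2]; ext i j; fin_cases i <;> fin_cases j <;> simp
    · have : det !![a, b; b, -a] = -c := by simp [det_fin_two]; linear_combination -hab
      rw [Finset.prod_mul_distrib, Fintype.card_fin, prod_pow_fin, hs, this, Finset.prod_const,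
        Finset.card_univ, Fintype.card_fin, pow_mul, neg_pow c, h2]
      rw [pow_succ]
      have : ((-1 : F) ^ h) * (-1) ^ h = 1 := by rw [← mul_pow]; simp
      linear_combination this
  · refine key (ι := Unit × Fin (2 * t + 1)) (by simp) ?_
    refine scalar_aux (2 * t) c 1 1 (by simp [hc]) det_one (by simp) ?_
    simp only [det_one, mul_one, Fintype.card_unit]
    have hs := Finset.sum_range_id_mul_two (2 * t + 1)
    simp only [Nat.add_sub_cancel] at hs
    have : ∑ i ∈ Finset.range (2 * t + 1), i = (2 * t + 1) * t := by nlinarith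
    rw [prod_pow_fin, this, mul_one, pow_mul, hc, one_pow]

/-- multiplication by a norm one element of an extension field -/
theorem exists_ext [Fintype F] (k : ℕ) (hk : 0 < k) (p : F[X]) (hp : p ≠ 0)
    (hd : p.natDegree * (Fintype.card F - 1) < Fintype.card F ^ k - 1) :
    ∃ D : Matrix (Fin k) (Fin k) F, D.det = 1 ∧ IsUnit (aeval D p) := by
  classical
  obtain ⟨r, hr⟩ := CharP.exists F
  have : Fact r.Prime := ⟨CharP.char_is_prime F r⟩
  have : NeZero k := ⟨hk.ne'⟩
  let K := FiniteField.Extension F r k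
  let b := finBasisOfFinrankEq F K (FiniteField.finrank_extension F r k)
  let N : Kˣ →* Fˣ := Units.map (Algebra.norm F)
  suffices h : ∃ a : Kˣ, a ∈ N.ker ∧ aeval (a : K) p ≠ 0 by
    obtain ⟨a, ha, hpa⟩ := h
    refine ⟨Algebra.leftMulMatrix b (a : K), ?_, ?_⟩
    · rw [← Algebra.norm_eq_matrix_det]
      exact congrArg Units.val (MonoidHom.mem_ker.1 ha)
    · rw [aeval_algHom_apply]
      exact (IsUnit.mk0 _ hpa).map _
  by_contra hcon
  push Not at hcon
  have h1 : Nat.card N.ker ≤ p.natDegree := by
    refine le_trans ?_ (ncard_rootSet_le p K)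
    rw [← Nat.card_coe_set_eq]
    refine Nat.card_le_card_of_injective
      (fun a : N.ker => (⟨(a.1 : K), (mem_rootSet_of_ne hp).2 (hcon a.1 a.2)⟩ : p.rootSet K)) ?_
    intro a a' h
    exact Subtype.ext (Units.ext (congrArg Subtype.val h))
  have h2 : Nat.card N.range ≤ Fintype.card F - 1 := by
    rw [← Nat.card_eq_fintype_card, ← Nat.card_units]
    exact Subgroup.card_le_card_group _
  have h3 : Nat.card Kˣ = Nat.card N.range * Nat.card N.ker := by
    rw [Subgroup.card_eq_card_quotient_mul_card_subgroup N.ker,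
      Nat.card_congr (QuotientGroup.quotientKerEquivRange N).toEquiv]
  rw [Nat.card_units, FiniteField.natCard_extension, Nat.card_eq_fintype_card (α := F)] at h3
  have := Nat.mul_le_mul h2 h1
  rw [← h3, mul_comm] at this
  omega

end Cfsg.Agent.H30.Ore
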