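import Cfsg.Agent.H30.Ore3

set_option autoImplicit false

namespace Cfsg.Agent.H30.Ore
open Matrix Module Polynomial

variable {F : Type*} [Field F]

/-- a companion matrix with two parameters -/
def cmp (m : ℕ) (w τ : F) : Matrix (Fin (m + 2)) (Fin (m + 2)) F :=
  Matrix.of fun i j => if j = Fin.last (m + 1) then
    (if i = 0 then w else if i = Fin.last (m + 1) then τ else 0)
    else if (i : ℕ) = j + 1 then 1 else 0

theorem det_cmp (m : ℕ) (w τ : F) : (cmp m w τ).det = (-1) ^ (m + 1) * w := by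
  rw [det_succ_row_zero, Finset.sum_eq_single (Fin.last (m + 1))]
  · have : (cmp m w τ).submatrix Fin.succ (Fin.last (m + 1)).succAbove = 1 := by
      ext i j
      simp only [cmp, Fin.succAbove_last, one_apply, submatrix_apply, of_apply,
        if_neg (Fin.castSucc_ne_last j), Fin.val_succ, Fin.val_castSucc, Nat.add_right_cancel_iff,
        Fin.val_inj]
    rw [this]; simp [cmp]
  · intro j _ hj
    simp [cmp, hj]
  · simp

theorem det_sub_cmp (m : ℕ) (w τ δ : F) (h : δ ^ (m + 2) ≠ w + τ * δ ^ (m + 1)) :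
    (scalar (Fin (m + 2)) δ - cmp m w τ).det ≠ 0 := by
  intro hdet
  obtain ⟨r, hr0, hr⟩ := exists_vecMul_eq_zero_iff.2 hdet
  have hr' : ∀ j, r j * δ = (r ᵥ* cmp m w τ) j := fun j => by
    have := congrFun hr j
    rw [vecMul_sub, Pi.sub_apply, Pi.zero_apply, sub_eq_zero, scalar_apply, vecMul_diagonal] at this
    exact this
  have h1 : ∀ j : Fin (m + 1), r j.succ = r j.castSucc * δ := fun j => by
    rw [hr', vecMul, dotProduct, Finset.sum_eq_single j.succ]
    · simp [cmp, Fin.castSucc_ne_last]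
    · intro i _ hi
      have : (i : ℕ) ≠ j + 1 := fun h => hi (Fin.ext (by simpa using h))
      simp [cmp, Fin.castSucc_ne_last, this]
    · simp
  have h2 : ∀ j : Fin (m + 2), r j = r 0 * δ ^ (j : ℕ) := fun j => by
    induction j using Fin.induction with
    | zero => simp
    | succ j ih => rw [h1, ih]; simp [pow_succ, mul_assoc]
  have h3 := hr' (Fin.last (m + 1))
  rw [vecMul, dotProduct, Fin.sum_univ_succ, Fin.sum_univ_castSucc] at h3
  have h4 : ∑ i : Fin m, r i.castSucc.succ * cmp m w τ i.castSucc.succ (Fin.last (m + 1)) = 0 :=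
    Finset.sum_eq_zero fun i _ => by
      have : i.castSucc.succ ≠ Fin.last (m + 1) := fun h => by
        have := congrArg Fin.val h
        simp at this; omega
      simp [cmp, this, Fin.succ_ne_zero]
  rw [h4, Fin.succ_last, h2 (Fin.last (m + 1))] at h3
  have hl : Fin.last m.succ ≠ 0 := (Fin.last_pos (n := m)).ne'
  simp only [cmp, of_apply, if_true, Fin.val_last, zero_add, if_neg hl] at h3
  have h5 : r 0 = 0 := by
    by_contra h0
    apply h
    have : r 0 * δ ^ (m + 2) = r 0 * (w + τ * δ ^ (m + 1)) := by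
      rw [pow_succ]; linear_combination h3
    exact mul_left_cancel₀ h0 this
  exact hr0 (funext fun j => by rw [h2, h5]; simp)

/-- canonical rank one perturbation of a scalar -/
def can (m : ℕ) (c u s : F) : Matrix (Fin (m + 2)) (Fin (m + 2)) F :=
  c • 1 + vecMulVec (Pi.single 0 u + Pi.single (Fin.last (m + 1)) s) (Pi.single 0 1)

theorem det_can (m : ℕ) (c u s : F) : (can m c u s).det = c ^ (m + 1) * (c + u) := by
  rw [det_of_isLowerTriangular, Fin.prod_univ_succ]
  · have : ∀ i : Fin (m + 1), can m c u s i.succ i.succ = c := fun i => by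
      simp [can, vecMulVec_apply]
    simp only [this]
    simp [can, vecMulVec_apply, mul_comm]
  · intro i j hij
    have hij : i < j := hij
    have : j ≠ 0 := fun h => by simp [h] at hij
    simp [can, vecMulVec_apply, hij.ne, this]

theorem relG_can (m : ℕ) {c u s w τ : F} (hc : c ≠ 0) (h1 : c ^ (m + 1) * (c + u) = 1)
    (h2 : s * w = (1 - c) * τ) : RelG (can m c u s) (cmp m w τ) := by
  refine relG_of _ _ (diagonal fun i => c ^ (i : ℕ)) (by simp [det_diagonal, Finset.prod_eq_zero_iff, hc]) ?_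
  ext i j
  rw [mul_diagonal, diagonal_mul, can, Matrix.add_mul, Matrix.smul_mul, Matrix.one_mul, vecMulVec_mul,
    single_one_vecMul]
  by_cases hj : j = Fin.last (m + 1)
  · subst hj
    by_cases hi : i = 0
    · subst hi
      simp [cmp, vecMulVec_apply]
      linear_combination w * h1
    by_cases hi' : i = Fin.last (m + 1)
    · subst hi'
      simp [cmp, vecMulVec_apply]
      linear_combination c ^ (m + 1) * h2
    · simp [cmp, vecMulVec_apply, hi, hi']
  · by_cases hij : (i : ℕ) = j + 1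
    · simp [cmp, vecMulVec_apply, hj, hij, pow_succ']
    · simp [cmp, vecMulVec_apply, hj, hij]

theorem exists_basis_can {V : Type*} [AddCommGroup V] [Module F V] [FiniteDimensional F V] {m : ℕ}
    (hV : finrank F V = m + 2) (φ : Dual F V) (hφ : φ ≠ 0) {u : V} (hu : u ≠ 0) {s : F}
    (hs : s ≠ 0) : ∃ b : Basis (Fin (m + 2)) F V, φ (b 0) = 1 ∧ (∀ i, i ≠ 0 → φ (b i) = 0) ∧
      u = φ u • b 0 + s • b (Fin.last (m + 1)) := by
  have hK : finrank F (LinearMap.ker φ) = m + 1 := by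
    have := Dual.finrank_ker_add_one_of_ne_zero hφ
    omega
  obtain ⟨v, hv1, hv2⟩ : ∃ v, φ v = 1 ∧ u - φ u • v ≠ 0 := by
    obtain ⟨v, hv⟩ := LinearMap.surjective hφ 1
    by_cases h : u - φ u • v = 0
    · have : Nontrivial (LinearMap.ker φ) := Module.nontrivial_of_finrank_pos (R := F) (by omega)
      obtain ⟨z, hz⟩ := exists_ne (0 : LinearMap.ker φ)
      refine ⟨v + z, by simp [hv, LinearMap.mem_ker.1 z.2], ?_⟩
      have hφu : φ u ≠ 0 := fun h0 => hu (by simpa [h0] using h)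
      rw [smul_add, ← sub_sub, h]
      simpa [hφu] using hz
    · exact ⟨v, hv, h⟩
  let u' : LinearMap.ker φ := ⟨s⁻¹ • (u - φ u • v), by simp [hv1]⟩
  have hu' : u' ≠ 0 := fun h => by
    have := congrArg Subtype.val h
    simp only [u', ZeroMemClass.coe_zero, smul_eq_zero, inv_eq_zero] at this
    exact this.elim hs hv2
  obtain ⟨θ, hθ⟩ := Projective.exists_dual_eq_one F hu'
  have hθ0 : θ ≠ 0 := fun h => by simp [h] at hθ
  have hN : finrank F (LinearMap.ker θ) = m := by
    have := Dual.finrank_ker_add_one_of_ne_zero hθ0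
    omega
  let b₁ := Basis.mkFinSnoc (finBasisOfFinrankEq F _ hN) u'
    (fun c x hx h => by simpa [hθ, LinearMap.mem_ker.1 hx] using congrArg θ h)
    (fun z => ⟨-θ z, by simp [hθ]⟩)
  let b := Basis.mkFinCons v b₁
    (fun c x hx h => by simpa [hv1, LinearMap.mem_ker.1 hx] using congrArg φ h)
    (fun z => ⟨-φ z, by simp [hv1]⟩)
  refine ⟨b, by simp [b, hv1], fun i hi => ?_, ?_⟩
  · obtain ⟨j, rfl⟩ := Fin.exists_succ_eq.2 hi
    simp [b]
  · have : b (Fin.last (m + 1)) = u' := by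
      rw [← Fin.succ_last]
      simp only [b, Basis.coe_mkFinCons, Fin.cons_succ, Function.comp_apply, b₁,
        Basis.coe_mkFinSnoc, Fin.snoc_last]
    rw [this]
    simp [b, u', smul_smul, mul_inv_cancel₀ hs]

theorem exists_can {m : ℕ} (c : F) {a b : Fin (m + 2) → F} (ha : a ≠ 0) (hb : b ≠ 0) {s : F}
    (hs : s ≠ 0) : ∃ (P Q : Matrix (Fin (m + 2)) (Fin (m + 2)) F) (u : F), P * Q = 1 ∧ Q * P = 1 ∧
      c • 1 + vecMulVec a b = P * can m c u s * Q := by
  let φ : Dual F (Fin (m + 2) → F) := (dotProductBilin F F b)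
  have hφ : φ ≠ 0 := fun h => hb (funext fun i => by
    simpa [φ] using LinearMap.congr_fun h (Pi.single i 1))
  obtain ⟨β, h0, h1, h2⟩ := exists_basis_can (m := m) (by simp) φ hφ ha hs
  obtain ⟨P, Q, hPQ, hQP, h3⟩ := exists_PQ β
  refine ⟨P, Q, φ a, hPQ, hQP, ?_⟩
  rw [h3 (c • 1 + vecMulVec a b)]
  congr 2
  ext i j
  have : toLin' (c • 1 + vecMulVec a b) (β j) = c • β j + φ (β j) • a := by
    simp [add_mulVec, smul_mulVec, vecMulVec_mulVec, φ]
  rw [LinearMap.toMatrix_apply, this]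
  conv_lhs => rw [h2]
  by_cases hj : j = 0
  · subst hj
    simp [can, vecMulVec_apply, h0, one_apply, Finsupp.single_apply, Pi.single_apply, eq_comm]
  · simp [can, vecMulVec_apply, h1 j hj, one_apply, Finsupp.single_apply, hj, eq_comm]

/-- rank at most one perturbations of a scalar -/
theorem rank_one_aux {m : ℕ} {c : F} (hc0 : c ≠ 0) (hc1 : c ≠ 1) (a b : Fin (m + 2) → F)
    (hdet : (c • (1 : Matrix _ _ F) + vecMulVec a b).det = 1) :
    ∃ (δ : F) (D : Matrix (Fin (m + 2)) (Fin (m + 2)) F), δ * D.det = 1 ∧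
      (scalar _ δ - D).det ≠ 0 ∧ RelG (c • 1 + vecMulVec a b) D := by
  have hε : ((-1 : F) ^ (m + 1)) * (-1) ^ (m + 1) = 1 := by rw [← mul_pow]; simp
  by_cases hab : a = 0 ∨ b = 0
  · have h0 : c • (1 : Matrix _ _ F) + vecMulVec a b = can m c 0 0 := by
      rw [vecMulVec_eq_zero.2 hab]; simp [can]
    rw [h0] at hdet ⊢
    rw [det_can] at hdet
    refine ⟨-c, cmp m ((-1) ^ (m + 1) * (-c)⁻¹) 0, ?_, det_sub_cmp _ _ _ _ ?_,
      relG_can m hc0 hdet (by simp)⟩
    · rw [det_cmp, ← mul_assoc (_ ^ _), hε, one_mul, mul_inv_cancel₀ (neg_ne_zero.2 hc0)]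
    · intro h
      apply hc1
      rw [zero_mul, add_zero, neg_pow c, pow_succ c, pow_succ (-1 : F)] at h
      rw [add_zero] at hdet
      have h' : (-1 : F) ^ (m + 1) * (c * 1) = (-1) ^ (m + 1) * 1 := by
        have := congrArg (· * (-c)) h
        simp only [mul_assoc, inv_mul_cancel₀ (neg_ne_zero.2 hc0)] at this
        linear_combination this - ((-1) ^ (m + 1) * c) * hdet
      simpa using h'
  push Not at hab
  obtain ⟨τ, hτ0, hτ⟩ : ∃ τ : F, τ ≠ 0 ∧ 1 ≠ (-1) ^ (m + 1) + τ := by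
    by_cases h : (1 : F) = (-1) ^ (m + 1) + 1
    · exact ⟨c, hc0, fun h' => hc1 (by linear_combination h - h')⟩
    · exact ⟨1, one_ne_zero, h⟩
  obtain ⟨P, Q, u, hPQ, hQP, h⟩ := exists_can c hab.1 hab.2 (s := (-1) ^ (m + 1) * (1 - c) * τ)
    (mul_ne_zero (mul_ne_zero (by simp) (sub_ne_zero.2 hc1.symm)) hτ0)
  rw [h] at hdet ⊢
  rw [det_conj_of_mul_eq_one hPQ hQP, det_can] at hdet
  refine ⟨1, P * cmp m ((-1) ^ (m + 1)) τ * Q, ?_, ?_,
    (relG_can m hc0 hdet (by linear_combination (1 - c) * τ * hε)).conj hPQ hQP⟩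
  · rw [det_conj_of_mul_eq_one hPQ hQP, det_cmp, hε, one_mul]
  · have : scalar _ 1 - P * cmp m ((-1) ^ (m + 1)) τ * Q
        = P * (scalar _ 1 - cmp m ((-1) ^ (m + 1)) τ) * Q := by
      rw [Matrix.mul_sub, Matrix.sub_mul, map_one, Matrix.mul_one, hPQ]
    rw [this, det_conj_of_mul_eq_one hPQ hQP]
    exact det_sub_cmp _ _ _ _ (by simpa using hτ)

/-- one step of Sourour's method -/
theorem step1 {n m : ℕ} (hn : n = 1 + m) (g : Matrix (Fin n) (Fin n) F)
    (hg : ∀ c : F, g ≠ c • 1) :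
    ∃ (P : Matrix (Fin n) (Fin 1 ⊕ Fin m) F) (Q : Matrix (Fin 1 ⊕ Fin m) (Fin n) F)
      (x : Matrix (Fin m) (Fin 1) F) (y : Matrix (Fin 1) (Fin m) F) (R : Matrix (Fin m) (Fin m) F),
      P * Q = 1 ∧ Q * P = 1 ∧ g = P * fromBlocks 1 y x R * Q ∧ x ≠ 0 := by
  obtain ⟨v, hv⟩ : ∃ v, LinearIndependent F ![v, toLin' g v] := by
    by_contra h
    push Not at h
    obtain ⟨c, hc⟩ := LinearMap.exists_eq_smul_id_of_forall_notLinearIndependent h
    exact hg c (toLin'.injective (by rw [hc]; simp [Module.End.one_eq_id]))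
  rw [LinearIndependent.pair_iff] at hv
  have hv0 : v ≠ 0 := fun h => by simpa [h] using hv 1 0
  obtain ⟨P, Q, x, y, R, h1, h2, h3, h4⟩ := step hn g (Submodule.span F {v})
    (finrank_span_singleton hv0) (by
      rw [Submodule.map_span, Set.image_singleton, Submodule.disjoint_def]
      intro z h1 h2
      obtain ⟨a, rfl⟩ := Submodule.mem_span_singleton.1 h1
      obtain ⟨b, hb⟩ := Submodule.mem_span_singleton.1 h2
      have := hv (a + b) (-b) (by
        rw [add_smul, ← hb]; simp [smul_sub])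
      have hb0 : b = 0 := by simpa using this.2
      rw [← hb, hb0, zero_smul])
  refine ⟨P, Q, x, y, R, h1, h2, h3, h4 (fun w hw h => ?_) one_pos⟩
  obtain ⟨a, rfl⟩ := Submodule.mem_span_singleton.1 hw
  have := hv a (-a) (by rw [toLin'_apply, neg_smul, ← mulVec_smul, h]; simp)
  simp [this.1]

theorem comm_rank_one {m : ℕ} {c : F} (hc0 : c ≠ 0) (hc1 : c ≠ 1) (a b : Fin (m + 3) → F)
    (hdet : (c • (1 : Matrix _ _ F) + vecMulVec a b).det = 1)
    (hg : ∀ d : F, c • (1 : Matrix _ _ F) + vecMulVec a b ≠ d • 1) :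
    Comm (c • (1 : Matrix _ _ F) + vecMulVec a b) := by
  obtain ⟨P, Q, x, y, R, h1, h2, h3, -⟩ := step1 (m := m + 2) (by omega) _ hg
  have h4 : fromBlocks 1 y x R = c • 1 + vecMulVec (Q *ᵥ a) (b ᵥ* P) := by
    rw [← mul_vecMulVec, ← vecMulVec_mul]
    calc fromBlocks 1 y x R = (Q * P) * fromBlocks 1 y x R * (Q * P) := by simp [h2]
      _ = Q * (P * fromBlocks 1 y x R * Q) * P := by simp only [Matrix.mul_assoc]
      _ = _ := by rw [← h3]; simp [Matrix.mul_add, Matrix.add_mul, h2, Matrix.mul_assoc]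
  generalize Q *ᵥ a = a' at h4
  generalize b ᵥ* P = b' at h4
  have h5 : R - x * y = c • 1 + vecMulVec (fun i => c * a' (Sum.inr i)) (fun i => b' (Sum.inr i)) := by
    ext i j
    have e1 := congrFun (congrFun h4 (Sum.inl 0)) (Sum.inl 0)
    have e2 := congrFun (congrFun h4 (Sum.inl 0)) (Sum.inr j)
    have e3 := congrFun (congrFun h4 (Sum.inr i)) (Sum.inl 0)
    have e4 := congrFun (congrFun h4 (Sum.inr i)) (Sum.inr j)
    simp [vecMulVec_apply, one_apply] at e1 e2 e3 e4
    simp [vecMulVec_apply, one_apply, mul_apply, e2, e3, e4]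
    linear_combination (a' (Sum.inr i) * b' (Sum.inr j)) * e1
  rw [h3] at hdet ⊢
  rw [det_conj_of_mul_eq_one h1 h2, det_schur, h5] at hdet
  obtain ⟨δ, D, hD, hδ, h⟩ := rank_one_aux hc0 hc1 _ _ hdet
  rw [← h5] at h
  exact Comm.conj h1 h2 ⟨_, by simp [det_fromBlocks_zero₂₁, hD], core1 x y R δ h hδ⟩

end Cfsg.Agent.H30.Ore
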