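import Cfsg.Agent.H30.Ore1
import Cfsg.Agent.H30.OreT1

set_option autoImplicit false

namespace Cfsg.Agent.H30.Ore
open Matrix

structure M3 where
  (a b c d e f g h i : ℕ)

namespace M3
def mul (x y : M3) : M3 :=
  ⟨x.a * y.a + x.b * y.d + x.c * y.g, x.a * y.b + x.b * y.e + x.c * y.h,
    x.a * y.c + x.b * y.f + x.c * y.i, x.d * y.a + x.e * y.d + x.f * y.g,
    x.d * y.b + x.e * y.e + x.f * y.h, x.d * y.c + x.e * y.f + x.f * y.i,
    x.g * y.a + x.h * y.d + x.i * y.g, x.g * y.b + x.h * y.e + x.i * y.h,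
    x.g * y.c + x.h * y.f + x.i * y.i⟩

def eqv (p : ℕ) (x y : M3) : Bool :=
  x.a % p == y.a % p && x.b % p == y.b % p && x.c % p == y.c % p && x.d % p == y.d % p &&
  x.e % p == y.e % p && x.f % p == y.f % p && x.g % p == y.g % p && x.h % p == y.h % p &&
  x.i % p == y.i % p

/-- determinant modulo `r + 1` -/
def det (r : ℕ) (x : M3) : ℕ :=
  (x.a * x.e * x.i + x.b * x.f * x.g + x.c * x.d * x.h
    + r * (x.c * x.e * x.g + x.b * x.d * x.i + x.a * x.f * x.h)) % (r + 1)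

/-- `x - 1` modulo `r + 1` -/
def dec1 (r : ℕ) (x : M3) : M3 := ⟨x.a + r, x.b, x.c, x.d, x.e + r, x.f, x.g, x.h, x.i + r⟩

def dec (p n : ℕ) : M3 :=
  ⟨n % p, n / p % p, n / p ^ 2 % p, n / p ^ 3 % p, n / p ^ 4 % p, n / p ^ 5 % p, n / p ^ 6 % p,
    n / p ^ 7 % p, n / p ^ 8 % p⟩

def code (p : ℕ) (x : M3) : ℕ :=
  x.a + p * (x.b + p * (x.c + p * (x.d + p * (x.e + p * (x.f + p * (x.g + p * (x.h + p * x.i)))))))

def toMat (R : Type*) [CommRing R] (x : M3) : Matrix (Fin 3) (Fin 3) R :=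
  !![x.a, x.b, x.c; x.d, x.e, x.f; x.g, x.h, x.i]

theorem toMat_mul (R : Type*) [CommRing R] (x y : M3) :
    toMat R (x.mul y) = toMat R x * toMat R y := by
  ext i j
  fin_cases i <;> fin_cases j <;> simp [toMat, mul, Matrix.mul_apply, Fin.sum_univ_three]

theorem toMat_eqv {p : ℕ} {x y : M3} (h : eqv p x y = true) :
    toMat (ZMod p) x = toMat (ZMod p) y := by
  simp only [eqv, Bool.and_eq_true, beq_iff_eq, ← ZMod.natCast_eq_natCast_iff'] at h
  simp only [toMat, h]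

theorem det_toMat (r : ℕ) (x : M3) : (toMat (ZMod (r + 1)) x).det = (det r x : ℕ) := by
  have : (r : ZMod (r + 1)) = -1 := by
    rw [eq_neg_iff_add_eq_zero]; exact_mod_cast ZMod.natCast_self (r + 1)
  rw [det, ZMod.natCast_mod]
  simp [toMat, det_fin_three, this]
  ring

theorem toMat_dec1 (r : ℕ) (x : M3) :
    toMat (ZMod (r + 1)) (x.dec1 r) = toMat (ZMod (r + 1)) x - 1 := by
  have : (r : ZMod (r + 1)) = -1 := by
    rw [eq_neg_iff_add_eq_zero]; exact_mod_cast ZMod.natCast_self (r + 1)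
  ext i j
  fin_cases i <;> fin_cases j <;> simp [toMat, dec1, this, sub_eq_add_neg]

def all (p : ℕ) (P : M3 → Bool) : Bool :=
  (List.range p).all fun a => (List.range p).all fun b => (List.range p).all fun c =>
  (List.range p).all fun d => (List.range p).all fun e => (List.range p).all fun f =>
  (List.range p).all fun g => (List.range p).all fun h => (List.range p).all fun i =>
    P ⟨a, b, c, d, e, f, g, h, i⟩

theorem of_all {r : ℕ} {P : M3 → Bool} (h : all (r + 1) P = true)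
    (g : Matrix (Fin 3) (Fin 3) (ZMod (r + 1))) : ∃ x, g = toMat _ x ∧ P x = true := by
  simp only [all, List.all_eq_true, List.mem_range] at h
  refine ⟨⟨(g 0 0).val, (g 0 1).val, (g 0 2).val, (g 1 0).val, (g 1 1).val, (g 1 2).val,
    (g 2 0).val, (g 2 1).val, (g 2 2).val⟩, ?_, h _ (ZMod.val_lt _) _ (ZMod.val_lt _) _
    (ZMod.val_lt _) _ (ZMod.val_lt _) _ (ZMod.val_lt _) _ (ZMod.val_lt _) _ (ZMod.val_lt _) _
    (ZMod.val_lt _) _ (ZMod.val_lt _)⟩
  ext i j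
  fin_cases i <;> fin_cases j <;> simp [toMat]

theorem det_lt (r : ℕ) (x : M3) : det r x < r + 1 := Nat.mod_lt _ (Nat.succ_pos r)

theorem det_eq_one {r : ℕ} (hr : 0 < r) {x : M3} (h : (toMat (ZMod (r + 1)) x).det = 1) :
    det r x = 1 := by
  rw [det_toMat] at h
  have := (ZMod.natCast_eq_natCast_iff' (det r x) 1 (r + 1)).1 (by simpa using h)
  rwa [Nat.mod_eq_of_lt (det_lt r x), Nat.mod_eq_of_lt (by omega)] at this
end M3

def look (t : List ℕ) (bits per n : ℕ) : ℕ := (t.getD (n / per) 0 >>> (bits * (n % per))) % 2 ^ bits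

def chk32' (g B y : M3) : Bool :=
  B.det 1 == 1 && y.det 1 == 1 && M3.eqv 2 ((g.mul B).mul y) (y.mul B) &&
    M3.eqv 2 (((B.dec1 1).mul (B.dec1 1)).mul (B.dec1 1)) ⟨0, 0, 0, 0, 0, 0, 0, 0, 0⟩

def chk32 (g : M3) : Bool :=
  g.det 1 != 1 || chk32' g (M3.dec 2 (look t32 18 32 (g.code 2) % 512))
    (M3.dec 2 (look t32 18 32 (g.code 2) / 512))

theorem all32 : M3.all 2 chk32 = true := by decide +kernel

def chk33' (g B y : M3) : Bool :=
  B.det 2 == 1 && y.det 2 == 1 && M3.eqv 3 ((g.mul B).mul y) (y.mul B) && (B.dec1 2).det 2 != 0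

def chk33 (g : M3) : Bool :=
  g.det 2 != 1 || chk33' g (M3.dec 3 (look t33 30 243 (g.code 3) % 32768))
    (M3.dec 3 (look t33 30 243 (g.code 3) / 32768))

theorem all33 : M3.all 3 chk33 = true := by decide +kernel

theorem sl32 (g : Matrix (Fin 3) (Fin 3) (ZMod 2)) (hg : g.det = 1) :
    ∃ D : Matrix (Fin 3) (Fin 3) (ZMod 2), D.det = 1 ∧ (D - 1) ^ 3 = 0 ∧ RelS g D := by
  obtain ⟨x, rfl, h⟩ := M3.of_all (r := 1) all32 g
  have := M3.det_eq_one (r := 1) one_pos hg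
  simp only [chk32, this, bne_self_eq_false, Bool.false_or] at h
  generalize M3.dec 2 _ = B at h
  generalize M3.dec 2 _ = y at h
  simp only [chk32', Bool.and_eq_true, beq_iff_eq] at h
  obtain ⟨⟨⟨h1, h2⟩, h3⟩, h4⟩ := h
  have h3 := M3.toMat_eqv h3
  have h4 := M3.toMat_eqv h4
  simp only [M3.toMat_mul] at h3 h4
  rw [M3.toMat_dec1 1] at h4
  refine ⟨M3.toMat _ B, by rw [M3.det_toMat 1, h1]; rfl, ?_,
    relS_of _ _ (M3.toMat _ y) (by rw [M3.det_toMat 1, h2]; rfl) h3⟩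
  rw [pow_three', h4]
  ext i j
  fin_cases i <;> fin_cases j <;> rfl

theorem sl33 (g : Matrix (Fin 3) (Fin 3) (ZMod 3)) (hg : g.det = 1) :
    ∃ D : Matrix (Fin 3) (Fin 3) (ZMod 3), D.det = 1 ∧ (D - 1).det ≠ 0 ∧ RelS g D := by
  obtain ⟨x, rfl, h⟩ := M3.of_all (r := 2) all33 g
  have := M3.det_eq_one (r := 2) two_pos hg
  simp only [chk33, this, bne_self_eq_false, Bool.false_or] at h
  generalize M3.dec 3 _ = B at h
  generalize M3.dec 3 _ = y at h
  simp only [chk33', Bool.and_eq_true, beq_iff_eq, bne_iff_ne] at h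
  obtain ⟨⟨⟨h1, h2⟩, h3⟩, h4⟩ := h
  have h3 := M3.toMat_eqv h3
  simp only [M3.toMat_mul] at h3
  refine ⟨M3.toMat _ B, by rw [M3.det_toMat 2, h1]; rfl, ?_,
    relS_of _ _ (M3.toMat _ y) (by rw [M3.det_toMat 2, h2]; rfl) h3⟩
  rw [← M3.toMat_dec1 2, M3.det_toMat 2, Ne, ZMod.natCast_eq_zero_iff]
  intro h
  exact h4 (Nat.eq_zero_of_dvd_of_lt h (M3.det_lt 2 _))

structure M2 where
  (a b c d : ℕ)

namespace M2
def mul (x y : M2) : M2 :=
  ⟨x.a * y.a + x.b * y.c, x.a * y.b + x.b * y.d, x.c * y.a + x.d * y.c, x.c * y.b + x.d * y.d⟩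

def add (x y : M2) : M2 := ⟨x.a + y.a, x.b + y.b, x.c + y.c, x.d + y.d⟩

def eqv (x y : M2) : Bool :=
  x.a % 2 == y.a % 2 && x.b % 2 == y.b % 2 && x.c % 2 == y.c % 2 && x.d % 2 == y.d % 2

def det (x : M2) : ℕ := (x.a * x.d + x.b * x.c) % 2

def dec (n : ℕ) : M2 := ⟨n % 2, n / 2 % 2, n / 4 % 2, n / 8 % 2⟩

def toMat (x : M2) : Matrix (Fin 2) (Fin 2) (ZMod 2) := !![x.a, x.b; x.c, x.d]

theorem toMat_mul (x y : M2) : toMat (x.mul y) = toMat x * toMat y := by
  ext i j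
  fin_cases i <;> fin_cases j <;> simp [toMat, mul, Matrix.mul_apply, Fin.sum_univ_two]

theorem toMat_add (x y : M2) : toMat (x.add y) = toMat x + toMat y := by
  ext i j
  fin_cases i <;> fin_cases j <;> simp [toMat, add]

theorem toMat_eqv {x y : M2} (h : eqv x y = true) : toMat x = toMat y := by
  simp only [eqv, Bool.and_eq_true, beq_iff_eq, ← ZMod.natCast_eq_natCast_iff'] at h
  simp only [toMat, h]

theorem det_toMat (x : M2) : (toMat x).det = (det x : ℕ) := by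
  rw [det, ZMod.natCast_mod]
  simp [toMat, det_fin_two, sub_eq_add_neg, ZMod.neg_eq_self_mod_two]

theorem surj (g : Matrix (Fin 2) (Fin 2) (ZMod 2)) : ∃ n < 16, g = toMat (dec n) := by
  revert g; decide +kernel
end M2

structure M4 where
  (a b c d : M2)

namespace M4
def mul (x y : M4) : M4 :=
  ⟨(x.a.mul y.a).add (x.b.mul y.c), (x.a.mul y.b).add (x.b.mul y.d),
    (x.c.mul y.a).add (x.d.mul y.c), (x.c.mul y.b).add (x.d.mul y.d)⟩

def eqv (x y : M4) : Bool := x.a.eqv y.a && x.b.eqv y.b && x.c.eqv y.c && x.d.eqv y.d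

def dec (n : ℕ) : M4 := ⟨M2.dec n, M2.dec (n / 16), M2.dec (n / 256), M2.dec (n / 4096)⟩

def one : M4 := ⟨⟨1, 0, 0, 1⟩, ⟨0, 0, 0, 0⟩, ⟨0, 0, 0, 0⟩, ⟨1, 0, 0, 1⟩⟩

def toMat (x : M4) : Matrix (Fin 2 ⊕ Fin 2) (Fin 2 ⊕ Fin 2) (ZMod 2) :=
  fromBlocks x.a.toMat x.b.toMat x.c.toMat x.d.toMat

theorem toMat_mul (x y : M4) : toMat (x.mul y) = toMat x * toMat y := by
  simp only [toMat, mul, fromBlocks_multiply, M2.toMat_add, M2.toMat_mul]

theorem toMat_eqv {x y : M4} (h : eqv x y = true) : toMat x = toMat y := by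
  simp only [eqv, Bool.and_eq_true] at h
  simp only [toMat, M2.toMat_eqv h.1.1.1, M2.toMat_eqv h.1.1.2, M2.toMat_eqv h.1.2,
    M2.toMat_eqv h.2]

theorem toMat_one : toMat one = 1 := by decide +kernel

theorem det_eq_one {x y : M4} (h : eqv (x.mul y) one = true) : (toMat x).det = 1 := by
  have h := congrArg det (toMat_eqv h)
  rw [toMat_mul, toMat_one, det_mul, det_one] at h
  generalize (toMat x).det = a at h
  generalize (toMat y).det = b at h
  revert a b; decide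
end M4

def chk42' (g B B' y y' : M4) : Bool :=
  M4.eqv (B.mul B') M4.one && M4.eqv (y.mul y') M4.one && M4.eqv ((g.mul B).mul y) (y.mul B)

def chk42'' (g : M4) (w : ℕ) : Bool :=
  chk42' g (M4.dec w) (M4.dec (w / 2 ^ 16)) (M4.dec (w / 2 ^ 32)) (M4.dec (w / 2 ^ 48))

def chk42 (y x R : ℕ) : Bool :=
  ((M2.dec R).add ((M2.dec x).mul (M2.dec y))).det != 1 ||
    chk42'' ⟨⟨1, 0, 0, 1⟩, M2.dec y, M2.dec x, M2.dec R⟩ (look t42 64 64 (y + 16 * x + 256 * R))

theorem all42 : ((List.range 16).all fun y => (List.range 16).all fun x =>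
    (List.range 16).all fun R => chk42 y x R) = true := by decide +kernel

theorem sl42 (y x R : Matrix (Fin 2) (Fin 2) (ZMod 2)) (h : (R - x * y).det = 1) :
    Comm (fromBlocks 1 y x R) := by
  obtain ⟨y, hy, rfl⟩ := M2.surj y
  obtain ⟨x, hx, rfl⟩ := M2.surj x
  obtain ⟨R, hR, rfl⟩ := M2.surj R
  have h1 := all42
  simp only [List.all_eq_true, List.mem_range] at h1
  have h2 := h1 y hy x hx R hR
  have h3 : ((M2.dec R).add ((M2.dec x).mul (M2.dec y))).det = 1 := by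
    rw [sub_eq_add_neg] at h
    have hn : ∀ A : Matrix (Fin 2) (Fin 2) (ZMod 2), -A = A := fun A => by
      ext i j; exact ZMod.neg_eq_self_mod_two _
    rw [hn, ← M2.toMat_mul, ← M2.toMat_add, M2.det_toMat] at h
    have := (ZMod.natCast_eq_natCast_iff' _ 1 2).1 (by simpa using h)
    rw [M2.det, Nat.mod_mod] at this
    exact this
  simp only [chk42, h3, bne_self_eq_false, Bool.false_or, chk42'', chk42', Bool.and_eq_true] at h2
  obtain ⟨⟨h4, h5⟩, h6⟩ := h2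
  have h6 := M4.toMat_eqv h6
  simp only [M4.toMat_mul] at h6
  have : (1 : Matrix (Fin 2) (Fin 2) (ZMod 2)) = M2.toMat ⟨1, 0, 0, 1⟩ := by decide +kernel
  rw [this]
  exact ⟨_, M4.det_eq_one h4, relS_of _ _ _ (M4.det_eq_one h5) h6⟩

end Cfsg.Agent.H30.Ore
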