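import Cfsg.Agent.H30.Ore4

set_option autoImplicit false

namespace Cfsg.Agent.H30.Ore
open Matrix Module Polynomial

variable {F : Type*} [Field F]

section
variable {ι κ : Type*} [Fintype ι] [DecidableEq ι] [Fintype κ] [DecidableEq κ]

theorem RelG.target {P : Matrix ι κ F} {Q : Matrix κ ι F} (hPQ : P * Q = 1) (hQP : Q * P = 1)
    (e : ι ≃ κ) {g : Matrix ι ι F} {D : Matrix κ κ F} (h : RelG g (P * D * Q)) :
    RelG g (D.submatrix e e) := by
  obtain ⟨A, B, y, z, hy, hz, h1, h2, h3⟩ := h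
  have hw : (P.submatrix id e).det ≠ 0 := by
    have : P.submatrix id e * Q.submatrix e id = 1 := by
      rw [submatrix_mul_equiv, hPQ]; rfl
    have := congrArg det this
    rw [det_mul, det_one] at this
    exact left_ne_zero_of_mul_eq_one this
  have hD : P * D * Q * P.submatrix id e = P.submatrix id e * D.submatrix e e := by
    rw [submatrix_mul_equiv]
    have : P * D * Q * P.submatrix id e = (P * D * Q * P).submatrix id e :=
      submatrix_mul_equiv (P * D * Q) P id (Equiv.refl _) e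
    rw [this, Matrix.mul_assoc _ Q, hQP, Matrix.mul_one]
  refine ⟨A, B, y * P.submatrix id e, z * P.submatrix id e, by simp [hy, hw], by simp [hz, hw],
    ?_, ?_, h3⟩
  · rw [← mul_assoc, h1, mul_assoc, hD, mul_assoc]
  · rw [← mul_assoc, h2, mul_assoc, hD, mul_assoc]

theorem RelG.relS_diagonal (i : ι) {g : Matrix ι ι F} {d : ι → F} (h : RelG g (diagonal d)) :
    RelS g (diagonal d) := by
  obtain ⟨A, B, y, z, hy, hz, h1, h2, h3⟩ := h
  have key : ∀ {A y : Matrix ι ι F}, y.det ≠ 0 → A * y = y * diagonal d →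
      ∃ y' : Matrix ι ι F, y'.det = 1 ∧ A * y' = y' * diagonal d := by
    intro A y hy h
    refine ⟨y * diagonal (Function.update 1 i y.det⁻¹), ?_, ?_⟩
    · rw [det_mul, det_diagonal, Finset.prod_update_of_mem (Finset.mem_univ i)]
      simp [mul_inv_cancel₀ hy]
    · rw [← mul_assoc, h, mul_assoc, mul_assoc, diagonal_mul_diagonal, diagonal_mul_diagonal]
      simp only [mul_comm]
  obtain ⟨y', hy', h1'⟩ := key hy h1
  obtain ⟨z', hz', h2'⟩ := key hz h2
  exact ⟨A, B, y', z', hy', hz', h1', h2', h3⟩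
end

theorem sl2G {a : F} (ha : a ≠ a⁻¹) (g : Matrix (Fin 2) (Fin 2) F) (hd : g.det = 1)
    (hg : g = 1 ∨ ∀ c : F, g ≠ c • 1) : RelG g (diagonal ![a, a⁻¹]) := by
  rcases hg with rfl | hg
  · exact (relS_one _).relG
  obtain ⟨P, Q, x, y, R, h1, h2, h3, -⟩ := step1 (m := 1) rfl g hg
  rw [h3, det_conj_of_mul_eq_one h1 h2, det_schur] at hd
  have h4 : R - x * y = 1 := by
    ext i j
    rw [det_unique] at hd
    rw [Subsingleton.elim i default, Subsingleton.elim j default, hd]; simp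
  have h5 := (core1 x y R a (D₂ := scalar (Fin 1) a⁻¹) (h4 ▸ (relS_one _).relG)
    (by simpa [sub_eq_zero] using ha)).relG.conj h1 h2
  rw [← h3] at h5
  convert h5.target h1 h2 (finSumFinEquiv (m := 1) (n := 1)).symm using 1
  ext i j
  fin_cases i <;> fin_cases j <;> rfl

theorem sl3G {a : F} (ha0 : a ≠ 0) (ha : a ≠ a⁻¹) (g : Matrix (Fin 3) (Fin 3) F) (hd : g.det = 1)
    (hg : ∀ c : F, g ≠ c • 1) : RelG g (diagonal ![1, a, a⁻¹]) := by
  have ha1 : a ≠ 1 := by rintro rfl; simp at ha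
  have key : ∀ (P : Matrix (Fin 3) (Fin 1 ⊕ Fin 2) F) (Q : Matrix (Fin 1 ⊕ Fin 2) (Fin 3) F)
      (x : Matrix (Fin 2) (Fin 1) F) (y : Matrix (Fin 1) (Fin 2) F) (R : Matrix (Fin 2) (Fin 2) F),
      P * Q = 1 → Q * P = 1 → g = P * fromBlocks 1 y x R * Q →
      (R - x * y = 1 ∨ ∀ c : F, R - x * y ≠ c • 1) → RelG g (diagonal ![1, a, a⁻¹]) := by
    intro P Q x y R h1 h2 h3 h4
    rw [h3, det_conj_of_mul_eq_one h1 h2, det_schur] at hd
    have h5 := (core1 x y R 1 (sl2G ha _ hd h4) (by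
      simp [det_fin_two, sub_eq_zero, ha1.symm, ha1, eq_comm (a := (1 : F))])).relG.conj h1 h2
    rw [← h3] at h5
    convert h5.target h1 h2 (finSumFinEquiv (m := 1) (n := 2)).symm using 1
    ext i j
    fin_cases i <;> fin_cases j <;> rfl
  obtain ⟨P, Q, x, y, R, h1, h2, h3, hx⟩ := step1 (m := 2) rfl g hg
  by_cases h4 : ∀ c : F, R - x * y ≠ c • 1
  · exact key P Q x y R h1 h2 h3 (Or.inr h4)
  push Not at h4
  obtain ⟨c, hc⟩ := h4
  have hc0 : c ≠ 0 := by
    rintro rfl
    rw [h3, det_conj_of_mul_eq_one h1 h2, det_schur, hc] at hd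
    simp at hd
  let t : Matrix (Fin 1) (Fin 2) F := !![-x 1 0, x 0 0]
  have htx : t * x = 0 := by
    ext i j
    fin_cases i; fin_cases j
    simp [t, mul_apply, mul_comm]
  let E : Matrix (Fin 1 ⊕ Fin 2) (Fin 1 ⊕ Fin 2) F := fromBlocks 1 t 0 1
  let E' : Matrix (Fin 1 ⊕ Fin 2) (Fin 1 ⊕ Fin 2) F := fromBlocks 1 (-t) 0 1
  have hE : E' * E = 1 := by
    simp [E, E', fromBlocks_multiply]
  have hE' : E * E' = 1 := by
    simp [E, E', fromBlocks_multiply]
  refine key (P * E') (E * Q) x (y + t * R - t) (R - x * t)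
    ?_ ?_ ?_ (Or.inr fun d hd => hx ?_)
  · rw [Matrix.mul_assoc, ← Matrix.mul_assoc _ _ Q, hE, Matrix.one_mul, h1]
  · rw [Matrix.mul_assoc, ← Matrix.mul_assoc Q, h2, Matrix.one_mul, hE']
  · have : E' * fromBlocks 1 (y + t * R - t) x (R - x * t) * E = fromBlocks 1 y x R := by
      simp [E, E', fromBlocks_multiply, Matrix.mul_sub, ← Matrix.mul_assoc, htx]
      abel
    rw [h3, ← this]
    simp only [Matrix.mul_assoc]
  · have hR : R = c • 1 + x * y := by rw [← hc]; simp
    have : R - x * t - x * (y + t * R - t) = c • 1 - c • (x * t) := by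
      have : t * R = c • t := by
        rw [hR, Matrix.mul_add, ← Matrix.mul_assoc, htx]; simp
      rw [this, Matrix.mul_sub, Matrix.mul_add, Matrix.mul_smul, ← hc]; abel
    rw [this] at hd
    have e1 := congrFun (congrFun hd 0) 1
    have e2 := congrFun (congrFun hd 1) 0
    simp [t, mul_apply, hc0] at e1 e2
    ext i j
    fin_cases i <;> fin_cases j <;> simp [e1, e2]

theorem exists_ne_inv [Fintype F] (h : 4 ≤ Fintype.card F) : ∃ a : F, a ≠ 0 ∧ a ≠ a⁻¹ := by
  classical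
  by_contra hcon
  push Not at hcon
  have : (Finset.univ : Finset F) ⊆ {0, 1, -1} := fun a _ => by
    by_cases ha : a = 0
    · simp [ha]
    have h1 : a * a = 1 := by
      nth_rewrite 2 [hcon a ha]
      exact mul_inv_cancel₀ ha
    rcases mul_self_eq_one_iff.1 h1 with h | h <;> simp [h]
  have h2 := (Finset.card_le_card this).trans Finset.card_le_three
  rw [Finset.card_univ] at h2
  omega

theorem comm_two [Fintype F] (h : 4 ≤ Fintype.card F) (g : Matrix (Fin 2) (Fin 2) F)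
    (hd : g.det = 1) (hg : ∀ c : F, g ≠ c • 1) : Comm g := by
  obtain ⟨a, ha0, ha⟩ := exists_ne_inv h
  exact ⟨_, by simp [det_diagonal, mul_inv_cancel₀ ha0],
    (sl2G ha g hd (Or.inr hg)).relS_diagonal 0⟩

theorem comm_three [Fintype F] (h : 4 ≤ Fintype.card F) (g : Matrix (Fin 3) (Fin 3) F)
    (hd : g.det = 1) (hg : ∀ c : F, g ≠ c • 1) : Comm g := by
  obtain ⟨a, ha0, ha⟩ := exists_ne_inv h
  exact ⟨_, by simp [det_diagonal, Fin.prod_univ_three, mul_inv_cancel₀ ha0],
    (sl3G ha0 ha g hd hg).relS_diagonal 0⟩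

/-- transversal subspace for a matrix -/
theorem stepk [Fintype F] {n k m : ℕ} (hn : n = k + m) (hkm : k ≤ m) (g : Matrix (Fin n) (Fin n) F)
    (hd : g.det = 1)
    (hr : ∀ c : F, c ≠ 0 → c ≠ 1 → k ≤ finrank F (LinearMap.range (toLin' g - c • 1))) :
    ∃ (P : Matrix (Fin n) (Fin k ⊕ Fin m) F) (Q : Matrix (Fin k ⊕ Fin m) (Fin n) F)
      (x : Matrix (Fin m) (Fin k) F) (y : Matrix (Fin k) (Fin m) F) (R : Matrix (Fin m) (Fin m) F),
      P * Q = 1 ∧ Q * P = 1 ∧ g = P * fromBlocks 1 y x R * Q ∧ (R - x * y).det = 1 := by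
  obtain ⟨V₁, h1, h2⟩ := exists_transversal (toLin' g - 1) k (by simp; omega) (fun c h0 h1 => by
    have := hr (1 + c) (fun h => h1 (by linear_combination h)) (by simpa using h0)
    rwa [add_smul, one_smul, ← sub_sub] at this) (by
      rw [sub_add_cancel]
      exact (Matrix.mulVec_surjective_iff_isUnit.2 ((isUnit_iff_isUnit_det g).2 (by simp [hd]))))
  obtain ⟨P, Q, x, y, R, h3, h4, h5, -⟩ := step hn g V₁ h1 h2
  refine ⟨P, Q, x, y, R, h3, h4, h5, ?_⟩
  rwa [h5, det_conj_of_mul_eq_one h3 h4, det_schur] at hd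

theorem caseA [Fintype F] {n k m : ℕ} (hn : n = k + m) (hkm : k ≤ m) (hk : 0 < k)
    (g : Matrix (Fin n) (Fin n) F) (hd : g.det = 1)
    (hr : ∀ c : F, c ≠ 0 → c ≠ 1 → k ≤ finrank F (LinearMap.range (toLin' g - c • 1)))
    (hc : m * (Fintype.card F - 1) < Fintype.card F ^ k - 1)
    (ih : ∀ h : Matrix (Fin m) (Fin m) F, h.det = 1 → Comm h) : Comm g := by
  obtain ⟨P, Q, x, y, R, h1, h2, h3, h4⟩ := stepk hn hkm g hd hr
  obtain ⟨D₂, hD₂, h5⟩ := ih _ h4
  obtain ⟨D₁, hD₁, h6⟩ := exists_ext k hk D₂.charpoly D₂.charpoly_monic.ne_zero (by simpa using hc)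
  rw [h3]
  exact Comm.conj h1 h2 ⟨_, by rw [det_fromBlocks_zero₂₁, hD₁, hD₂, one_mul],
    coreS x y R D₁ h5 (aeval_self_charpoly D₂) h6⟩

theorem caseB [Fintype F] {n o m : ℕ} (hn : n = o + m) (g : Matrix (Fin n) (Fin n) F)
    (hd : g.det = 1) (c : F) (hc : c ^ o = 1)
    (hr : 2 * finrank F (LinearMap.range (toLin' g - c • 1)) ≤ m)
    (ih : ∀ h : Matrix (Fin m) (Fin m) F, h.det = 1 → Comm h) : Comm g := by
  set M := toLin' g - c • 1 with hM
  obtain ⟨C, hC⟩ := exists_isCompl ((LinearMap.range M).comap (LinearMap.ker M).subtype)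
  have h1 := Submodule.finrank_add_eq_of_isCompl hC
  have h2 := LinearMap.finrank_range_add_finrank_ker M
  have h3 : finrank F ((LinearMap.range M).comap (LinearMap.ker M).subtype)
      ≤ finrank F (LinearMap.range M) := by
    rw [← Submodule.finrank_map_subtype_eq]
    exact Submodule.finrank_mono (Submodule.map_comap_le _ _)
  simp only [finrank_fintype_fun_eq_card, Fintype.card_fin] at h2
  obtain ⟨v, hv⟩ := exists_linearIndependent_of_le_finrank (R := F) (M := C) (n := o) (by omega)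
  let V₁ := ((Submodule.span F (Set.range v)).map C.subtype).map (LinearMap.ker M).subtype
  have h4 : finrank F V₁ = o := by
    rw [Submodule.finrank_map_subtype_eq, Submodule.finrank_map_subtype_eq,
      finrank_span_eq_card hv, Fintype.card_fin]
  obtain ⟨P, Q, R, h5, h6, h7⟩ := split hn g c V₁ h4 (Submodule.map_subtype_le _ _) (by
    rw [Submodule.disjoint_def]
    rintro _ ⟨_, ⟨z, -, rfl⟩, rfl⟩ hz
    have := Submodule.disjoint_def.1 hC.disjoint z.1 hz z.2
    simp [this])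
  rw [h7] at hd ⊢
  rw [det_conj_of_mul_eq_one h5 h6, det_fromBlocks_zero₂₁] at hd
  simp only [det_smul, Fintype.card_fin, hc, det_one, one_mul] at hd
  exact Comm.conj h5 h6 ((comm_scalar o c hc).sum (ih R hd))

theorem exists_vecMulVec {n : ℕ} (g : Matrix (Fin n) (Fin n) F) (c : F)
    (h : finrank F (LinearMap.range (toLin' g - c • 1)) ≤ 1) :
    ∃ a b : Fin n → F, g = c • 1 + vecMulVec a b := by
  obtain ⟨v, hv⟩ := finrank_le_one_iff.1 h
  choose b hb using fun j : Fin n => hv ⟨_, LinearMap.mem_range_self _ (Pi.single j 1)⟩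
  refine ⟨v.1, b, ?_⟩
  ext i j
  have := congrFun (congrArg Subtype.val (hb j)) i
  simp [Pi.single_apply] at this
  simp [vecMulVec_apply, one_apply, mul_comm, this]

end Cfsg.Agent.H30.Ore
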