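import Mathlib.GroupTheory.SpecificGroups.ZGroup
import Cfsg.Agent.H22.QuatPerfect
import Cfsg.Agent.H22.GWGen
import Cfsg.Agent.H18.SmallTools
import Cfsg.Agent.H21.AbSyl
import Cfsg.Agent.H3.PComplement
import Cfsg.Agent.H30.QuatLocal
import Cfsg.Agent.H80.BGroup4
import Cfsg.Agent.H66.PSL2Cent
import Cfsg.Agent.H43.NoTwo
import Cfsg.Agent.S0646
import Cfsg.Agent.S3178

/-! Groups with cyclic Sylow subgroups for all odd primes: generalities. -/

set_option autoImplicit false

open scoped MatrixGroups commutatorElement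

namespace Cfsg.Agent.H30

open Cfsg Subgroup

/-- All `p`-subgroups, `p` odd, are cyclic. -/
def CO (G : Type*) [Group G] : Prop :=
  ∀ p : ℕ, p.Prime → p ≠ 2 → ∀ P : Subgroup G, IsPGroup p P → IsCyclic P

/-- All `2`-subgroups have a cyclic subgroup of index at most `2`. -/
def C2 (G : Type*) [Group G] : Prop :=
  ∀ R : Subgroup G, IsPGroup 2 R → ∃ a ∈ R, Nat.card R ≤ 2 * orderOf a

variable {G K : Type*} [Group G] [Group K]

theorem isCyclic_of_le {A B : Subgroup G} (hB : IsCyclic B) (h : A ≤ B) : IsCyclic A :=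
  isCyclic_of_injective (inclusion h) (inclusion_injective h)

theorem CO.of_sylow (h : ∀ p : ℕ, p.Prime → p ≠ 2 → ∀ P : Sylow p G, IsCyclic P) : CO G := by
  intro p hp h2 P hP
  obtain ⟨Q, hQ⟩ := hP.exists_le_sylow
  exact isCyclic_of_le (h p hp h2 Q) hQ

theorem CO.of_injective (h : CO G) (f : K →* G) (hf : Function.Injective f) : CO K := by
  intro p hp h2 P hP
  have := h p hp h2 (P.map f) (hP.map f)
  exact isCyclic_of_injective (P.equivMapOfInjective f hf).toMonoidHom
    (P.equivMapOfInjective f hf).injective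

theorem CO.sub (h : CO G) (H : Subgroup G) : CO H := h.of_injective H.subtype H.subtype_injective

theorem CO.of_surjective [Finite G] (h : CO G) (f : G →* K) (hf : Function.Surjective f) :
    CO K := by
  have := Finite.of_surjective f hf
  refine CO.of_sylow fun p hp h2 Q => ?_
  have := Fact.mk hp
  obtain ⟨P, rfl⟩ := Sylow.mapSurjective_surjective hf p Q
  have := h p hp h2 P P.2
  exact isCyclic_of_surjective _ (f.subgroupMap_surjective (P : Subgroup G))

theorem C2.of_injective (h : C2 G) (f : K →* G) (hf : Function.Injective f) : C2 K := by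
  intro R hR
  obtain ⟨_, ⟨a, ha, rfl⟩, h1⟩ := h (R.map f) (hR.map f)
  refine ⟨a, ha, ?_⟩
  rwa [card_map_of_injective hf, orderOf_injective f hf] at h1

theorem C2.sub (h : C2 G) (H : Subgroup G) : C2 H := h.of_injective H.subtype H.subtype_injective

theorem C2.of_sylow [Finite G] (S : Sylow 2 G) {a : G} (ha : a ∈ (S : Subgroup G))
    (h : Nat.card (S : Subgroup G) ≤ 2 * orderOf a) : C2 G := by
  intro R hR
  obtain ⟨T, hT⟩ := hR.exists_le_sylow
  obtain ⟨g, rfl⟩ := MulAction.exists_smul_eq G S T
  have hb : g * a * g⁻¹ ∈ ((g • S : Sylow 2 G) : Subgroup G) := by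
    rw [H43.sylow_cj]; exact H42.conj_mem_cj ha
  have hc : Nat.card ((g • S : Sylow 2 G) : Subgroup G) = Nat.card (S : Subgroup G) := by
    rw [Sylow.card_eq_multiplicity, Sylow.card_eq_multiplicity]
  have ho : orderOf (g * a * g⁻¹) = orderOf a := by
    simpa using orderOf_injective (MulAut.conj g).toMonoidHom (MulAut.conj g).injective a
  set b := g * a * g⁻¹
  set T : Subgroup G := ((g • S : Sylow 2 G) : Subgroup G)
  have h1 : (zpowers b).relIndex T * orderOf b = Nat.card T := by
    rw [← Nat.card_zpowers, mul_comm, H42.card_mul_relIndex (zpowers_le.2 hb)]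
  have h2 : (zpowers b).relIndex T ≤ 2 :=
    Nat.le_of_mul_le_mul_right (by rw [h1, hc, ho]; exact h) (orderOf_pos b)
  have h3 : (zpowers b).relIndex R ≤ 2 :=
    (relIndex_le_of_le_right hT index_ne_zero_of_finite).trans h2
  obtain ⟨d, hd⟩ := (Subgroup.isCyclic_iff_exists_zpowers_eq_top _).1
    (isCyclic_of_le (isCyclic_zpowers' b) (inf_le_left : zpowers b ⊓ R ≤ _))
  refine ⟨d, (hd ▸ mem_zpowers d : d ∈ zpowers b ⊓ R).2, ?_⟩
  rw [← Nat.card_zpowers, hd, ← H42.card_mul_relIndex (inf_le_right : zpowers b ⊓ R ≤ R),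
    inf_relIndex_right, mul_comm]
  exact Nat.mul_le_mul_right _ h3

variable [Finite G]

theorem CO.mem_zpowers (h : CO G) {p : ℕ} (hp : p.Prime) (h2 : p ≠ 2) {a b : G}
    (ha : orderOf a = p) (hb : b ^ p = 1) (c : Commute a b) : b ∈ zpowers a := by
  have := Fact.mk hp
  have hA : IsPGroup p (zpowers a) := IsPGroup.of_card (n := 1) (by
    rw [Nat.card_zpowers, ha, pow_one])
  have hd : orderOf b ∣ p := orderOf_dvd_of_pow_eq_one hb
  have hB : IsPGroup p (zpowers b) := IsPGroup.of_card_dvd_pow (n := 1) (by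
    rw [Nat.card_zpowers, pow_one]; exact hd)
  have hR := hA.to_sup_of_normal_right' hB (zpowers_le.2 (centralizer_le_normalizer _
    (mem_centralizer_iff.2 fun y hy => by
      obtain ⟨k, rfl⟩ := hy
      exact (c.symm.zpow_left k).eq)))
  exact le_zpowers_of_card_dvd (h p hp h2 _ hR) le_sup_right (mem_sup_left (Subgroup.mem_zpowers a))
    (by rw [Nat.card_zpowers, ha]; exact hd) (Subgroup.mem_zpowers b)

theorem CO.isZGroup (h : CO G) (ho : Odd (Nat.card G)) : IsZGroup G := by
  refine ⟨fun p hp P => ?_⟩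
  by_cases h2 : p = 2
  · subst h2
    have : Nat.card (P : Subgroup G) = 1 := by
      obtain ⟨n, hn⟩ := P.2.exists_card_eq
      rcases n with _ | n
      · simpa using hn
      · have h3 := card_subgroup_dvd_card (P : Subgroup G)
        rw [hn, pow_succ] at h3
        exact absurd (Dvd.dvd.trans (Dvd.intro_left _ rfl) h3) ho.not_two_dvd_nat
    have := (Nat.card_eq_one_iff_unique.1 this).1
    exact isCyclic_of_subsingleton
  · exact h p hp h2 P P.2

theorem eq_one_of_center_commutator {p : ℕ} [hp : Fact p.Prime] (P : Sylow p G)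
    [IsMulCommutative (P : Subgroup G)] {z : G} (hz : z ∈ center G) (hz' : z ∈ commutator G)
    (hzS : z ∈ (P : Subgroup G)) : z = 1 := by
  let : CommGroup (P : Subgroup G) := IsMulCommutative.instCommGroup
  have h1 := H43.transfer_eq_pow' (MonoidHom.id (P : Subgroup G)) z hzS (fun k a ha => by
    apply Subtype.ext
    change a⁻¹ * z ^ k * a = z ^ k
    rw [mul_assoc, ← mem_center_iff.1 (pow_mem hz k) a, inv_mul_cancel_left])
  have h3 : MonoidHom.transfer (MonoidHom.id (P : Subgroup G)) z = 1 :=
    Abelianization.commutator_subset_ker _ hz'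
  rw [h3] at h1
  have h4 : z ^ (P : Subgroup G).index = 1 := (congrArg Subtype.val h1).symm
  obtain ⟨k, hk⟩ := P.2 ⟨z, hzS⟩
  exact H43.eq_one_of_pow_coprime (Nat.Coprime.pow_left k
    ((Nat.Prime.coprime_iff_not_dvd hp.out).2 P.not_dvd_index)) (congrArg Subtype.val hk) h4

/-- A central element of odd prime order gives a normal complement. -/
theorem CO.hasNormalPComplement (h : CO G) {p : ℕ} [hp : Fact p.Prime] (h2 : p ≠ 2) {w : G}
    (hw : w ∈ center G) (ho : orderOf w = p) : HasNormalPComplement p G := by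
  obtain ⟨P, hP⟩ := (IsPGroup.of_card (n := 1) (G := zpowers w) (by
    rw [Nat.card_zpowers, ho, pow_one])).exists_le_sylow
  have := h p hp.out h2 P P.2
  rcases P.normalizer_le_centralizer_or_le_commutator with h1 | h1
  · exact H3.hasNormalPComplement_of_normalizer_le_centralizer P h1
  · have h3 := eq_one_of_center_commutator P hw (h1 (hP (Subgroup.mem_zpowers w)))
      (hP (Subgroup.mem_zpowers w))
    rw [h3, orderOf_one] at ho
    exact absurd ho.symm hp.out.ne_one

theorem not_dvd_of_perfect (hP : Group.IsPerfect G) {p : ℕ} [hp : Fact p.Prime]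
    (h : HasNormalPComplement p G) : ¬ p ∣ Nat.card G := by
  obtain ⟨N, _, h1, k, h2⟩ := H3.hasNormalPComplement_iff_exists_normal.1 h
  have hQ : IsPGroup p (G ⧸ N) := IsPGroup.of_card h2
  have := hQ.isNilpotent
  have hs : Subsingleton (G ⧸ N) := by
    by_contra hn
    have := not_subsingleton_iff_nontrivial.1 hn
    exact Group.IsPerfect.not_isNilpotent (G ⧸ N) inferInstance
  rw [QuotientGroup.subgroup_eq_top_of_subsingleton N hs, card_top] at h1
  exact (Nat.Prime.coprime_iff_not_dvd hp.out).1 h1.symm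

theorem le_center_of_isZGroup (hP : Group.IsPerfect G) (N : Subgroup G) [N.Normal]
    [IsZGroup N] : N ≤ center G := by
  have hD : IsCyclic (⁅N, N⁆ : Subgroup G) := by
    have := IsZGroup.isCyclic_commutator N
    rw [← map_subtype_commutator]
    exact isCyclic_of_surjective _ (N.subtype.subgroupMap_surjective _)
  have h1 : ⁅(⊤ : Subgroup G), ⁅N, N⁆⁆ = ⊥ := by
    rw [commutator_eq_bot_iff_le_centralizer, ← hP.commutator_eq_top, commutator_def,
      commutator_le]
    exact fun a _ b _ => H80.commutator_mem_centralizer_of_isCyclic hD a b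
  let π := QuotientGroup.mk' (⁅N, N⁆ : Subgroup G)
  have hπ : Function.Surjective π := QuotientGroup.mk'_surjective _
  have : (N.map π).Normal := Normal.map inferInstance π hπ
  have hC : IsCyclic (N.map π) := by
    have : IsMulCommutative (N.map π) := by
      rw [← le_centralizer_iff_isMulCommutative, ← commutator_eq_bot_iff_le_centralizer,
        ← map_commutator, Subgroup.map_eq_bot_iff, QuotientGroup.ker_mk']
    have : IsZGroup (N.map π) := IsZGroup.of_surjective (π.subgroupMap_surjective N)
    let : CommGroup (N.map π) := IsMulCommutative.instCommGroup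
    have : Group.IsNilpotent (N.map π) := CommGroup.isNilpotent
    infer_instance
  have h2 : ⁅(⊤ : Subgroup G), N⁆ ≤ ⁅N, N⁆ := by
    conv_rhs => rw [← QuotientGroup.ker_mk' ⁅N, N⁆]
    rw [← Subgroup.map_eq_bot_iff, map_commutator, map_top_of_surjective π hπ,
      commutator_eq_bot_iff_le_centralizer,
      ← (inferInstance : Group.IsPerfect (G ⧸ ⁅N, N⁆)).commutator_eq_top, commutator_def,
      commutator_le]
    exact fun a _ b _ => H80.commutator_mem_centralizer_of_isCyclic hC a b
  have h3 : ⁅⁅(⊤ : Subgroup G), N⁆, (⊤ : Subgroup G)⁆ = ⊥ := by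
    rw [eq_bot_iff, ← h1, commutator_comm]
    exact commutator_mono le_rfl h2
  have h4 := commutator_commutator_eq_bot_of_rotate (H₁ := ⊤) (H₂ := ⊤) (H₃ := N) h3
    (by rwa [commutator_comm N])
  rw [← commutator_def, hP.commutator_eq_top, commutator_eq_bot_iff_le_centralizer, top_le_iff,
    centralizer_eq_top_iff_subset] at h4
  exact h4

theorem CO.core_eq_bot (h : CO G) (hP : Group.IsPerfect G) : pPrimeCore 2 G = ⊥ := by
  have ho : Odd (Nat.card (pPrimeCore 2 G)) := H8.odd_card_pPrimeCore
  have := (h.sub _).isZGroup ho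
  have hZ := le_center_of_isZGroup hP (pPrimeCore 2 G)
  by_contra hne
  obtain ⟨p, hp, hd⟩ := Nat.exists_prime_and_dvd (mt card_eq_one.1 hne)
  have := Fact.mk hp
  obtain ⟨w, hw⟩ := exists_prime_orderOf_dvd_card' p hd
  have h2 : p ≠ 2 := by
    rintro rfl
    exact ho.not_two_dvd_nat hd
  exact not_dvd_of_perfect hP (h.hasNormalPComplement h2 (hZ w.2) ((orderOf_coe w).trans hw))
    (hd.trans (card_subgroup_dvd_card _))

theorem not_CO_a7 : ¬ CO (alternatingGroup (Fin 7)) := by
  intro h
  have := h.mem_zpowers Nat.prime_three (by decide)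
    (a := ⟨Equiv.swap 0 1 * Equiv.swap 1 2, by rw [Equiv.Perm.mem_alternatingGroup]; decide⟩)
    (b := ⟨Equiv.swap 3 4 * Equiv.swap 4 5, by rw [Equiv.Perm.mem_alternatingGroup]; decide⟩)
    (orderOf_eq_prime (by decide) (by decide)) (by decide) (by unfold Commute SemiconjBy; decide)
  rcases H18.eq_of_mem_zpowers_three (by decide) this with e | e | e <;> revert e <;> decide

theorem CO.card_prime {F : Type*} [Field F] [Fintype F] (hF : Odd (Fintype.card F))
    (h : CO PSL(2, F)) : (Fintype.card F).Prime := by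
  obtain ⟨p, hp⟩ := CharP.exists F
  obtain ⟨n, hpp, hn⟩ := FiniteField.card F p
  have := Fact.mk hpp
  have h2 : p ≠ 2 := by
    rintro rfl
    rw [hn] at hF
    exact (Nat.not_even_iff_odd.2 hF) ((Nat.even_pow' n.ne_zero).2 even_two)
  let f : Multiplicative F →* PSL(2, F) := (H66.toPSL F).comp
    { toFun := fun a => H66.upT a.toAdd
      map_one' := H66.upT_zero
      map_mul' := fun a b => H66.upT_add _ _ }
  have h2' : (2 : F) ≠ 0 := fun e =>
    h2 ((Nat.prime_dvd_prime_iff_eq hpp Nat.prime_two).1 ((CharP.cast_eq_zero_iff F p 2).1 e))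
  have hf : Function.Injective f := by
    rw [injective_iff_map_eq_one]
    intro a ha
    rcases (H66.toPSL_eq_one_iff _).1 ha with e | e
    · simpa [H66.coe_upT] using congrArg (fun g : SL(2, F) => g.1 0 1) e
    · have := congrArg (fun g : SL(2, F) => g.1 0 0) e
      simp only [MonoidHom.coe_mk, OneHom.coe_mk, H66.coe_upT] at this
      simp at this
      exact absurd (by linear_combination this) h2'
  have hT : IsPGroup p (⊤ : Subgroup (Multiplicative F)) := IsPGroup.of_card (n := n) (by
    rw [card_top, Nat.card_eq_fintype_card, Fintype.card_multiplicative, hn])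
  have hc : IsCyclic (Multiplicative F) :=
    isCyclic_of_surjective _ (topEquiv (G := Multiplicative F)).surjective
      (hH := h.of_injective f hf p hpp h2 ⊤ hT)
  obtain ⟨g, hg⟩ := IsCyclic.exists_ofOrder_eq_natCard (α := Multiplicative F)
  have hd : orderOf g ∣ p := orderOf_dvd_of_pow_eq_one (by
    apply Multiplicative.toAdd.injective
    simp)
  rw [hg, Nat.card_eq_fintype_card, Fintype.card_multiplicative] at hd
  rcases (Nat.dvd_prime hpp).1 hd with e | e
  · exact absurd e Fintype.one_lt_card.ne'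
  · rwa [e]

end Cfsg.Agent.H30
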