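import Cfsg.Agent.H30.ZOdd
import Cfsg.Agent.H18.SmallCent
import Cfsg.Agent.H23.PGModel
import Cfsg.Agent.H9.Transport
import Cfsg.Agent.H4.MaxClass

/-! Groups with cyclic Sylow subgroups for all odd primes: perfect groups and the structure
above a normal subgroup `(P)SL₂(p)`. -/

set_option autoImplicit false

open scoped MatrixGroups commutatorElement

namespace Cfsg.Agent.H30

open Cfsg Subgroup

variable {G : Type*} [Group G]

theorem mem_of_pow_coprime {H : Subgroup G} {a : G} {m n : ℕ} (h : m.Coprime n) (hm : a ^ m ∈ H)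
    (hn : a ^ n ∈ H) : a ∈ H := by
  have h1 := Nat.gcd_eq_gcd_ab m n
  rw [h.gcd_eq_one, Nat.cast_one] at h1
  rw [← zpow_one a, h1, zpow_add, zpow_mul, zpow_mul, zpow_natCast, zpow_natCast]
  exact mul_mem (zpow_mem hm _) (zpow_mem hn _)

variable [Finite G]

theorem C2.sylow_cases (h : C2 G) (hP : Group.IsPerfect G) (h2 : Even (Nat.card G))
    (S : Sylow 2 G) : (∃ n, 2 ≤ n ∧ Nonempty ((S : Subgroup G) ≃* DihedralGroup n)) ∨
      (∃ n, Nonempty ((S : Subgroup G) ≃* QuaternionGroup (2 ^ (n + 1)))) ∨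
      IsQuasiDihedral (S : Subgroup G) := by
  have hnc := H22.not_isCyclic_sylow_two hP h2 S
  obtain ⟨n, hn⟩ := S.2.exists_card_eq
  by_cases h3 : n ≤ 2
  · refine (H18.two_group_cases S.2 1 ((card_le_card_group _).trans ?_)).resolve_left hnc
    rw [hn]
    exact Nat.pow_le_pow_right two_pos h3
  obtain ⟨n, rfl⟩ := Nat.exists_eq_add_of_le' (show 3 ≤ n by omega)
  obtain ⟨a₀, ha₀, hle⟩ := h S S.2
  let a : (S : Subgroup G) := ⟨a₀, ha₀⟩
  have hoa : orderOf a = orderOf a₀ := (orderOf_coe a).symm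
  have hi : (zpowers a).index = 2 := by
    have h1 := card_mul_index (zpowers a)
    rw [Nat.card_zpowers, hoa] at h1
    have h4 : (zpowers a).index ≠ 1 := fun e =>
      hnc (isCyclic_iff_exists_zpowers_eq_top.2 ⟨a, index_eq_one.1 e⟩)
    have h5 : (zpowers a).index ≠ 0 := index_ne_zero_of_finite
    have h6 : (zpowers a).index ≤ 2 :=
      Nat.le_of_mul_le_mul_left (by rw [h1, mul_comm]; exact hle) (orderOf_pos a₀)
    omega
  by_cases hab : ∃ x y : (S : Subgroup G), x * y ≠ y * x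
  · obtain ⟨c, b, hc, hb, hrel⟩ := S0646.result (n + 3) (by omega) hn (zpowers a)
      (isCyclic_zpowers' a) hi hab
    simp only [show n + 3 - 1 = n + 2 from rfl,
      show n + 3 - 2 = n + 1 from rfl] at hc hrel
    have hi' : (zpowers c).index = 2 := by
      have h1 := card_mul_index (zpowers c)
      rw [Nat.card_zpowers, hc, hn, pow_succ 2 (n + 2)] at h1
      exact Nat.eq_of_mul_eq_mul_left (by positivity) h1
    have htop := H4.sup_zpowers_eq_top_of_index_prime (by rw [hi']; exact Nat.prime_two) hb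
    have hb1 : b ≠ 1 := fun e => hb (e ▸ one_mem _)
    rcases hrel with ⟨h4, h5⟩ | ⟨h4, h5⟩ | ⟨h6, h4, h5⟩ | ⟨h6, h4, h5⟩
    · obtain ⟨e⟩ := H42.dihedral_recog (by positivity) hc (by rwa [← pow_two]) h5 hb
      exact Or.inl ⟨_, (by norm_num : 2 ≤ 2 ^ 1).trans (Nat.pow_le_pow_right two_pos (by omega)),
        ⟨(topEquiv.symm.trans (MulEquiv.subgroupCongr htop.symm)).trans e⟩⟩
    · obtain ⟨e⟩ := H42.quaternion_recog (n := 2 ^ (n + 1)) (by positivity)
        (by rw [hc, pow_succ' 2 (n + 1)]) (by rwa [← pow_two]) h5 hb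
      exact Or.inr (Or.inl
        ⟨n, ⟨(topEquiv.symm.trans (MulEquiv.subgroupCongr htop.symm)).trans e⟩⟩)
    · refine absurd h2.two_dvd (not_dvd_of_perfect hP (S3178.result S (n + 2) (by omega) hn c b c.2
        b.2 ((orderOf_coe c).trans hc) ((orderOf_coe b).trans (orderOf_eq_prime h4 hb1)) ?_))
      rw [show n + 2 - 1 = n + 1 from rfl, add_comm]
      exact congrArg Subtype.val h5
    · exact Or.inr (Or.inr ⟨n + 2, by omega, hn, c, b, hc, orderOf_eq_prime h4 hb1, h5⟩)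
  · exfalso
    push Not at hab
    have ho : orderOf a₀ = 2 ^ (n + 2) := by
      have h1 := card_mul_index (zpowers a)
      rw [Nat.card_zpowers, hoa, hi, hn, pow_succ 2 (n + 2)] at h1
      exact Nat.eq_of_mul_eq_mul_right two_pos h1
    have hw := H4.orderOf_pow_half ho
    have h1 := H36.eq_one_of_centralizes_normalizer hP.commutator_eq_top S
      (fun x hx y hy => congrArg Subtype.val (hab ⟨x, hx⟩ ⟨y, hy⟩))
      (pow_mem ha₀ (2 ^ (n + 1))) fun g hg => by
        have hb : g * a₀ * g⁻¹ ∈ (S : Subgroup G) := H42.conj_mem_of_mem_normalizer hg ha₀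
        obtain ⟨i, hi⟩ := sq_mem_of_index_two hi ⟨_, hb⟩
        have h4 : g * a₀ ^ 2 ^ (n + 1) * g⁻¹ ∈ zpowers a₀ := by
          rw [← conj_pow, pow_succ', pow_mul]
          exact pow_mem (mem_zpowers_iff.2 ⟨i, congrArg Subtype.val hi⟩) _
        refine mul_inv_eq_iff_eq_mul.1 (H4.eq_pow_half ho h4 ?_)
        exact (orderOf_injective (MulAut.conj g).toMonoidHom (MulAut.conj g).injective _).trans hw
    rw [h1, orderOf_one] at hw
    omega

theorem perfect_cases (hP : Group.IsPerfect G) [Nontrivial G] (h : CO G) (h2 : C2 G) :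
    (∃ S : Sylow 2 G, IsQuasiDihedral (S : Subgroup G)) ∨ ∃ (p : ℕ) (_ : Fact p.Prime), 5 ≤ p ∧
      (Nonempty (G ≃* PSL(2, ZMod p)) ∨ Nonempty (G ≃* SL(2, ZMod p))) := by
  have hO := h.core_eq_bot hP
  have he : Even (Nat.card G) := by
    by_contra hn
    have := h.isZGroup (Nat.not_even_iff_odd.1 hn)
    exact Group.IsPerfect.not_isSolvable G inferInstance
  have key : ∀ (F : Type) [Field F] [Fintype F], Odd (Fintype.card F) → 3 < Fintype.card F →
      CO PSL(2, F) → ∃ (p : ℕ) (_ : Fact p.Prime), 5 ≤ p ∧ Nonempty (F ≃+* ZMod p) := by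
    intro F _ _ ho h3 hc
    have hp := Fact.mk (hc.card_prime ho)
    refine ⟨_, hp, ?_, ⟨FiniteField.ringEquivOfCardEq (ZMod.card _).symm⟩⟩
    rw [Nat.odd_iff] at ho
    omega
  obtain ⟨S⟩ : Nonempty (Sylow 2 G) := inferInstance
  rcases h2.sylow_cases hP he S with ⟨n, hn, e⟩ | ⟨n, ⟨e⟩⟩ | hS
  · rcases H22.gw_of_core_eq_bot hP hO S hn e with ⟨F, _, _, ho, h3, ⟨e⟩⟩ | ⟨⟨e⟩⟩
    · obtain ⟨p, hp, h5, ⟨f⟩⟩ := key F ho h3 (h.of_surjective e.toMonoidHom e.surjective)
      exact Or.inr ⟨p, hp, h5, Or.inl ⟨e.trans (H9.pslMapEquiv f)⟩⟩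
    · exact absurd (h.of_surjective e.toMonoidHom e.surjective) not_CO_a7
  · rcases H22.perfect_quaternion hP hO S e with ⟨F, _, _, ho, h3, ⟨e⟩⟩ | ⟨-, ⟨e⟩, -⟩
    · obtain ⟨p, hp, h5, ⟨f⟩⟩ := key F ho h3 ((h.of_surjective e.toMonoidHom
        e.surjective).of_surjective _ H66.toPSL_surjective)
      exact Or.inr ⟨p, hp, h5, Or.inr ⟨e.trans (H9.slMapEquiv f)⟩⟩
    · exact absurd ((h.of_surjective _ (QuotientGroup.mk'_surjective _)).of_surjective
        e.toMonoidHom e.surjective) not_CO_a7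
  · exact Or.inl ⟨S, hS⟩

omit [Finite G] in
theorem exists_psi {Γ : Type*} [Group Γ] (E : Subgroup G) [E.Normal] (hE : ⁅E, E⁆ = E)
    (π : E →* Γ) (hπ : Function.Surjective π) (hk : π.ker = center E) :
    ∃ ψ : G →* MulAut Γ, ψ.ker = centralizer (E : Set G) ∧
      E.map ψ = (MulAut.conj : Γ →* MulAut Γ).range := by
  let C := centralizer (E : Set G)
  let f := QuotientGroup.mk' C
  have hf : Function.Surjective f := QuotientGroup.mk'_surjective C
  have : (E.map f).Normal := Normal.map inferInstance f hf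
  have hk' : (f.subgroupMap E).ker = center E := by
    ext e
    rw [MonoidHom.mem_ker, Subtype.ext_iff, mem_center_iff]
    change f e = 1 ↔ _
    rw [QuotientGroup.mk'_apply, QuotientGroup.eq_one_iff, mem_centralizer_iff]
    exact ⟨fun h g => Subtype.ext (h g g.2), fun h g hg => congrArg Subtype.val (h ⟨g, hg⟩)⟩
  let e : E.map f ≃* Γ := (H9.quotCenterEquivOfSurj _ (f.subgroupMap_surjective E) hk').symm.trans
    (H9.quotCenterEquivOfSurj π hπ hk)
  have hC : centralizer (E.map f : Set (G ⧸ C)) = ⊥ := by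
    set D := (centralizer (E.map f : Set (G ⧸ C))).comap f with hD
    have h1 : ⁅⁅D, E⁆, E⁆ = ⊥ := by
      rw [commutator_eq_bot_iff_le_centralizer]
      change _ ≤ C
      rw [← QuotientGroup.ker_mk' C, ← Subgroup.map_eq_bot_iff, map_commutator,
        map_comap_eq_self_of_surjective hf, commutator_eq_bot_iff_le_centralizer]
    have h2 := commutator_commutator_eq_bot_of_rotate (H₁ := E) (H₂ := E) (H₃ := D)
      (by rwa [commutator_comm E D]) h1
    rw [hE, commutator_comm, commutator_eq_bot_iff_le_centralizer] at h2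
    rw [← map_comap_eq_self_of_surjective hf (centralizer _), Subgroup.map_eq_bot_iff,
      QuotientGroup.ker_mk']
    exact h2
  obtain ⟨φ, hφ, -, h3⟩ := H22.exists_aut_embedding (E.map f) hC e
  refine ⟨φ.comp f, ?_, by rw [← map_map, h3]⟩
  rw [← MonoidHom.comap_ker, (MonoidHom.ker_eq_bot_iff φ).2 hφ, MonoidHom.comap_bot,
    QuotientGroup.ker_mk']

theorem exists_pg_prime (p : ℕ) [hp : Fact p.Prime] (h5 : 5 ≤ p) : ∃ tor τ m, τ + m = p ∧
    H23.PG (MulAut.conj : PSL(2, ZMod p) →* _).range ⊤ tor τ m p := by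
  obtain ⟨τ, m, r, h1, h⟩ := H23.Pgl.exists_pg (ZMod p)
    (by rw [Nat.card_zmod]; exact hp.out.odd_of_ne_two (by omega)) (by rw [Nat.card_zmod]; omega)
  rw [Nat.card_zmod] at h1
  have h2 : (H23.Pgl.iota (ZMod p)).range = ⊤ := eq_top_iff.2 fun γ _ => by
    obtain ⟨g, σ, rfl⟩ := H23.Pgl.exists_eq_iota γ
    rw [Subsingleton.elim σ 1, map_one, mul_one]
    exact ⟨g, rfl⟩
  obtain ⟨f, hf⟩ := h.q_pow
  rw [h1] at hf
  obtain rfl : r = p := ((Nat.Prime.pow_eq_iff hp.out).1 hf.symm).1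
  exact ⟨_, τ, m, h1, h2 ▸ h⟩

/-- The structure above a normal subgroup `E` with `E / Z(E) ≅ L`. -/
structure ZS {Γ : Type*} [Group Γ] (E X : Subgroup G) (ψ : G →* Γ) (L : Subgroup Γ) : Prop where
  ker : ψ.ker = centralizer (E : Set G)
  map : E.map ψ = L
  mem_X : ∀ x, x ∈ X ↔ x ∈ centralizer (E : Set G) ∧ Odd (orderOf x)
  two : ∀ u ∈ centralizer (E : Set G), ∀ j : ℕ, u ^ 2 ^ j = 1 → u ∈ E
  inf : X ⊓ E = ⊥
  cop : (Nat.card X).Coprime (Nat.card E)

theorem exists_ZS {Γ : Type*} [Group Γ] [Finite Γ] {L P : Subgroup Γ} {tor : Γ → Subgroup Γ}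
    {τ m p : ℕ} (hPG : H23.PG L P tor τ m p) (h : CO G) (h2 : C2 G) {E : Subgroup G} [E.Normal]
    (hE : ⁅E, E⁆ = E) {ψ : G →* Γ} (hk : ψ.ker = centralizer (E : Set G)) (hm : E.map ψ = L) :
    ∃ X : Subgroup G, X.Normal ∧ ZS E X ψ L := by
  set C := centralizer (E : Set G) with hC
  have hodd : ∀ x ∈ E, x ∈ C → Odd (orderOf x) → x = 1 := fun x hx hc ho => by
    have h1 : (⟨x, hx⟩ : E) ∈ center E := mem_center_iff.2 fun g => Subtype.ext (hc g g.2)
    have h3 := H8.le_pPrimeCore_two (H8.normal_zpowers_of_central h1)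
      (by rwa [Nat.card_zpowers, ← orderOf_coe]) (mem_zpowers _)
    rw [(h.sub E).core_eq_bot (H22.isPerfect_of_commutator_eq hE)] at h3
    exact congrArg Subtype.val (mem_bot.1 h3)
  have hZ : IsPGroup 2 (E ⊓ C : Subgroup G) := fun x => by
    obtain ⟨j, o, ho, e⟩ := Nat.exists_eq_two_pow_mul_odd (orderOf_pos (x : G)).ne'
    refine ⟨j, Subtype.ext (hodd _ (pow_mem x.2.1 _) (pow_mem x.2.2 _) ?_)⟩
    refine ho.of_dvd_nat (orderOf_dvd_of_pow_eq_one ?_)
    rw [coe_pow, ← pow_mul, ← e, pow_orderOf_eq_one]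
  have htwo : ∀ j : ℕ, ∀ u ∈ C, u ^ 2 ^ j = 1 → u ∈ E := by
    intro j
    induction j with
    | zero => intro u _ hu; rw [pow_zero, pow_one] at hu; exact hu ▸ one_mem E
    | succ j ih =>
      intro u hu hj
      have hu2 : u ^ 2 ∈ E := ih _ (pow_mem hu 2) (by rwa [← pow_mul, ← pow_succ'])
      by_contra huE
      obtain ⟨t, ht⟩ := exists_prime_orderOf_dvd_card' (G := L) 2
        (by rw [hPG.card_L]; exact ⟨τ * m * (τ + m), by ring⟩)
      have t2 : (t : Γ) * t = 1 := H18.mul_self_of_orderOf ((orderOf_coe t).trans ht)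
      have t1 : (t : Γ) ≠ 1 := fun e => by
        rw [← orderOf_coe, e, orderOf_one] at ht
        omega
      obtain ⟨s, hs, s2, s1, st, c⟩ := hPG.exists_inv_ne (hPG.L_le t.2) t2 t1
      have hV := H43.isKleinFour_sup t2 s2 t1
        (fun e => ((H42.mem_zpowers_of_mul_self t2).1 e).elim s1 st) c.symm
      set V := zpowers (t : Γ) ⊔ zpowers s
      have hVL : V ≤ L := sup_le (zpowers_le.2 t.2) (zpowers_le.2 hs)
      set Q := E ⊓ V.comap ψ with hQ
      set ζ := Nat.card (E ⊓ C : Subgroup G) with hζ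
      have hpow : ∀ q ∈ E, q ^ 2 ∈ C → q ^ (2 * ζ) = 1 := fun q hq hq2 => by
        rw [pow_mul]
        exact congrArg Subtype.val
          (pow_card_eq_one' (x := (⟨q ^ 2, pow_mem hq 2, hq2⟩ : (E ⊓ C : Subgroup G))))
      have hcQ : Nat.card Q = ζ * 4 := by
        have h3 : Q.map ψ = V := by
          refine le_antisymm (map_le_iff_le_comap.2 inf_le_right) fun v hv => ?_
          obtain ⟨x, hx, rfl⟩ := (hm ▸ hVL hv : v ∈ E.map ψ)
          exact ⟨x, ⟨hx, hv⟩, rfl⟩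
        have h4 : ψ.ker ⊓ Q = E ⊓ C := by
          rw [hk, hQ, ← inf_assoc, inf_comm C E, inf_eq_left]
          intro x hx
          rw [mem_comap, (hk ▸ hx.2 : x ∈ ψ.ker)]
          exact one_mem V
        rw [← H42.card_mul_relIndex (inf_le_right : ψ.ker ⊓ Q ≤ Q), inf_relIndex_right,
          relIndex_ker, h3, h4, hV.card_four]
      have hcom : ∀ (q : Q) (v : zpowers u), Commute (Q.subtype q) ((zpowers u).subtype v) :=
        fun q v => zpowers_le.2 hu v.2 q q.2.1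
      let R := (MonoidHom.noncommCoprod Q.subtype (zpowers u).subtype hcom).range
      have hR : ∀ r ∈ R, r ^ (2 * ζ) = 1 := by
        rintro _ ⟨⟨q, v⟩, rfl⟩
        rw [MonoidHom.noncommCoprod_apply, (hcom q v).mul_pow]
        obtain ⟨i, hi⟩ := mem_zpowers_iff.1 v.2
        have h3 : u ^ (2 * ζ) = 1 := by
          rw [pow_mul]
          exact congrArg Subtype.val
            (pow_card_eq_one' (x := (⟨u ^ 2, hu2, pow_mem hu 2⟩ : (E ⊓ C : Subgroup G))))
        rw [coe_subtype, coe_subtype, hpow _ q.2.1 (hk ▸ ?_), one_mul, ← hi, ← zpow_natCast,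
          ← zpow_mul, mul_comm, zpow_mul, zpow_natCast, h3, one_zpow]
        rw [MonoidHom.mem_ker, map_pow, pow_two]
        exact H42.klein_mul_self hV q.2.2
      obtain ⟨i, hi⟩ := hZ.exists_card_eq
      have hR2 : IsPGroup 2 R := fun r => ⟨i + 1, Subtype.ext (by
        rw [pow_succ', ← hi]; exact hR r r.2)⟩
      have hlt : Q < R := by
        refine lt_of_le_of_ne (fun q hq => ⟨(⟨q, hq⟩, 1), by simp⟩) fun e => huE ?_
        have : u ∈ R := ⟨(1, ⟨u, mem_zpowers u⟩), by simp⟩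
        exact (e ▸ this : u ∈ Q).1
      obtain ⟨a, ha, h3⟩ := h2 R hR2
      have h4 := H4.mul_card_le_of_lt hR2 hlt
      have hζ0 : 0 < ζ := Nat.card_pos
      have h5 := orderOf_le_of_pow_eq_one (by omega) (hR a ha)
      omega
  have hN : HasNormalPComplement 2 C := by
    obtain ⟨P⟩ : Nonempty (Sylow 2 C) := inferInstance
    refine H3.hasNormalPComplement_of_normalizer_le_centralizer P fun c _ => ?_
    refine mem_centralizer_iff.2 fun x hx => Subtype.ext ?_
    obtain ⟨j, hj⟩ := P.2 ⟨x, hx⟩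
    exact c.2 _ (htwo j x x.2 (congrArg (fun y : (P : Subgroup C) => ((y : C) : G)) hj))
  have hX : ∀ x, x ∈ (pResidual 2 C).map C.subtype ↔ x ∈ C ∧ Odd (orderOf x) := fun x => by
    constructor
    · rintro ⟨y, hy, rfl⟩
      refine ⟨y.2, ?_⟩
      rw [coe_subtype, orderOf_coe, ← Nat.coprime_two_right]
      exact (H3.mem_pResidual_iff_of_hasNormalPComplement hN y).1 hy
    · rintro ⟨h3, h4⟩
      refine ⟨⟨x, h3⟩, (H3.mem_pResidual_iff_of_hasNormalPComplement hN _).2 ?_, rfl⟩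
      rwa [← orderOf_coe, Nat.coprime_two_right]
  refine ⟨_, ⟨fun x hx g => (hX _).2 ⟨Normal.conj_mem inferInstance _ ((hX x).1 hx).1 g, ?_⟩⟩,
    hk, hm, hX, fun u hu j => htwo j u hu, eq_bot_iff.2 fun x hx =>
      hodd x hx.2 ((hX x).1 hx.1).1 ((hX x).1 hx.1).2, ?_⟩
  · have := orderOf_injective (MulAut.conj g).toMonoidHom (MulAut.conj g).injective x
    exact this ▸ ((hX x).1 hx).2
  · refine Nat.coprime_of_dvd fun r hr h3 h4 => ?_
    have := Fact.mk hr
    obtain ⟨a, ha⟩ := exists_prime_orderOf_dvd_card' r h3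
    obtain ⟨b, hb⟩ := exists_prime_orderOf_dvd_card' r h4
    obtain ⟨h5, h6⟩ := (hX a).1 a.2
    rw [← orderOf_coe] at ha hb
    have h7 : r ≠ 2 := by
      rintro rfl
      rw [ha] at h6
      exact absurd h6 (by decide)
    have h8 := h.mem_zpowers hr h7 ha (b := b) (hb ▸ pow_orderOf_eq_one _) (h5 b b.2).symm
    have h9 := hodd b b.2 (zpowers_le.2 h5 h8) (hb ▸ hr.odd_of_ne_two h7)
    rw [h9, orderOf_one] at hb
    exact hr.ne_one hb.symm

namespace ZS

variable {Γ : Type*} [Group Γ] {E X : Subgroup G} {ψ : G →* Γ} {L : Subgroup Γ} (h : ZS E X ψ L)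
include h

omit [Finite G] in
theorem X_le : X ≤ centralizer (E : Set G) := fun x hx => ((h.mem_X x).1 hx).1

theorem odd_X : Odd (Nat.card X) :=
  Nat.coprime_two_right.1 ((H3.coprime_card_subgroup_iff X).2 fun g hg =>
    Nat.coprime_two_right.2 ((h.mem_X g).1 hg).2)

theorem cent_le : centralizer (E : Set G) ≤ X ⊔ E := fun c hc => by
  obtain ⟨j, o, ho, e⟩ := Nat.exists_eq_two_pow_mul_odd (orderOf_pos c).ne'
  refine mem_of_pow_coprime (Nat.Coprime.pow_left j (Nat.coprime_two_left.2 ho))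
    (mem_sup_left ((h.mem_X _).2 ⟨pow_mem hc _, ho.of_dvd_nat (orderOf_dvd_of_pow_eq_one ?_)⟩))
    (mem_sup_right (h.two _ (pow_mem hc _) j ?_))
  · rw [← pow_mul, ← e, pow_orderOf_eq_one]
  · rw [← pow_mul, mul_comm, ← e, pow_orderOf_eq_one]

theorem comap : L.comap ψ = X ⊔ E := by
  rw [← h.map, comap_map_eq, h.ker]
  exact le_antisymm (sup_le le_sup_right h.cent_le)
    (sup_le (h.X_le.trans le_sup_right) le_sup_left)

theorem index_dvd [L.Normal] : (X ⊔ E).index ∣ L.index := by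
  rw [← h.comap, index_comap]
  exact relIndex_dvd_index_of_normal L _

theorem card_sup [E.Normal] : Nat.card (X ⊔ E : Subgroup G) = Nat.card X * Nat.card E := by
  rw [← H18.card_sup_of_le_normalizer (A := X) (B := E) (normalizer_eq_top E ▸ le_top), h.inf,
    card_bot, mul_one]

omit [Finite G] in
theorem mem_E [E.Normal] {g : G} (hg : g ∈ X ⊔ E) {n : ℕ} (hn : g ^ n = 1)
    (hc : n.Coprime (Nat.card X)) : g ∈ E := by
  obtain ⟨x, hx, e, he, rfl⟩ := mem_sup_of_normal_right.1 hg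
  refine mem_of_pow_coprime hc (hn ▸ one_mem E) ?_
  rw [Commute.mul_pow (h.X_le hx e he).symm,
    show x ^ Nat.card X = 1 from congrArg Subtype.val (pow_card_eq_one' (x := (⟨x, hx⟩ : X))),
    one_mul]
  exact pow_mem he _

omit [Finite G] in
theorem mem_X' [E.Normal] {g : G} (hg : g ∈ X ⊔ E) {n : ℕ} (hn : g ^ n = 1)
    (hc : n.Coprime (Nat.card E)) : g ∈ X := by
  obtain ⟨x, hx, e, he, rfl⟩ := mem_sup_of_normal_right.1 hg
  refine mem_of_pow_coprime hc (hn ▸ one_mem X) ?_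
  rw [Commute.mul_pow (h.X_le hx e he).symm,
    show e ^ Nat.card E = 1 from congrArg Subtype.val (pow_card_eq_one' (x := (⟨e, he⟩ : E))),
    mul_one]
  exact pow_mem hx _

end ZS

/-- The structure theorem above a normal `(P)SL₂(p)`. -/
theorem exists_ZS_of_equiv (h : CO G) (h2 : C2 G) {E : Subgroup G} [E.Normal] (hE : ⁅E, E⁆ = E)
    {p : ℕ} [Fact p.Prime] (h5 : 5 ≤ p)
    (e : Nonempty (E ≃* PSL(2, ZMod p)) ∨ Nonempty (E ≃* SL(2, ZMod p))) :
    ∃ (L : Subgroup (MulAut PSL(2, ZMod p))) (tor : _) (τ m : ℕ) (ψ : G →* _) (X : Subgroup G),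
      τ + m = p ∧ H23.PG L ⊤ tor τ m p ∧ X.Normal ∧ ZS E X ψ L := by
  obtain ⟨tor, τ, m, h1, hPG⟩ := exists_pg_prime p h5
  obtain ⟨π, hπ, hk⟩ : ∃ π : E →* PSL(2, ZMod p), Function.Surjective π ∧ π.ker = center E := by
    rcases e with ⟨⟨e⟩⟩ | ⟨⟨e⟩⟩
    · refine ⟨e.toMonoidHom, e.surjective, ?_⟩
      rw [(MonoidHom.ker_eq_bot_iff _).2 e.injective, eq_comm,
        ← Subgroup.map_eq_bot_iff_of_injective _ (f := (e : E →* PSL(2, ZMod p))) e.injective,
        H9.map_center_eq]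
      have := H22.sl2_perfect (F := ZMod p) (by rw [ZMod.card]; omega)
      exact Group.IsPerfect.center_quotient_center_eq_bot _
    · refine ⟨(H66.toPSL _).comp e.toMonoidHom, H66.toPSL_surjective.comp e.surjective, ?_⟩
      rw [← MonoidHom.comap_ker, H66.toPSL, QuotientGroup.ker_mk', ← H9.map_center_eq e]
      exact comap_map_eq_self_of_injective e.injective _
  obtain ⟨ψ, h3, h4⟩ := exists_psi E hE π hπ hk
  obtain ⟨X, h6, h7⟩ := exists_ZS hPG h h2 hE h3 h4
  exact ⟨_, tor, τ, m, ψ, X, h1, hPG, h6, h7⟩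

end Cfsg.Agent.H30
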