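import Cfsg.Agent.H30.ZOdd2
import Cfsg.Agent.H30.ABGQD1
import Cfsg.Agent.H42.RankTwo

/-! Local analysis for Wong's theorem. -/

set_option autoImplicit false

open scoped MatrixGroups commutatorElement

namespace Cfsg.Agent.H30

open Cfsg Subgroup H42

variable {G : Type*} [Group G] [Finite G]

omit [Finite G] in
theorem CO.le_cent (h : CO G) {r : ℕ} [hr : Fact r.Prime] (h2 : r ≠ 2) {w : G} (P : Sylow r G)
    (hw : w ∈ (P : Subgroup G)) : (P : Subgroup G) ≤ centralizer {w} := fun c hc => by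
  have := h r hr.out h2 P P.2
  exact mem_centralizer_singleton_iff.2
    (congrArg Subtype.val (mul_comm' (⟨c, hc⟩ : (P : Subgroup G)) ⟨w, hw⟩))

/-- If `z` is the only involution of `C(z) ∩ C(w)` then Sylow 2-normalisers of `C(w)` through `z`
centralise `z`. -/
theorem normalizer_le_cent {z : G} (hz : orderOf z = 2)
    (hu : ∀ u : G, u * u = 1 → u * z = z * u → u = 1 ∨ u = z) (S : Sylow 2 G)
    (hS : z ∈ (S : Subgroup G)) : normalizer (S : Set G) ≤ centralizer {z} := by
  have z1 : z ≠ 1 := fun e => by rw [e, orderOf_one] at hz; omega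
  have : Nontrivial (S : Subgroup G) := ⟨⟨⟨z, hS⟩, 1, fun e => z1 (congrArg Subtype.val e)⟩⟩
  obtain ⟨u, h1, h2, h3⟩ := exists_central_involution S.2
  have h4 : (u : G) = z := (hu u (congrArg Subtype.val h3)
    (congrArg Subtype.val (mem_center_iff.1 h1 ⟨z, hS⟩)).symm).resolve_left
      fun e => h2 (Subtype.ext e)
  intro n hn
  have h5 : n * z * n⁻¹ ∈ (S : Subgroup G) := H42.conj_mem_of_mem_normalizer hn hS
  refine mem_centralizer_singleton_iff.2 (mul_inv_eq_iff_eq_mul.1 ((hu _ ?_ ?_).resolve_left ?_))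
  · rw [conj_mul, H18.mul_self_of_orderOf hz, mul_one, mul_inv_cancel]
  · have := congrArg Subtype.val (mem_center_iff.1 h1 ⟨_, h5⟩)
    rwa [coe_mul, coe_mul, h4] at this
  · simpa using z1

theorem CO.not_dvd_index (h : CO G) {r : ℕ} [hr : Fact r.Prime] (h2 : r ≠ 2) {z w : G}
    (hz : orderOf z = 2) (hw : orderOf w = r) (c : z * w = w * z)
    (hu : ∀ u : G, u * u = 1 → u * w = w * u → u * z = z * u → u = 1 ∨ u = z) :
    ¬ r ∣ (centralizer ({z} : Set G)).index := by
  set C := centralizer ({w} : Set G)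
  let z' : C := ⟨z, mem_centralizer_singleton_iff.2 c⟩
  have hz' : orderOf z' = 2 := (orderOf_coe z').symm.trans hz
  have hN := (h.sub C).hasNormalPComplement h2 (w := ⟨w, mem_centralizer_singleton_iff.2 rfl⟩)
    (mem_center_iff.2 fun g => Subtype.ext (mem_centralizer_singleton_iff.1 g.2))
    ((orderOf_coe _).symm.trans hw)
  obtain ⟨N, _, h3, j, h4⟩ := H3.hasNormalPComplement_iff_exists_normal.1 hN
  obtain ⟨S, hS⟩ := (IsPGroup.of_card (n := 1) (G := zpowers z') (by
    rw [Nat.card_zpowers, hz', pow_one])).exists_le_sylow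
  have hSN : (S : Subgroup C) ≤ N := fun s hs => by
    obtain ⟨i, hi⟩ := S.2 ⟨s, hs⟩
    refine mem_of_pow_coprime (m := 2 ^ i) (n := N.index) ?_
      (by rw [show s ^ 2 ^ i = 1 from congrArg Subtype.val hi]; exact one_mem N)
      (pow_index_mem N s)
    rw [h4]
    exact Nat.Coprime.pow _ _ ((Nat.coprime_primes Nat.prime_two hr.out).2 h2.symm)
  have h5 := normalizer_le_cent hz' (fun u h6 h7 => (hu u (congrArg Subtype.val h6)
    (mem_centralizer_singleton_iff.1 u.2) (congrArg Subtype.val h7)).imp Subtype.ext Subtype.ext)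
    S (hS (Subgroup.mem_zpowers _))
  set A := (centralizer ({z} : Set G)).subgroupOf C with hA
  have h6 : A ⊔ N = ⊤ := by
    rw [eq_top_iff, ← S.normalizer_sup_eq_top' hSN]
    refine sup_le_sup_right (h5.trans fun g hg => ?_) _
    exact mem_centralizer_singleton_iff.2
      (congrArg Subtype.val (mem_centralizer_singleton_iff.1 hg))
  have h7 : A.index ∣ Nat.card N := by
    have h8 := H18.card_sup_of_le_normalizer (A := A) (B := N) (normalizer_eq_top N ▸ le_top)
    rw [h6, card_top, ← card_mul_index A, mul_assoc] at h8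
    exact ⟨_, (Nat.eq_of_mul_eq_mul_left Nat.card_pos h8).symm⟩
  obtain ⟨P, hP⟩ := (IsPGroup.of_card (n := 1) (G := zpowers w) (by
    rw [Nat.card_zpowers, hw, pow_one])).exists_le_sylow
  intro hd
  have h8 := hd.trans (index_dvd_of_le (inf_le_left : centralizer ({z} : Set G) ⊓ C ≤ _))
  rw [← relIndex_mul_index (inf_le_right : centralizer ({z} : Set G) ⊓ C ≤ C),
    inf_relIndex_right] at h8
  rcases (Nat.Prime.dvd_mul hr.out).1 h8 with h9 | h9
  · exact (Nat.Prime.coprime_iff_not_dvd hr.out).1 h3.symm (h9.trans h7)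
  · exact P.not_dvd_index
      (h9.trans (index_dvd_of_le (h.le_cent h2 P (hP (Subgroup.mem_zpowers w)))))

variable {S : Sylow 2 G} {k : ℕ} {x y : G} (h : QD (S : Subgroup G) k x y)
include h

theorem qd_C2 : C2 G := C2.of_sylow S h.hx (by rw [h.card, h.ordx, pow_succ' 2 (k + 3)])

omit [Finite G] in
theorem qd_y_ne_z : y ≠ qz k x := fun e => h.y_notMem (e ▸ QD.z_mem)

theorem qd_inv_cent {w t : G} (ht : t ∈ centralizer {qz k x}) (t2 : orderOf t = 2)
    (tz : t ≠ qz k x) (hw : w ∈ centralizer {qz k x})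
    (hd : ¬ orderOf w ∣ Nat.card ↥(centralizer {qz k x} ⊓ centralizer {t} : Subgroup G))
    (u : G) (u2 : u * u = 1) (c1 : u * w = w * u) (c2 : u * qz k x = qz k x * u) :
    u = 1 ∨ u = qz k x := by
  by_contra hn
  push Not at hn
  have hS : (S : Subgroup G) ≤ centralizer {qz k x} := fun s hs =>
    mem_centralizer_singleton_iff.2 (h.z_comm hs)
  have h' : QD ((S.subtype hS : Sylow 2 _) : Subgroup (centralizer ({qz k x} : Set G))) k _ _ :=
    H43.QD.sub h hS
  obtain ⟨g, hg⟩ := isConj_iff.1 (qd_inv_conj h'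
    (fun g => Subtype.ext (mem_centralizer_singleton_iff.1 g.2))
    (s := ⟨u, mem_centralizer_singleton_iff.2 c2⟩) (t := ⟨t, ht⟩)
    ((orderOf_coe _).symm.trans (H18.orderOf_eq_two' u2 hn.1)) ((orderOf_coe _).symm.trans t2)
    (fun e => hn.2 (congrArg Subtype.val e)) (fun e => tz (congrArg Subtype.val e)))
  have hg' : (g : G) * u * (g : G)⁻¹ = t := congrArg Subtype.val hg
  refine hd ?_
  rw [← orderOf_injective (MulAut.conj (g : G)).toMonoidHom (MulAut.conj (g : G)).injective w]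
  refine Subgroup.orderOf_dvd_natCard _ (mem_inf.2 ⟨mul_mem (mul_mem g.2 hw) (inv_mem g.2),
    mem_centralizer_singleton_iff.2 ?_⟩)
  change (g : G) * w * (g : G)⁻¹ * t = t * ((g : G) * w * (g : G)⁻¹)
  rw [← hg', conj_mul, conj_mul, c1]

theorem qd_not_dvd_index (hC : CO G) {r : ℕ} (hr : r.Prime) (h2 : r ≠ 2) {t : G}
    (ht : t ∈ centralizer {qz k x}) (t2 : orderOf t = 2) (tz : t ≠ qz k x)
    (h1 : r ∣ Nat.card (centralizer ({qz k x} : Set G)))
    (hd : ¬ r ∣ Nat.card ↥(centralizer {qz k x} ⊓ centralizer {t} : Subgroup G)) :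
    ¬ r ∣ (centralizer ({qz k x} : Set G)).index := by
  have := Fact.mk hr
  obtain ⟨w, hw⟩ := exists_prime_orderOf_dvd_card' r h1
  rw [← orderOf_coe] at hw
  exact hC.not_dvd_index h2 h.ord_z hw (mem_centralizer_singleton_iff.1 w.2).symm
    (qd_inv_cent h ht t2 tz w.2 (hw ▸ hd))

theorem qd_no_root (hz : ∀ g : G, g * qz k x = qz k x * g) {t e : G} (t2 : orderOf t = 2)
    (tz : t ≠ qz k x) (he : e * e = qz k x) (c : e * t = t * e) : False := by
  have tt := H18.mul_self_of_orderOf t2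
  have hA : IsPGroup 2 (zpowers e) := IsPGroup.of_card_dvd_pow (n := 2) (by
    rw [Nat.card_zpowers]
    refine orderOf_dvd_of_pow_eq_one ?_
    rw [pow_two, pow_mul, pow_two, pow_two, he, h.zz])
  have hB : IsPGroup 2 (zpowers t) := IsPGroup.of_card (n := 1) (by
    rw [Nat.card_zpowers, t2, pow_one])
  have hR := hA.to_sup_of_normal_right' hB (zpowers_le.2 (centralizer_le_normalizer _
    (mem_centralizer_iff.2 fun y hy => by
      obtain ⟨k, rfl⟩ := hy
      exact ((show Commute t e from c.symm).zpow_left k).eq)))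
  obtain ⟨T, hT⟩ := hR.exists_le_sylow
  obtain ⟨g, rfl⟩ := MulAction.exists_smul_eq G S T
  rw [H43.sylow_cj] at hT
  have h' := H43.QD.cj h g
  have hzz : qz k (g * x * g⁻¹) = qz k x := by
    rw [qz, conj_pow, hz g, mul_inv_cancel_right]
  have htT := hT (mem_sup_right (mem_zpowers t))
  have heT := hT (mem_sup_left (mem_zpowers e))
  have htA : t ∉ zpowers (g * x * g⁻¹) := fun ht => by
    rcases h'.eq_one_or_z ht tt with e | e
    · rw [e, orderOf_one] at t2; omega
    · exact tz (e.trans hzz)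
  have key : ∀ a ∈ zpowers (g * x * g⁻¹), a * t = t * a → a * a = 1 := fun a ha c => by
    rcases h'.eq_one_or_z_of_comm ha htT htA c with e | e
    · rw [e, one_mul]
    · rw [e, h'.zz]
  refine h.z_ne_one ?_
  by_cases heA : e ∈ zpowers (g * x * g⁻¹)
  · rw [← he, key e heA c]
  · have h1 : e * t ∈ zpowers (g * x * g⁻¹) :=
      (mul_mem_iff_of_index_two h'.relIndex (a := ⟨e, heT⟩) (b := ⟨t, htT⟩)).2
        (iff_of_false heA htA)
    have h2 := key _ h1 (by rw [mul_assoc, tt, mul_one, c, ← mul_assoc, tt, one_mul])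
    rwa [mul_assoc, ← mul_assoc t, ← c, mul_assoc, tt, mul_one, he] at h2

theorem qd_cent (hz : ∀ g : G, g * qz k x = qz k x * g) (hC : CO G) {E : Subgroup G} [E.Normal]
    (hE : ⁅E, E⁆ = E) {p : ℕ} [hp : Fact p.Prime] (h5 : 5 ≤ p)
    (e : Nonempty (E ≃* PSL(2, ZMod p)) ∨ Nonempty (E ≃* SL(2, ZMod p))) :
    ∃ (X : Subgroup G) (τ m : ℕ), τ + m = p ∧ Even τ ∧ Odd m ∧ (m = τ + 1 ∨ τ = m + 1) ∧
      Nonempty (E ≃* SL(2, ZMod p)) ∧ qz k x ∈ E ∧ (S : Subgroup G) ≤ E ⊔ zpowers y ∧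
      Nat.card E = 4 * τ * m * p ∧ Nat.card G = 2 * Nat.card X * Nat.card E ∧
      (Nat.card X).Coprime (Nat.card E) ∧
      (∀ a : G, (orderOf a).Coprime (Nat.card E) → a ∈ centralizer (E : Set G)) ∧
      ((∀ a ∈ X, a * y = y * a → a = 1) → Nat.card (centralizer ({y} : Set G)) = 4 * m) ∧
      (Nat.card X = 1 → ∀ w : G, orderOf w = p → ∀ v : G, v * w = w * v → v ^ (2 * p) = 1) := by
  obtain ⟨L, tor, τ, m, ψ, X, h1, hPG, _, hZ⟩ := exists_ZS_of_equiv hC (qd_C2 h) hE h5 e
  have := hPG.L_normal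
  have hzC : qz k x ∈ centralizer (E : Set G) := fun g _ => hz g
  have hzE : qz k x ∈ E := hZ.two _ hzC 1 (by rw [pow_one, pow_two, h.zz])
  have h2' : (2 : ZMod p) ≠ 0 := fun e => by
    have := Nat.le_of_dvd two_pos ((CharP.cast_eq_zero_iff (ZMod p) p 2).1 e)
    omega
  obtain ⟨e⟩ : Nonempty (E ≃* SL(2, ZMod p)) := e.resolve_left fun ⟨e⟩ => by
    have := H22.sl2_perfect (F := ZMod p) (by rw [ZMod.card]; omega)
    have h3 : e ⟨_, hzE⟩ ∈ center PSL(2, ZMod p) := by
      rw [← H9.map_center_eq e]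
      exact ⟨_, mem_center_iff.2 fun g => Subtype.ext (hz g), rfl⟩
    rw [Group.IsPerfect.center_quotient_center_eq_bot] at h3
    exact h.z_ne_one (congrArg Subtype.val (e.map_eq_one_iff.1 (mem_bot.1 h3)))
  have hinv : ∀ u ∈ E, u * u = 1 → u = 1 ∨ u = qz k x := fun u hu u2 => by
    have key : ∀ v : E, v * v = 1 → v ≠ 1 → e v = -1 := fun v v2 v1 =>
      ((H66.mul_self_eq_one_iff _ h2').1 (by rw [← map_mul, v2, map_one])).resolve_left
        (mt e.map_eq_one_iff.1 v1)
    refine or_iff_not_imp_left.2 fun u1 => congrArg Subtype.val (e.injective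
      ((key ⟨u, hu⟩ (Subtype.ext u2) fun e => u1 (congrArg Subtype.val e)).trans
        (key ⟨_, hzE⟩ (Subtype.ext h.zz) fun e => h.z_ne_one (congrArg Subtype.val e)).symm))
  have hcen : ∀ u ∈ E, ψ u = 1 → u = 1 ∨ u = qz k x := fun u hu hc => by
    refine hinv u hu (congrArg Subtype.val (e.injective
      (show e (⟨u, hu⟩ * ⟨u, hu⟩) = e 1 from ?_)))
    have h3 : e ⟨u, hu⟩ ∈ center SL(2, ZMod p) := by
      rw [← H9.map_center_eq e]
      exact ⟨_, mem_center_iff.2 fun g => Subtype.ext ((hZ.ker ▸ hc : u ∈ centralizer _) g g.2), rfl⟩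
    rw [map_mul, map_one, H66.mul_self_eq_one_iff _ h2', ← H66.sl2_mem_center_iff]
    exact h3
  have hψz : ψ (qz k x) = 1 := (hZ.ker ▸ hzC : _ ∈ ψ.ker)
  have hcard : ∀ D ≤ E, qz k x ∈ D → Nat.card D = 2 * Nat.card (D.map ψ) := fun D hD hzD => by
    have h4 : ψ.ker ⊓ D = zpowers (qz k x) := le_antisymm
      (fun u hu => (mem_zpowers_of_mul_self h.zz).2 (hcen u (hD hu.2) hu.1))
      (zpowers_le.2 ⟨hψz, hzD⟩)
    rw [← H42.card_mul_relIndex (inf_le_right : ψ.ker ⊓ D ≤ D), inf_relIndex_right,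
      relIndex_ker, h4, Nat.card_zpowers, h.ord_z]
  have hcE : Nat.card E = 4 * τ * m * p := by
    rw [hcard E le_rfl hzE, hZ.map, hPG.card_L, h1]; ring
  have h2X : ∀ j, (2 ^ j).Coprime (Nat.card X) := fun j =>
    Nat.Coprime.pow_left j (Nat.coprime_two_left.2 hZ.odd_X)
  have hy0 : y ∉ X ⊔ E := fun hy => by
    rcases hinv y (hZ.mem_E hy (by rw [pow_one, pow_two, h.yy]) (h2X 1)) h.yy with e | e
    · have := h.ordy
      rw [e, orderOf_one] at this
      omega
    · exact qd_y_ne_z h e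
  have hi : (X ⊔ E).index = 2 := by
    have h3 := hZ.index_dvd
    rw [← relIndex_top_right L, hPG.relIndex] at h3
    exact ((Nat.dvd_prime Nat.prime_two).1 h3).resolve_left fun e =>
      hy0 (index_eq_one.1 e ▸ mem_top y)
  have hodd : ∀ a : G, Odd (orderOf a) → a ∈ X ⊔ E := fun a ha =>
    H8.mem_of_sq_mem_of_odd ha (sq_mem_of_index_two hi a)
  have hψy : ψ y ∉ L := fun e => hy0 (hZ.comap ▸ e)
  have t2 : ψ y * ψ y = 1 := by rw [← map_mul, h.yy, map_one]
  have t1 : ψ y ≠ 1 := fun e => hψy (e ▸ one_mem L)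
  refine ⟨X, τ, m, h1, hPG.even_τ, hPG.odd_m, hPG.near, ⟨e⟩, hzE, fun s hs => ?_, hcE, ?_, hZ.cop,
    fun a ha => hZ.X_le (hZ.mem_X' (hodd a ?_) (pow_orderOf_eq_one a) ha), fun hX => ?_,
    fun hX w hw v c => ?_⟩
  · have key : ∀ s ∈ (S : Subgroup G), s ∈ X ⊔ E → s ∈ E := fun s hs h3 => by
      obtain ⟨j, hj⟩ := S.2 ⟨s, hs⟩
      exact hZ.mem_E h3 (congrArg Subtype.val hj) (h2X j)
    by_cases h3 : s ∈ X ⊔ E
    · exact mem_sup_left (key s hs h3)
    · have h4 := key _ (mul_mem hs h.hy) ((mul_mem_iff_of_index_two hi).2 (iff_of_false h3 hy0))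
      rw [← mul_inv_cancel_right s y]
      exact mul_mem (mem_sup_left h4) (mem_sup_right (inv_mem (mem_zpowers y)))
  · rw [← card_mul_index (X ⊔ E), hi, hZ.card_sup]; ring
  · exact Nat.coprime_two_right.1 (ha.coprime_dvd_right (hcE ▸ ⟨2 * τ * m * p, by ring⟩))
  · set Cy := centralizer ({y} : Set G)
    have hT := hPG.card_T_of_not_mem (mem_top _) t2 t1 hψy
    have h3 : Cy ⊓ (X ⊔ E) = Cy ⊓ E := by
      refine le_antisymm (fun g hg => ⟨hg.1, ?_⟩) (inf_le_inf_left _ le_sup_right)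
      obtain ⟨a, ha, b, hb, rfl⟩ := mem_sup_of_normal_right.1 hg.2
      have h4 : a⁻¹ * (y * a * y⁻¹) = b * (y * b⁻¹ * y⁻¹) := by
        have := mem_centralizer_singleton_iff.1 hg.1
        calc a⁻¹ * (y * a * y⁻¹) = a⁻¹ * (y * (a * b)) * b⁻¹ * y⁻¹ := by group
          _ = _ := by rw [← this]; group
      have h6 : a⁻¹ * (y * a * y⁻¹) ∈ X ⊓ E :=
        mem_inf.2 ⟨mul_mem (inv_mem ha) (Normal.conj_mem inferInstance _ ha y),
          h4 ▸ mul_mem hb (Normal.conj_mem inferInstance _ (inv_mem hb) y)⟩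
      rw [hZ.inf, mem_bot, inv_mul_eq_one, eq_mul_inv_iff_mul_eq] at h6
      rwa [hX a ha h6, one_mul]
    have h4 : (Cy ⊓ E).map ψ ≤ tor (ψ y) ⊓ L := by
      rintro _ ⟨g, hg, rfl⟩
      refine ⟨?_, hZ.map ▸ mem_map_of_mem ψ hg.2⟩
      by_contra hn
      have c := mem_centralizer_singleton_iff.1 hg.1
      have h6 := hPG.refl_sq (mem_top _) t1 (mem_top (ψ g)) (by rw [← map_mul, c, map_mul]) hn
      rcases hcen _ (mul_mem hg.2 hg.2) (by rwa [map_mul]) with e | e
      · refine hn ?_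
        rcases hinv g hg.2 e with e | e <;> simp [e, hψz]
      · exact qd_no_root h hz h.ordy (qd_y_ne_z h) e c
    have hzy : qz k x ∈ Cy := mem_centralizer_singleton_iff.2 (hz y).symm
    refine Nat.dvd_antisymm ?_ (Nat.Coprime.mul_dvd_of_dvd_of_dvd
      (Nat.Coprime.pow_left 2 (Nat.coprime_two_left.2 hPG.odd_m)) ?_ ?_)
    · rw [← H42.card_mul_relIndex (inf_le_left : Cy ⊓ (X ⊔ E) ≤ Cy), inf_relIndex_left, h3,
        hcard _ inf_le_right ⟨hzy, hzE⟩, show 4 * m = 2 * m * 2 by ring]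
      exact mul_dvd_mul (mul_dvd_mul_left 2 (hT ▸ card_dvd_of_le h4))
        (hi ▸ relIndex_dvd_index_of_normal _ _)
    · have hV := H43.isKleinFour_sup h.zz h.yy h.z_ne_one
        (fun e => h.y_notMem (zpowers_le.2 QD.z_mem e)) (hz y).symm
      rw [← hV.card_four]
      exact card_dvd_of_le (sup_le (zpowers_le.2 hzy)
        (zpowers_le.2 (mem_centralizer_singleton_iff.2 rfl)))
    · obtain ⟨c, hc⟩ := hPG.exists_T_eq_zpowers (mem_top _) t2 t1
      have hcT : c ∈ tor (ψ y) ⊓ L := hc ▸ mem_zpowers c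
      obtain ⟨d, hd, rfl⟩ := (hZ.map ▸ hcT.2 : c ∈ E.map ψ)
      rw [hc, Nat.card_zpowers] at hT
      have hm : ψ d ^ m = 1 := hT ▸ pow_orderOf_eq_one _
      have h6 : ψ (d ^ (m + 1)) = ψ d := by rw [map_pow, pow_succ, hm, one_mul]
      have h7 : (d ^ (m + 1)) ^ m = 1 := by
        obtain ⟨j, hj⟩ := hPG.odd_m.add_one
        rw [← pow_mul, mul_comm, pow_mul, hj, pow_add, ← Commute.mul_pow (Commute.refl _)]
        rcases hcen _ (pow_mem hd m) (by rwa [map_pow]) with e | e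
        · simp [e]
        · rw [e, h.zz, one_pow]
      set b := d ^ (m + 1)
      have hb : b ∈ E := pow_mem hd _
      have h8 : b ∈ Cy := by
        refine mem_centralizer_singleton_iff.2 ?_
        rcases hcen (b⁻¹ * (y * b * y⁻¹))
          (mul_mem (inv_mem hb) (Normal.conj_mem inferInstance _ hb y)) (by
            rw [map_mul, map_mul, map_mul, map_inv, map_inv, h6,
              ← hPG.comm_of_mem _ (mem_top _) _ hcT.1]
            group) with e | e
        · rwa [inv_mul_eq_one, eq_mul_inv_iff_mul_eq] at e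
        · rw [inv_mul_eq_iff_eq_mul] at e
          have h9 := congrArg (· ^ m) e
          obtain ⟨j, hj⟩ := hPG.odd_m
          simp only [conj_pow, h7, Commute.mul_pow (hz b), mul_one, mul_inv_cancel, one_mul] at h9
          rw [hj, pow_succ, pow_mul, pow_two, h.zz, one_pow, one_mul] at h9
          exact absurd h9.symm h.z_ne_one
      exact (hT ▸ h6 ▸ orderOf_map_dvd ψ b).trans (orderOf_dvd_natCard _ h8)
  · obtain rfl : X = ⊥ := card_eq_one.1 hX
    have hpo := hp.out.odd_of_ne_two (by omega)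
    have hwE : w ∈ E := by simpa using hodd w (hw ▸ hpo)
    have hker : ∀ u, ψ u = 1 → u ^ 2 = 1 := fun u hu => by
      have h3 : u ∈ E := by simpa using hZ.cent_le (hZ.ker ▸ hu : u ∈ centralizer _)
      rcases hcen u h3 hu with e | e
      · simp [e]
      · rw [e, pow_two, h.zz]
    have w2 : ψ w * ψ w ≠ 1 := fun e => by
      have h3 := orderOf_dvd_of_pow_eq_one (show w ^ (2 * 2) = 1 by
        rw [pow_mul]; exact hker _ (by rwa [map_pow, pow_two]))
      rw [hw] at h3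
      have := Nat.le_of_dvd (by norm_num) h3
      omega
    have w1 : ψ w ≠ 1 := fun e => w2 (by rw [e, one_mul])
    have hv := hPG.mem_tor_of_comm (mem_top _) w2 (mem_top (ψ v)) (by rw [← map_mul, c, map_mul])
    rcases hPG.uni_or_inv _ (mem_top _) w1 with h3 | ⟨t, ht, t2, t1⟩
    · rw [mul_comm, pow_mul]
      exact hker _ (by rw [map_pow, h3 _ hv])
    · exfalso
      have h3 : orderOf (ψ w) = p := orderOf_eq_prime
        (by rw [← map_pow, show w ^ p = 1 from hw ▸ pow_orderOf_eq_one w, map_one]) w1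
      have h4 := orderOf_dvd_natCard _ (hPG.self_mem _ (mem_top (ψ w)))
      rw [← hPG.tor_eq _ (mem_top _) w1 t ht t1, h3] at h4
      have h6 := hPG.two_le
      have h7 := hPG.three_le
      rcases hPG.card_tor t (mem_top _) t2 t1 with e | e <;> rw [e] at h4 <;>
        have := Nat.le_of_dvd (by omega) ((Nat.Coprime.dvd_mul_left
          (Nat.coprime_two_right.2 hpo)).1 h4) <;> omega

end Cfsg.Agent.H30
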