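import Cfsg.Agent.H30.ZOdd3
import Cfsg.Agent.H35.Simple
import Cfsg.Agent.H36.Simple

/-! The exceptional order `85680` in Wong's theorem. -/

set_option autoImplicit false

namespace Cfsg.Agent.H30

open Cfsg Subgroup

variable {G : Type*} [Group G] [Finite G]

theorem exists_sylow_eq_zpowers {r m : ℕ} [hr : Fact r.Prime] (h : Nat.card G = r * m)
    (hm : ¬ r ∣ m) {y : G} (hy : orderOf y = r) :
    ∃ P : Sylow r G, (P : Subgroup G) = zpowers y := by
  obtain ⟨P, hP⟩ := (IsPGroup.of_card (n := 1) (G := zpowers y) (by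
    rw [Nat.card_zpowers, hy, pow_one])).exists_le_sylow
  exact ⟨P, (eq_of_le_of_card_ge hP
    (by rw [Nat.card_zpowers, hy, H36.card_sylow_eq_prime P h hm])).symm⟩

theorem prime_sylow_data {r : ℕ} [hr : Fact r.Prime] (P : Sylow r G) {y : G} (hy : orderOf y = r)
    (hP : (P : Subgroup G) = zpowers y) : ∃ e, e ∣ r - 1 ∧
      Nat.card (normalizer (P : Set G)) = Nat.card (centralizer ({y} : Set G)) * e := by
  refine ⟨_, H35.relIndex_dvd_pred hr.out (P : Subgroup G) (by rw [hP, Nat.card_zpowers, hy]), ?_⟩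
  rw [← H80.centralizer_zpowers_eq_centralizer, ← hP,
    H42.card_mul_relIndex (centralizer_le_normalizer _)]
  rfl

theorem odd_cent {n r : ℕ} (hI : ∀ u : G, orderOf u = 2 → Nat.card (centralizer ({u} : Set G)) = n)
    (hr : ¬ r ∣ n) {y : G} (hy : orderOf y = r) : Odd (Nat.card (centralizer ({y} : Set G))) := by
  rw [← Nat.not_even_iff_odd, even_iff_two_dvd]
  intro h
  obtain ⟨u, hu⟩ := exists_prime_orderOf_dvd_card' 2 h
  refine hr (hy ▸ hI u ((orderOf_coe u).trans hu) ▸ Subgroup.orderOf_dvd_natCard _ ?_)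
  exact mem_centralizer_singleton_iff.2 (mem_centralizer_singleton_iff.1 u.2).symm

theorem wong_seven [IsSimpleGroup G] (hG : Nat.card G = 85680)
    (hI : ∀ u : G, orderOf u = 2 → Nat.card (centralizer ({u} : Set G)) = 240)
    [Fact (Nat.Prime 7)] (P : Sylow 7 G) {y : G} (hy : orderOf y = 7)
    (hP : (P : Subgroup G) = zpowers y) (h5 : 5 ∣ Nat.card (normalizer (P : Set G))) : False := by
  obtain ⟨e, he, h1⟩ := prime_sylow_data P hy hP
  have h2 := odd_cent hI (by norm_num) hy
  have h3 := H36.card_sylow_mul_card_normalizer P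
  have h4 := H36.card_sylow_mod (p := 7) (G := G)
  have h7 : 7 ∣ Nat.card (normalizer (P : Set G)) :=
    hy.symm.dvd.trans (Subgroup.orderOf_dvd_natCard _
      (le_normalizer (hP ▸ mem_zpowers y : y ∈ (P : Subgroup G))))
  have h6 : ¬ 4 ∣ Nat.card (normalizer (P : Set G)) := fun h => by
    rw [h1] at h
    exact absurd (((Nat.Coprime.pow_left 2 (Nat.coprime_two_left.2 h2)).dvd_of_dvd_mul_left
      h).trans he) (by norm_num)
  rw [P.card_eq_index_normalizer] at h3 h4
  have h8 := H36.prime_le_index (G := G) (H := normalizer (P : Set G)) (p := 17)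
    (fun e => h6 (by rw [e, card_top, hG]; norm_num)) (by norm_num) (by rw [hG]; norm_num)
  obtain ⟨c, hc⟩ := Nat.Coprime.mul_dvd_of_dvd_of_dvd (by norm_num) h5 h7
  rw [hc] at h3 h6
  rw [hG] at h3
  generalize (normalizer (P : Set G)).index = n at h3 h4 h8
  have h9 : n * c = 2448 := by linarith
  have key : ∀ n ∈ Nat.divisors 2448, n % 7 = 1 → 17 ≤ n → 4 ∣ 5 * 7 * (2448 / n) := by
    decide +kernel
  refine h6 ?_
  have := key n (Nat.mem_divisors.2 ⟨⟨c, h9.symm⟩, by norm_num⟩) h4 h8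
  rwa [← h9, Nat.mul_div_cancel_left _ (by omega)] at this

theorem wong_85680 [IsSimpleGroup G] (hG : Nat.card G = 85680)
    (hI : ∀ u : G, orderOf u = 2 → Nat.card (centralizer ({u} : Set G)) = 240)
    {z w : G} (hz : orderOf z = 2) (hw : orderOf w = 5) (c : z * w = w * z)
    (h10 : ∀ v : G, v * z = z * v → v * w = w * v → v ^ 10 = 1)
    (hu : ∀ u : G, u * u = 1 → u * w = w * u → u * z = z * u → u = 1 ∨ u = z) : False := by
  have : Fact (Nat.Prime 5) := ⟨by norm_num⟩
  have : Fact (Nat.Prime 7) := ⟨by norm_num⟩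
  have : Fact (Nat.Prime 17) := ⟨by norm_num⟩
  obtain ⟨P, hP⟩ := exists_sylow_eq_zpowers (m := 17136) hG (by norm_num) hw
  obtain ⟨e, he, h1⟩ := prime_sylow_data P hw hP
  set C := centralizer ({w} : Set G) with hC
  have h4 : ¬ 4 ∣ Nat.card C := fun h4 => by
    let z' : C := ⟨z, mem_centralizer_singleton_iff.2 c⟩
    have hz' : orderOf z' = 2 := (orderOf_coe z').symm.trans hz
    obtain ⟨S, hS⟩ := (IsPGroup.of_card (n := 1) (G := zpowers z') (by
      rw [Nat.card_zpowers, hz', pow_one])).exists_le_sylow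
    have hu' : ∀ u : C, u * u = 1 → u * z' = z' * u → u = 1 ∨ u = z' := fun u h6 h7 =>
      (hu u (congrArg Subtype.val h6) (mem_centralizer_singleton_iff.1 u.2)
        (congrArg Subtype.val h7)).imp Subtype.ext Subtype.ext
    have h5 := normalizer_le_cent hz' hu' S (hS (mem_zpowers _))
    have h6 : (S : Subgroup C) ≤ zpowers z' := fun s hs => by
      have h7 := mem_centralizer_singleton_iff.1 (h5 (le_normalizer hs))
      have h8 : s ^ 10 = 1 :=
        Subtype.ext (h10 s (congrArg Subtype.val h7) (mem_centralizer_singleton_iff.1 s.2))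
      obtain ⟨j, hj⟩ := S.2 ⟨s, hs⟩
      have h9 : s ^ 2 = 1 := H43.eq_one_of_pow_coprime (a := 2 ^ j) (b := 5)
        (Nat.Coprime.pow_left j (by norm_num))
        (by rw [← pow_mul, mul_comm, pow_mul, show s ^ 2 ^ j = 1 from congrArg Subtype.val hj,
          one_pow]) (by rwa [← pow_mul])
      rcases hu' s (by rwa [← pow_two]) h7 with e | e <;> simp [e]
    have h7 := card_dvd_of_le h6
    rw [Nat.card_zpowers, hz'] at h7
    exact absurd ((S.pow_dvd_card_of_pow_dvd_card (n := 2) h4).trans h7) (by norm_num)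
  have h8 : 8 ∣ Nat.card (normalizer (P : Set G)) := by
    have hPH : (P : Subgroup G) ≤ centralizer {z} :=
      hP ▸ zpowers_le.2 (mem_centralizer_singleton_iff.2 c.symm)
    have h2 := H36.card_sylow_subgroup P hPH
    have h3 := H36.card_sylow_mod (p := 5) (G := centralizer ({z} : Set G))
    have h5 : 5 ∣ Nat.card ↥(centralizer {z} ⊓ normalizer (P : Set G)) :=
      hw.symm.dvd.trans (Subgroup.orderOf_dvd_natCard _
        ((le_inf hPH le_normalizer) (hP ▸ mem_zpowers w : w ∈ (P : Subgroup G))))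
    have h6 : 2 ∣ Nat.card ↥(centralizer {z} ⊓ normalizer (P : Set G)) :=
      hz ▸ Subgroup.orderOf_dvd_natCard _ (mem_inf.2 ⟨mem_centralizer_singleton_iff.2 rfl,
        centralizer_le_normalizer _ (by
          rw [← P.coe_coe, hP, H80.centralizer_zpowers_eq_centralizer]
          exact mem_centralizer_singleton_iff.2 c)⟩)
    refine Dvd.dvd.trans ?_ (card_dvd_of_le (inf_le_right : centralizer {z} ⊓ _ ≤ _))
    obtain ⟨d, hd⟩ := Nat.Coprime.mul_dvd_of_dvd_of_dvd (by norm_num) h5 h6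
    rw [hd] at h2 ⊢
    rw [hI z hz] at h2
    generalize Nat.card (Sylow 5 (centralizer ({z} : Set G))) = n at h2 h3
    have h7 : n * d = 24 := by linarith
    have h9 : n ≤ 24 := Nat.le_of_dvd (by norm_num) ⟨d, h7.symm⟩
    interval_cases n <;> omega
  have h5 : 5 ∣ Nat.card C :=
    hw ▸ Subgroup.orderOf_dvd_natCard _ (mem_centralizer_singleton_iff.2 rfl)
  have h717 : 7 ∣ Nat.card C ∨ 17 ∣ Nat.card C := by
    by_contra hn
    push Not at hn
    have h2 := H36.card_sylow_mul_card_normalizer P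
    have h3 := H36.card_sylow_mod (p := 5) (G := G)
    have h6 : Nat.card C ∣ 720 := by
      have := card_subgroup_dvd_card C
      rw [hG, show 85680 = 7 * (17 * 720) from rfl] at this
      exact ((Nat.Prime.coprime_iff_not_dvd (by norm_num)).2 hn.2).symm.dvd_of_dvd_mul_left
        (((Nat.Prime.coprime_iff_not_dvd (by norm_num)).2 hn.1).symm.dvd_of_dvd_mul_left this)
    have key : ∀ c ∈ Nat.divisors 720, 5 ∣ c → ¬ 4 ∣ c → ∀ e ∈ Nat.divisors 4, 8 ∣ c * e →
        85680 / (c * e) % 5 ≠ 1 := by decide +kernel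
    refine key _ (Nat.mem_divisors.2 ⟨h6, by norm_num⟩) h5 h4 e
      (Nat.mem_divisors.2 ⟨he, by norm_num⟩) (h1 ▸ h8) ?_
    rwa [← h1, ← hG, ← h2, Nat.mul_div_cancel _ Nat.card_pos]
  rcases h717 with h7 | h7
  · obtain ⟨y, hy⟩ := exists_prime_orderOf_dvd_card' 7 h7
    rw [← orderOf_coe] at hy
    obtain ⟨Q, hQ⟩ := exists_sylow_eq_zpowers (m := 12240) hG (by norm_num) hy
    refine wong_seven hG hI Q hy hQ (hw ▸ Subgroup.orderOf_dvd_natCard _
      (centralizer_le_normalizer _ ?_))
    rw [← Q.coe_coe, hQ, H80.centralizer_zpowers_eq_centralizer]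
    exact mem_centralizer_singleton_iff.2 (mem_centralizer_singleton_iff.1 y.2).symm
  · obtain ⟨y, hy⟩ := exists_prime_orderOf_dvd_card' 17 h7
    rw [← orderOf_coe] at hy
    obtain ⟨Q, hQ⟩ := exists_sylow_eq_zpowers (m := 5040) hG (by norm_num) hy
    obtain ⟨f, hf, h2⟩ := prime_sylow_data Q hy hQ
    set D := centralizer ({(y : G)} : Set G)
    have hD := odd_cent hI (by norm_num) hy
    have h3 := H36.card_sylow_mul_card_normalizer Q
    have h6 := H36.card_sylow_mod (p := 17) (G := G)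
    have h9 := H35.card_sylow_ne_one Q (by rw [hG]; norm_num)
      (by rw [hQ, Nat.card_zpowers, hy, hG]; norm_num)
    have hD5 : 5 ∣ Nat.card D := hw ▸ Subgroup.orderOf_dvd_natCard _
      (mem_centralizer_singleton_iff.2 (mem_centralizer_singleton_iff.1 y.2).symm)
    have hD17 : 17 ∣ Nat.card D :=
      hy ▸ Subgroup.orderOf_dvd_natCard _ (mem_centralizer_singleton_iff.2 rfl)
    have hD595 : Nat.card D = 595 := by
      obtain ⟨d, hd⟩ := Nat.Coprime.mul_dvd_of_dvd_of_dvd (by norm_num) hD5 hD17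
      rw [h2, hG, hd] at h3
      rw [hd] at hD ⊢
      generalize Nat.card (Sylow 17 G) = n at h3 h6 h9
      have h11 : n * (d * f) = 1008 := by linarith
      have key : ∀ n ∈ Nat.divisors 1008, n % 17 = 1 → n ≠ 1 → n = 18 := by decide +kernel
      obtain rfl := key n (Nat.mem_divisors.2 ⟨⟨_, h11.symm⟩, by norm_num⟩) h6 h9
      have h12 : f ≤ 16 := Nat.le_of_dvd (by norm_num) hf
      rw [Nat.odd_iff] at hD
      interval_cases f <;> omega
    obtain ⟨v, hv⟩ := exists_prime_orderOf_dvd_card' (G := D) 7 (by rw [hD595]; norm_num)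
    rw [← orderOf_coe] at hv
    obtain ⟨R, hR⟩ := exists_sylow_eq_zpowers (m := 12240) hG (by norm_num) hv
    have hRD : (R : Subgroup G) ≤ D := hR ▸ zpowers_le.2 v.2
    have h11 := H36.card_sylow_subgroup R hRD
    have h12 := H36.card_sylow_mod (p := 7) (G := D)
    have h13 : 7 ∣ Nat.card ↥(D ⊓ normalizer (R : Set G)) :=
      hv.symm.dvd.trans (Subgroup.orderOf_dvd_natCard _
        ((le_inf hRD le_normalizer) (hR ▸ mem_zpowers _ : (v : G) ∈ (R : Subgroup G))))
    have h14 : 17 ∣ Nat.card ↥(D ⊓ normalizer (R : Set G)) :=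
      hy ▸ Subgroup.orderOf_dvd_natCard _ (mem_inf.2 ⟨mem_centralizer_singleton_iff.2 rfl,
        centralizer_le_normalizer _ (by
          rw [← R.coe_coe, hR, H80.centralizer_zpowers_eq_centralizer]
          exact mem_centralizer_singleton_iff.2 (mem_centralizer_singleton_iff.1 v.2).symm)⟩)
    refine wong_seven hG hI R hv hR
      (Dvd.dvd.trans ?_ (card_dvd_of_le (inf_le_right : D ⊓ _ ≤ _)))
    obtain ⟨d, hd⟩ := Nat.Coprime.mul_dvd_of_dvd_of_dvd (by norm_num) h13 h14
    rw [hd] at h11 ⊢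
    rw [hD595] at h11
    generalize Nat.card (Sylow 7 D) = n at h11 h12
    have h15 : n * d = 5 := by linarith
    have h16 : n ≤ 5 := Nat.le_of_dvd (by norm_num) ⟨d, h15.symm⟩
    interval_cases n <;> omega

end Cfsg.Agent.H30
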