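import Cfsg.Agent.H30.ZOdd4
import Cfsg.Agent.H30.ZOddArith
import Cfsg.Agent.H30.ABGQD3
import Cfsg.Agent.H76.SDStruct
import Cfsg.Agent.H22.QGroup0

/-! Wong's theorem: a perfect group with cyclic Sylow subgroups for all odd primes does not have
semidihedral Sylow 2-subgroups. -/

set_option autoImplicit false

open scoped MatrixGroups commutatorElement

namespace Cfsg.Agent.H30

open Cfsg Subgroup H42

universe u

theorem CO.even_card {G : Type*} [Group G] [Finite G] [Nontrivial G] (h : CO G)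
    (hP : Group.IsPerfect G) : Even (Nat.card G) := by
  by_contra hn
  have := h.isZGroup (Nat.not_even_iff_odd.1 hn)
  exact Group.IsPerfect.not_isSolvable G inferInstance

theorem card_inf_cent {G : Type*} [Group G] (H : Subgroup G) (t : H) :
    Nat.card ↥(H ⊓ centralizer {(t : G)}) = Nat.card (centralizer ({t} : Set H)) := by
  rw [← Nat.card_congr (subgroupOfEquivOfLe (inf_le_left : H ⊓ _ ≤ H)).toEquiv,
    inf_subgroupOf_left]
  congr 2
  ext g
  simp only [mem_subgroupOf, mem_centralizer_singleton_iff, Subtype.ext_iff, coe_mul]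

theorem card_cent_of_isConj {G : Type*} [Group G] {a b : G} (h : IsConj a b) :
    Nat.card (centralizer ({a} : Set G)) = Nat.card (centralizer ({b} : Set G)) := by
  obtain ⟨g, rfl⟩ := isConj_iff.1 h
  refine Nat.card_congr ((MulAut.conj g).toEquiv.subtypeEquiv fun c => ?_)
  simp only [mem_centralizer_singleton_iff, MulEquiv.toEquiv_eq_coe, EquivLike.coe_coe,
    MulAut.conj_apply, conj_mul, mul_left_inj, mul_right_inj]

theorem qd_simple {G : Type*} [Group G] [Finite G] (hP : Group.IsPerfect G) (hC : CO G)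
    {S : Sylow 2 G} {k : ℕ} {x y : G} (h : QD (S : Subgroup G) k x y) : IsSimpleGroup G := by
  have hG := H22.index_ne_two_of_perfect hP
  have : Nontrivial G := ⟨⟨_, _, h.z_ne_one⟩⟩
  refine ⟨fun N hN => or_iff_not_imp_left.2 fun h1 => ?_⟩
  by_contra h2
  have h3 : ¬ Odd (Nat.card N) := fun ho => h1 (H8.core_eq_bot_iff.1 (hC.core_eq_bot hP) N hN ho)
  obtain ⟨u, hu⟩ := exists_prime_orderOf_dvd_card' 2 (Nat.not_odd_iff_even.1 h3).two_dvd
  obtain ⟨g, hg⟩ := isConj_iff.1 ((H43.QD.conj_z h hG ((orderOf_coe u).trans hu)).trans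
    (H43.QD.conj_z h hG h.ordy).symm)
  have hy : y ∈ N := hg ▸ hN.conj_mem _ u.2 g
  have : Nontrivial (G ⧸ N) := not_subsingleton_iff_nontrivial.1 fun e =>
    h2 (QuotientGroup.subgroup_eq_top_of_subsingleton N e)
  have hπ := QuotientGroup.mk'_surjective N
  refine H22.not_isCyclic_sylow_two inferInstance
    ((hC.of_surjective _ hπ).even_card inferInstance) (S.mapSurjective hπ)
    (isCyclic_of_le (isCyclic_zpowers' (QuotientGroup.mk' N x)) ?_)
  rintro _ ⟨s, hs, rfl⟩
  by_cases h4 : s ∈ zpowers x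
  · exact MonoidHom.map_zpowers (QuotientGroup.mk' N) x ▸ mem_map_of_mem _ h4
  · obtain ⟨i, rfl⟩ := h.form hs h4
    rw [map_mul, map_zpow, QuotientGroup.mk'_apply N y, (QuotientGroup.eq_one_iff y).2 hy, mul_one]
    exact zpow_mem_zpowers _ _

theorem no_qd (n : ℕ) : ∀ (G : Type u) [Group G] [Finite G], Nat.card G = n →
    Group.IsPerfect G → CO G → ∀ S : Sylow 2 G, ¬ IsQuasiDihedral (S : Subgroup G) := by
  induction n using Nat.strong_induction_on with
  | _ n ih =>
  intro G _ _ hn hP hC S hS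
  have ih' : ∀ M : Subgroup G, M ≠ ⊤ → ∀ (K : Type u) [Group K] (f : K →* M),
      Function.Injective f → Group.IsPerfect K → ∀ T : Sylow 2 K,
      ¬ IsQuasiDihedral (T : Subgroup K) := fun M hM K _ f hf hK T => by
    have := Finite.of_injective f hf
    refine ih _ ?_ K rfl hK ((hC.sub M).of_injective f hf) T
    rw [← hn]
    exact (Nat.card_le_card_of_injective f hf).trans_lt 
      ((card_le_card_group M).lt_of_ne fun e => hM (eq_top_of_card_eq M e))
  obtain ⟨k, x, y, h⟩ := QD.of_isQuasiDihedral hS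
  have := qd_simple hP hC h
  have hG := H22.index_ne_two_of_perfect hP
  obtain ⟨g, hg⟩ := isConj_iff.1 (H43.QD.conj_z h hG h.ordy).symm
  set H := centralizer ({qz k x} : Set G) with hH
  have hSH : (S : Subgroup G) ≤ H := fun s hs => mem_centralizer_singleton_iff.2 (h.z_comm hs)
  have h' : QD ((S.subtype hSH : Sylow 2 _) : Subgroup H) k _ _ := H43.QD.sub h hSH
  set x' : H := ⟨x, hSH h.hx⟩
  set y' : H := ⟨y, hSH h.hy⟩
  have hz' : ∀ g : H, g * qz k x' = qz k x' * g := fun g =>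
    Subtype.ext (mem_centralizer_singleton_iff.1 g.2)
  have hHt : H ≠ ⊤ := fun e => qd_y_ne_z h (by
    rw [← hg, mem_centralizer_singleton_iff.1 (e ▸ mem_top g : g ∈ H), mul_inv_cancel_right])
  have hidx := card_mul_index H
  obtain ⟨E, _, hE, -, hE0⟩ := H22.exists_residual H
  by_cases hb : E = ⊥
  · obtain ⟨e⟩ := H76.exists_equiv_of_QD h (hE0 hb)
    have : Fact (Nat.Prime 3) := ⟨Nat.prime_three⟩
    have h1 : e (qz k x') = H76.GL23.z := (H76.GL23.eq_one_or_z_of_central _ fun c => by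
      obtain ⟨c, rfl⟩ := e.surjective c
      rw [← map_mul, ← map_mul, hz']).resolve_left (mt e.map_eq_one_iff.1 h'.z_ne_one)
    refine hC.not_dvd_index (r := 3) (by norm_num) h.ord_z (w := e.symm H76.GL23.dd)
      (by rw [orderOf_coe, e.symm.orderOf_eq]; exact orderOf_eq_prime (by decide) (by decide))
      (mem_centralizer_singleton_iff.1 (e.symm _).2).symm (fun u u2 c1 c2 => ?_) ?_
    · have key : ∀ v : H76.GL23, v * v = 1 → v * H76.GL23.dd = H76.GL23.dd * v →
          v = 1 ∨ v = H76.GL23.z := by decide +kernel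
      let u' : H := ⟨u, mem_centralizer_singleton_iff.2 c2⟩
      refine (key (e u') (by rw [← map_mul, show u' * u' = 1 from Subtype.ext u2, map_one])
        ?_).imp (fun h2 => congrArg Subtype.val (e.map_eq_one_iff.1 h2))
        fun h2 => congrArg Subtype.val (e.injective (h2.trans h1.symm))
      rw [← e.apply_symm_apply H76.GL23.dd, ← map_mul, ← map_mul]
      exact congrArg e (Subtype.ext c1)
    · rw [Nat.card_congr e.toEquiv, H76.GL23.natCard_eq] at hidx
      change 3 ∣ H.index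
      rcases (H76.card_of_equiv h.ord_z e).2 with h2 | h2 <;> omega
  have hEp := H22.isPerfect_of_commutator_eq hE
  have : Nontrivial E := (nontrivial_iff_ne_bot E).2 hb
  obtain ⟨p, hp, h5, e⟩ := (perfect_cases hEp ((hC.sub H).sub E) ((qd_C2 h').sub E)).resolve_left
    fun ⟨T, hT⟩ => ih' H hHt E E.subtype E.subtype_injective hEp T hT
  obtain ⟨X, τ, m, h1, h2, h3, h4, ⟨e⟩, hzE, hSE, hcE, hcH, hcop, hcen, hcy, hlast⟩ :=
    qd_cent h' hz' (hC.sub H) hE h5 e
  have hU : Nat.card ↥(H ⊓ centralizer {y}) = 4 * m := by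
    refine (card_inf_cent H y').trans (hcy fun a ha c => ?_)
    set E₁ := E.map H.subtype
    have hE₁ : ⁅E₁, E₁⁆ = E₁ := by rw [← map_commutator, hE]
    set E₂ := E₁.map (MulAut.conj g).toMonoidHom
    have hE₂ : ⁅E₂, E₂⁆ = E₂ := by rw [← map_commutator, hE₁]
    have hSM : (S : Subgroup G) ≤ E₁ ⊔ E₂ := fun s hs => by
      have h6 := mem_map_of_mem H.subtype (hSE (x := ⟨s, hSH hs⟩) hs)
      rw [Subgroup.map_sup, MonoidHom.map_zpowers] at h6
      refine sup_le_sup_left (zpowers_le.2 ?_) _ h6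
      exact ⟨_, ⟨_, hzE, rfl⟩, hg⟩
    have hM : E₁ ⊔ E₂ = ⊤ := by
      by_contra hM
      refine ih' _ hM _ (MonoidHom.id _) Function.injective_id
        (H22.isPerfect_of_commutator_eq (le_antisymm (commutator_le_self _) (sup_le ?_ ?_)))
        (S.subtype hSM) (isQuasiDihedral_of_equiv (subgroupOfEquivOfLe hSM).symm hS)
      · exact hE₁.ge.trans (commutator_mono le_sup_left le_sup_left)
      · exact hE₂.ge.trans (commutator_mono le_sup_right le_sup_right)
    have ho : (orderOf a).Coprime (Nat.card E) :=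
      hcop.coprime_dvd_left (Subgroup.orderOf_dvd_natCard _ ha)
    have hb : g⁻¹ * a * g ∈ H := mem_centralizer_singleton_iff.2 (by
      have h6 : (a : G) * y = y * a := congrArg Subtype.val c
      rw [← hg] at h6
      calc g⁻¹ * a * g * qz k x = g⁻¹ * (a * (g * qz k x * g⁻¹)) * g := by group
        _ = _ := by rw [h6]; group)
    have h7 := hcen ⟨_, hb⟩ (by
      have := orderOf_injective (MulAut.conj g⁻¹).toMonoidHom (MulAut.conj g⁻¹).injective (a : G)
      simp only [MulEquiv.toMonoidHom_eq_coe, MonoidHom.coe_coe, MulAut.conj_apply, inv_inv] at this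
      rwa [← orderOf_coe, this, orderOf_coe])
    have h8 : (a : G) ∈ center G := by
      refine mem_center_iff.2 fun c => mem_centralizer_singleton_iff.1
        (sup_le (c := centralizer {(a : G)}) ?_ ?_ (hM ▸ mem_top c : c ∈ E₁ ⊔ E₂))
      · rintro _ ⟨c, hc, rfl⟩
        exact mem_centralizer_singleton_iff.2 (congrArg Subtype.val (hcen a ho c hc))
      · rintro _ ⟨_, ⟨c, hc, rfl⟩, rfl⟩
        have h9 : (c : G) * (g⁻¹ * a * g) = g⁻¹ * a * g * c := congrArg Subtype.val (h7 c hc)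
        refine mem_centralizer_singleton_iff.2 ?_
        change g * c * g⁻¹ * a = a * (g * c * g⁻¹)
        calc g * c * g⁻¹ * a = g * (c * (g⁻¹ * a * g)) * g⁻¹ := by group
          _ = _ := by rw [h9]; group
    have h9 := H8.le_pPrimeCore_two (H8.normal_zpowers_of_central h8) (by
      rw [Nat.card_zpowers, orderOf_coe]
      exact Nat.coprime_two_right.1 (ho.coprime_dvd_right (hcE ▸ ⟨2 * τ * m * p, by ring⟩)))
      (mem_zpowers _)
    rw [hC.core_eq_bot hP] at h9
    exact Subtype.ext (mem_bot.1 h9)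
  let π := QuotientGroup.mk' (oddCore H)
  have : (E.map π).Normal := Normal.map inferInstance π (QuotientGroup.mk'_surjective _)
  have hπ : Function.Injective (π.subgroupMap E) := by
    rw [injective_iff_map_eq_one]
    intro a ha
    have h6 : (a : H) ∈ oddCore H := (QuotientGroup.eq_one_iff _).1 (congrArg Subtype.val ha)
    have h7 := ((hC.sub H).sub E).core_eq_bot hEp
    rw [H22.pPrimeCore_of_normal] at h7
    exact mem_bot.1 (h7 ▸ h6 : a ∈ (⊥ : Subgroup E))
  obtain ⟨Q, a, c, W, hQ, hd, hW, ha, -, hc, e1, e2⟩ := qd_equations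
    (hom_eq_one_of_simple (Group.IsPerfect.not_isMulCommutative G)) h (hSH h.hy) h.ordy
    (qd_y_ne_z h) (p := p) (by omega) (F := ZMod p) (E.map π)
    ((MulEquiv.ofBijective _ ⟨hπ, π.subgroupMap_surjective E⟩).symm.trans e)
  rw [ZMod.card] at hQ
  have hd' : (4 : ℤ) ∣ Q + 1 := (dvd_mul_right _ _).trans hd
  rw [Nat.even_iff] at h2
  rw [Nat.odd_iff] at h3
  have hQS : Q * (Q + 1) = p * (2 * τ) ∧ (Q + 1) ^ 2 = 4 * τ ^ 2 ∧ Q ^ 2 = p ^ 2 := by
    rcases hQ with rfl | rfl
    · rw [show (p : ℤ) + 1 = 2 * τ by omega]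
      exact ⟨rfl, by ring, rfl⟩
    · rw [show -(p : ℤ) + 1 = -(2 * τ) by omega]
      exact ⟨by ring, by ring, by ring⟩
  have hX0 : Nat.card X ≠ 0 := Nat.card_pos.ne'
  have hWN : W * H.index = ((Q * (Q + 1) ^ 3 * (Nat.card X) ^ 2 : ℤ) : ℂ) := by
    change W * (Nat.card ↥(H ⊓ centralizer {y}) ^ 2 * _ * _) = Nat.card H ^ 3 * _ at hW
    have h6 : ((Q : ℂ) + 1) ^ 2 = 4 * τ ^ 2 := by exact_mod_cast hQS.2.1
    have h7 : (Q : ℂ) ^ 2 = p ^ 2 := by exact_mod_cast hQS.2.2
    have h8 : (Nat.card H : ℂ) = 2 * Nat.card X * (4 * τ * m * p) := by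
      rw [hcH, hcE]; push_cast; ring
    have h9 : (16 * m ^ 2 * Nat.card H * Q : ℂ) ≠ 0 := by
      refine mul_ne_zero (mul_ne_zero (mul_ne_zero (by norm_num) (pow_ne_zero _ ?_)) ?_) ?_
      · exact Nat.cast_ne_zero.2 (by omega)
      · exact Nat.cast_ne_zero.2 Nat.card_pos.ne'
      · exact Int.cast_ne_zero.2 (by omega)
    refine mul_left_cancel₀ h9 ?_
    rw [hU, ← hidx] at hW
    push_cast at hW ⊢
    have h10 : (Nat.card H : ℂ) ^ 2 = 16 * m ^ 2 * (Nat.card X) ^ 2 * Q ^ 2 * (Q + 1) ^ 2 := by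
      rw [h6, h7, h8]; ring
    linear_combination hW + (Nat.card H : ℂ) * (Q + 1) * h10
  have hcop' : H.index.Coprime (p * (2 * τ) * Nat.card X) := by
    refine Nat.coprime_of_dvd fun r hr h6 h7 => ?_
    by_cases hr2 : r = 2
    · rw [hr2] at h6
      exact S.not_dvd_index (h6.trans (index_dvd_of_le hSH))
    refine qd_not_dvd_index h hC hr hr2 (hSH h.hy) h.ordy (qd_y_ne_z h)
      (h7.trans (hcH ▸ hcE ▸ ⟨4 * m, by ring⟩)) (fun h8 => ?_) h6
    have hro := Nat.coprime_two_right.2 (hr.odd_of_ne_two hr2)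
    have h9 : r ∣ m := (hro.pow_right 2).dvd_of_dvd_mul_left (hU ▸ h8)
    have h10 : ¬ r ∣ τ := fun h10 => hr.not_dvd_one (by
      rcases h4 with e | e
      · exact (Nat.dvd_add_right h10).1 (e ▸ h9)
      · exact (Nat.dvd_add_right h9).1 (e ▸ h10))
    rcases (Nat.Prime.dvd_mul hr).1 h7 with h11 | h11
    · rcases (Nat.Prime.dvd_mul hr).1 h11 with h12 | h12
      · exact h10 ((Nat.dvd_add_left h9).1 (h1 ▸ h12))
      · exact h10 (hro.dvd_of_dvd_mul_left h12)
    · exact hr.not_dvd_one (hcop ▸ Nat.dvd_gcd h11 (h9.trans (hcE ▸ ⟨4 * τ * p, by ring⟩)))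
  obtain ⟨rfl, hX, hN⟩ := wong_arith (N := H.index) (c := c) hp.out h5 hQ hX0
    (by rw [hQS.1]; exact_mod_cast Nat.isCoprime_iff_coprime.2 hcop') ha hc
    (by
      apply Int.cast_injective (α := ℂ)
      push_cast at hWN ⊢
      linear_combination (H.index : ℂ) * e1 - (a * (a + 1)) * hWN)
    (by
      apply Int.cast_injective (α := ℂ)
      push_cast at hWN ⊢
      linear_combination (H.index : ℂ) * e2 - (a * c * (c - a)) * hWN)
  obtain ⟨rfl, rfl⟩ : τ = 2 ∧ m = 3 := by omega
  have hH240 : Nat.card H = 240 := by rw [hcH, hcE, hX]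
  obtain ⟨w, hw⟩ := exists_prime_orderOf_dvd_card' (G := H) 5 (by rw [hH240]; norm_num)
  refine wong_85680 (by rw [← hidx, hH240, hN])
    (fun u hu => (card_cent_of_isConj (H43.QD.conj_z h hG hu)).trans hH240) h.ord_z
    ((orderOf_coe w).trans hw) (mem_centralizer_singleton_iff.1 w.2).symm
    (fun v c1 c2 => congrArg Subtype.val (hlast hX w hw ⟨v, mem_centralizer_singleton_iff.2 c1⟩
      (Subtype.ext c2)))
    (qd_inv_cent h (hSH h.hy) h.ordy (qd_y_ne_z h) w.2 (by rw [orderOf_coe, hw, hU]; norm_num))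

end Cfsg.Agent.H30
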